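import Groth.Agent.Lib.helper4.G7.Defs

/-!
# Genus one classification on 7 indices: generated case analysis, part 11 (helper4)
-/

set_option autoImplicit false
set_option maxHeartbeats 1000000
set_option linter.unusedVariables false

namespace Groth.Agent.Lib.helper4.G7

open Groth.Agent.Lib.helper4

theorem nd_589 (T : Models.NumericalType 7)
    (hG : NTGood T)
    (hmax : ∀ j, T.m j ≤ T.m 0)
    (e_0_1 : T.picMatrix 0 1 = 1)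
    (e_0_2 : T.picMatrix 0 2 = 2)
    (e_0_3 : T.picMatrix 0 3 = 0)
    (e_0_4 : T.picMatrix 0 4 = 0)
    (e_1_0 : T.picMatrix 1 0 = 1)
    (e_1_2 : T.picMatrix 1 2 = 0)
    (e_1_3 : T.picMatrix 1 3 = 1)
    (e_1_4 : T.picMatrix 1 4 = 0)
    (e_2_0 : T.picMatrix 2 0 = 1)
    (e_2_1 : T.picMatrix 2 1 = 0)
    (e_2_3 : T.picMatrix 2 3 = 0)
    (e_2_4 : T.picMatrix 2 4 = 0)
    (e_3_0 : T.picMatrix 3 0 = 0)
    (e_3_1 : T.picMatrix 3 1 = 1)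
    (e_3_2 : T.picMatrix 3 2 = 0)
    (e_3_4 : T.picMatrix 3 4 = 1)
    (e_4_0 : T.picMatrix 4 0 = 0)
    (e_4_1 : T.picMatrix 4 1 = 0)
    (e_4_2 : T.picMatrix 4 2 = 0)
    (e_4_3 : T.picMatrix 4 3 = 1)
    (cl : ∀ a b : Fin 7, a.val < 5 → 5 ≤ b.val → T.picMatrix a b = 0) :
    Goal T := by
  obtain ⟨hg0, hdA, hdP, hnn, hrow, hsym, hpair⟩ := ntgood_data T (by norm_num) hG
  have hm_0 := T.m_pos 0
  have hw_0 := T.w_pos 0
  have hm_1 := T.m_pos 1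
  have hw_1 := T.w_pos 1
  have hm_2 := T.m_pos 2
  have hw_2 := T.w_pos 2
  have hm_3 := T.m_pos 3
  have hw_3 := T.w_pos 3
  have hm_4 := T.m_pos 4
  have hw_4 := T.w_pos 4
  have hx_1 := hmax 1
  have hx_2 := hmax 2
  have hx_3 := hmax 3
  have hx_4 := hmax 4
  have Z_0_5 := cl 0 5 (by decide) (by decide)
  have Z_0_6 := cl 0 6 (by decide) (by decide)
  have Z_1_5 := cl 1 5 (by decide) (by decide)
  have Z_1_6 := cl 1 6 (by decide) (by decide)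
  have Z_2_5 := cl 2 5 (by decide) (by decide)
  have Z_2_6 := cl 2 6 (by decide) (by decide)
  have Z_3_5 := cl 3 5 (by decide) (by decide)
  have Z_3_6 := cl 3 6 (by decide) (by decide)
  have Z_4_5 := cl 4 5 (by decide) (by decide)
  have Z_4_6 := cl 4 6 (by decide) (by decide)
  have R_0 := hrow 0
  rw [Fin.sum_univ_seven, hdP 0, e_0_1, e_0_2, e_0_3, e_0_4, Z_0_5, Z_0_6] at R_0
  have R_1 := hrow 1
  rw [Fin.sum_univ_seven, hdP 1, e_1_0, e_1_2, e_1_3, e_1_4, Z_1_5, Z_1_6] at R_1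
  have R_2 := hrow 2
  rw [Fin.sum_univ_seven, hdP 2, e_2_0, e_2_1, e_2_3, e_2_4, Z_2_5, Z_2_6] at R_2
  have R_3 := hrow 3
  rw [Fin.sum_univ_seven, hdP 3, e_3_0, e_3_1, e_3_2, e_3_4, Z_3_5, Z_3_6] at R_3
  have R_4 := hrow 4
  rw [Fin.sum_univ_seven, hdP 4, e_4_0, e_4_1, e_4_2, e_4_3, Z_4_5, Z_4_6] at R_4
  have S_0_1 := hsym 0 1
  rw [e_0_1, e_1_0] at S_0_1
  have S_0_2 := hsym 0 2
  rw [e_0_2, e_2_0] at S_0_2
  have S_0_3 := hsym 0 3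
  rw [e_0_3, e_3_0] at S_0_3
  have S_0_4 := hsym 0 4
  rw [e_0_4, e_4_0] at S_0_4
  have S_1_2 := hsym 1 2
  rw [e_1_2, e_2_1] at S_1_2
  have S_1_3 := hsym 1 3
  rw [e_1_3, e_3_1] at S_1_3
  have S_1_4 := hsym 1 4
  rw [e_1_4, e_4_1] at S_1_4
  have S_2_3 := hsym 2 3
  rw [e_2_3, e_3_2] at S_2_3
  have S_2_4 := hsym 2 4
  rw [e_2_4, e_4_2] at S_2_4
  have S_3_4 := hsym 3 4
  rw [e_3_4, e_4_3] at S_3_4
  exfalso
  omega

theorem nd_593 (T : Models.NumericalType 7)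
    (hG : NTGood T)
    (hmax : ∀ j, T.m j ≤ T.m 0)
    (e_0_1 : T.picMatrix 0 1 = 1)
    (e_0_2 : T.picMatrix 0 2 = 2)
    (e_0_3 : T.picMatrix 0 3 = 0)
    (e_0_4 : T.picMatrix 0 4 = 0)
    (e_0_5 : T.picMatrix 0 5 = 0)
    (e_1_0 : T.picMatrix 1 0 = 1)
    (e_1_2 : T.picMatrix 1 2 = 0)
    (e_1_3 : T.picMatrix 1 3 = 1)
    (e_1_4 : T.picMatrix 1 4 = 0)
    (e_1_5 : T.picMatrix 1 5 = 0)
    (e_2_0 : T.picMatrix 2 0 = 1)
    (e_2_1 : T.picMatrix 2 1 = 0)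
    (e_2_3 : T.picMatrix 2 3 = 0)
    (e_2_4 : T.picMatrix 2 4 = 0)
    (e_2_5 : T.picMatrix 2 5 = 0)
    (e_3_0 : T.picMatrix 3 0 = 0)
    (e_3_1 : T.picMatrix 3 1 = 1)
    (e_3_2 : T.picMatrix 3 2 = 0)
    (e_3_4 : T.picMatrix 3 4 = 1)
    (e_3_5 : T.picMatrix 3 5 = 0)
    (e_4_0 : T.picMatrix 4 0 = 0)
    (e_4_1 : T.picMatrix 4 1 = 0)
    (e_4_2 : T.picMatrix 4 2 = 0)
    (e_4_3 : T.picMatrix 4 3 = 1)
    (e_4_5 : T.picMatrix 4 5 = 1)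
    (e_5_0 : T.picMatrix 5 0 = 0)
    (e_5_1 : T.picMatrix 5 1 = 0)
    (e_5_2 : T.picMatrix 5 2 = 0)
    (e_5_3 : T.picMatrix 5 3 = 0)
    (e_5_4 : T.picMatrix 5 4 = 1)
    (cl : ∀ a b : Fin 7, a.val < 6 → 6 ≤ b.val → T.picMatrix a b = 0) :
    Goal T := by
  obtain ⟨hg0, hdA, hdP, hnn, hrow, hsym, hpair⟩ := ntgood_data T (by norm_num) hG
  have hm_0 := T.m_pos 0
  have hw_0 := T.w_pos 0
  have hm_1 := T.m_pos 1
  have hw_1 := T.w_pos 1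
  have hm_2 := T.m_pos 2
  have hw_2 := T.w_pos 2
  have hm_3 := T.m_pos 3
  have hw_3 := T.w_pos 3
  have hm_4 := T.m_pos 4
  have hw_4 := T.w_pos 4
  have hm_5 := T.m_pos 5
  have hw_5 := T.w_pos 5
  have hx_1 := hmax 1
  have hx_2 := hmax 2
  have hx_3 := hmax 3
  have hx_4 := hmax 4
  have hx_5 := hmax 5
  have Z_0_6 := cl 0 6 (by decide) (by decide)
  have Z_1_6 := cl 1 6 (by decide) (by decide)
  have Z_2_6 := cl 2 6 (by decide) (by decide)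
  have Z_3_6 := cl 3 6 (by decide) (by decide)
  have Z_4_6 := cl 4 6 (by decide) (by decide)
  have Z_5_6 := cl 5 6 (by decide) (by decide)
  have R_0 := hrow 0
  rw [Fin.sum_univ_seven, hdP 0, e_0_1, e_0_2, e_0_3, e_0_4, e_0_5, Z_0_6] at R_0
  have R_1 := hrow 1
  rw [Fin.sum_univ_seven, hdP 1, e_1_0, e_1_2, e_1_3, e_1_4, e_1_5, Z_1_6] at R_1
  have R_2 := hrow 2
  rw [Fin.sum_univ_seven, hdP 2, e_2_0, e_2_1, e_2_3, e_2_4, e_2_5, Z_2_6] at R_2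
  have R_3 := hrow 3
  rw [Fin.sum_univ_seven, hdP 3, e_3_0, e_3_1, e_3_2, e_3_4, e_3_5, Z_3_6] at R_3
  have R_4 := hrow 4
  rw [Fin.sum_univ_seven, hdP 4, e_4_0, e_4_1, e_4_2, e_4_3, e_4_5, Z_4_6] at R_4
  have R_5 := hrow 5
  rw [Fin.sum_univ_seven, hdP 5, e_5_0, e_5_1, e_5_2, e_5_3, e_5_4, Z_5_6] at R_5
  have S_0_1 := hsym 0 1
  rw [e_0_1, e_1_0] at S_0_1
  have S_0_2 := hsym 0 2
  rw [e_0_2, e_2_0] at S_0_2
  have S_0_3 := hsym 0 3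
  rw [e_0_3, e_3_0] at S_0_3
  have S_0_4 := hsym 0 4
  rw [e_0_4, e_4_0] at S_0_4
  have S_0_5 := hsym 0 5
  rw [e_0_5, e_5_0] at S_0_5
  have S_1_2 := hsym 1 2
  rw [e_1_2, e_2_1] at S_1_2
  have S_1_3 := hsym 1 3
  rw [e_1_3, e_3_1] at S_1_3
  have S_1_4 := hsym 1 4
  rw [e_1_4, e_4_1] at S_1_4
  have S_1_5 := hsym 1 5
  rw [e_1_5, e_5_1] at S_1_5
  have S_2_3 := hsym 2 3
  rw [e_2_3, e_3_2] at S_2_3
  have S_2_4 := hsym 2 4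
  rw [e_2_4, e_4_2] at S_2_4
  have S_2_5 := hsym 2 5
  rw [e_2_5, e_5_2] at S_2_5
  have S_3_4 := hsym 3 4
  rw [e_3_4, e_4_3] at S_3_4
  have S_3_5 := hsym 3 5
  rw [e_3_5, e_5_3] at S_3_5
  have S_4_5 := hsym 4 5
  rw [e_4_5, e_5_4] at S_4_5
  exfalso
  omega

theorem nd_595 (T : Models.NumericalType 7)
    (hG : NTGood T)
    (hmax : ∀ j, T.m j ≤ T.m 0)
    (e_0_1 : T.picMatrix 0 1 = 1)
    (e_0_2 : T.picMatrix 0 2 = 2)
    (e_0_3 : T.picMatrix 0 3 = 0)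
    (e_0_4 : T.picMatrix 0 4 = 0)
    (e_0_5 : T.picMatrix 0 5 = 0)
    (e_0_6 : T.picMatrix 0 6 = 0)
    (e_1_0 : T.picMatrix 1 0 = 1)
    (e_1_2 : T.picMatrix 1 2 = 0)
    (e_1_3 : T.picMatrix 1 3 = 1)
    (e_1_4 : T.picMatrix 1 4 = 0)
    (e_1_5 : T.picMatrix 1 5 = 0)
    (e_1_6 : T.picMatrix 1 6 = 0)
    (e_2_0 : T.picMatrix 2 0 = 1)
    (e_2_1 : T.picMatrix 2 1 = 0)
    (e_2_3 : T.picMatrix 2 3 = 0)
    (e_2_4 : T.picMatrix 2 4 = 0)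
    (e_2_5 : T.picMatrix 2 5 = 0)
    (e_2_6 : T.picMatrix 2 6 = 0)
    (e_3_0 : T.picMatrix 3 0 = 0)
    (e_3_1 : T.picMatrix 3 1 = 1)
    (e_3_2 : T.picMatrix 3 2 = 0)
    (e_3_4 : T.picMatrix 3 4 = 1)
    (e_3_5 : T.picMatrix 3 5 = 0)
    (e_3_6 : T.picMatrix 3 6 = 0)
    (e_4_0 : T.picMatrix 4 0 = 0)
    (e_4_1 : T.picMatrix 4 1 = 0)
    (e_4_2 : T.picMatrix 4 2 = 0)
    (e_4_3 : T.picMatrix 4 3 = 1)
    (e_4_5 : T.picMatrix 4 5 = 1)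
    (e_4_6 : T.picMatrix 4 6 = 0)
    (e_5_0 : T.picMatrix 5 0 = 0)
    (e_5_1 : T.picMatrix 5 1 = 0)
    (e_5_2 : T.picMatrix 5 2 = 0)
    (e_5_3 : T.picMatrix 5 3 = 0)
    (e_5_4 : T.picMatrix 5 4 = 1)
    (e_5_6 : T.picMatrix 5 6 = 1)
    (e_6_0 : T.picMatrix 6 0 = 0)
    (e_6_1 : T.picMatrix 6 1 = 0)
    (e_6_2 : T.picMatrix 6 2 = 0)
    (e_6_3 : T.picMatrix 6 3 = 0)
    (e_6_4 : T.picMatrix 6 4 = 0)
    (e_6_5 : T.picMatrix 6 5 = 2)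
    (cl : ∀ a b : Fin 7, a.val < 5 → 7 ≤ b.val → T.picMatrix a b = 0) :
    Goal T := by
  obtain ⟨hg0, hdA, hdP, hnn, hrow, hsym, hpair⟩ := ntgood_data T (by norm_num) hG
  have hm_0 := T.m_pos 0
  have hw_0 := T.w_pos 0
  have hm_1 := T.m_pos 1
  have hw_1 := T.w_pos 1
  have hm_2 := T.m_pos 2
  have hw_2 := T.w_pos 2
  have hm_3 := T.m_pos 3
  have hw_3 := T.w_pos 3
  have hm_4 := T.m_pos 4
  have hw_4 := T.w_pos 4
  have hm_5 := T.m_pos 5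
  have hw_5 := T.w_pos 5
  have hm_6 := T.m_pos 6
  have hw_6 := T.w_pos 6
  have hx_1 := hmax 1
  have hx_2 := hmax 2
  have hx_3 := hmax 3
  have hx_4 := hmax 4
  have hx_5 := hmax 5
  have hx_6 := hmax 6
  have R_0 := hrow 0
  rw [Fin.sum_univ_seven, hdP 0, e_0_1, e_0_2, e_0_3, e_0_4, e_0_5, e_0_6] at R_0
  have R_1 := hrow 1
  rw [Fin.sum_univ_seven, hdP 1, e_1_0, e_1_2, e_1_3, e_1_4, e_1_5, e_1_6] at R_1
  have R_2 := hrow 2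
  rw [Fin.sum_univ_seven, hdP 2, e_2_0, e_2_1, e_2_3, e_2_4, e_2_5, e_2_6] at R_2
  have R_3 := hrow 3
  rw [Fin.sum_univ_seven, hdP 3, e_3_0, e_3_1, e_3_2, e_3_4, e_3_5, e_3_6] at R_3
  have R_4 := hrow 4
  rw [Fin.sum_univ_seven, hdP 4, e_4_0, e_4_1, e_4_2, e_4_3, e_4_5, e_4_6] at R_4
  have R_5 := hrow 5
  rw [Fin.sum_univ_seven, hdP 5, e_5_0, e_5_1, e_5_2, e_5_3, e_5_4, e_5_6] at R_5
  have R_6 := hrow 6
  rw [Fin.sum_univ_seven, hdP 6, e_6_0, e_6_1, e_6_2, e_6_3, e_6_4, e_6_5] at R_6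
  have S_0_1 := hsym 0 1
  rw [e_0_1, e_1_0] at S_0_1
  have S_0_2 := hsym 0 2
  rw [e_0_2, e_2_0] at S_0_2
  have S_0_3 := hsym 0 3
  rw [e_0_3, e_3_0] at S_0_3
  have S_0_4 := hsym 0 4
  rw [e_0_4, e_4_0] at S_0_4
  have S_0_5 := hsym 0 5
  rw [e_0_5, e_5_0] at S_0_5
  have S_0_6 := hsym 0 6
  rw [e_0_6, e_6_0] at S_0_6
  have S_1_2 := hsym 1 2
  rw [e_1_2, e_2_1] at S_1_2
  have S_1_3 := hsym 1 3
  rw [e_1_3, e_3_1] at S_1_3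
  have S_1_4 := hsym 1 4
  rw [e_1_4, e_4_1] at S_1_4
  have S_1_5 := hsym 1 5
  rw [e_1_5, e_5_1] at S_1_5
  have S_1_6 := hsym 1 6
  rw [e_1_6, e_6_1] at S_1_6
  have S_2_3 := hsym 2 3
  rw [e_2_3, e_3_2] at S_2_3
  have S_2_4 := hsym 2 4
  rw [e_2_4, e_4_2] at S_2_4
  have S_2_5 := hsym 2 5
  rw [e_2_5, e_5_2] at S_2_5
  have S_2_6 := hsym 2 6
  rw [e_2_6, e_6_2] at S_2_6
  have S_3_4 := hsym 3 4
  rw [e_3_4, e_4_3] at S_3_4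
  have S_3_5 := hsym 3 5
  rw [e_3_5, e_5_3] at S_3_5
  have S_3_6 := hsym 3 6
  rw [e_3_6, e_6_3] at S_3_6
  have S_4_5 := hsym 4 5
  rw [e_4_5, e_5_4] at S_4_5
  have S_4_6 := hsym 4 6
  rw [e_4_6, e_6_4] at S_4_6
  have S_5_6 := hsym 5 6
  rw [e_5_6, e_6_5] at S_5_6
  have D_0 := hdA 0
  have A_0_1 := nt_a_eq T 0 1
  rw [e_0_1] at A_0_1
  have A_0_2 := nt_a_eq T 0 2
  rw [e_0_2] at A_0_2
  have A_0_3 := nt_a_eq T 0 3
  rw [e_0_3] at A_0_3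
  have A_0_4 := nt_a_eq T 0 4
  rw [e_0_4] at A_0_4
  have A_0_5 := nt_a_eq T 0 5
  rw [e_0_5] at A_0_5
  have A_0_6 := nt_a_eq T 0 6
  rw [e_0_6] at A_0_6
  have D_1 := hdA 1
  have A_1_0 := nt_a_eq T 1 0
  rw [e_1_0] at A_1_0
  have A_1_2 := nt_a_eq T 1 2
  rw [e_1_2] at A_1_2
  have A_1_3 := nt_a_eq T 1 3
  rw [e_1_3] at A_1_3
  have A_1_4 := nt_a_eq T 1 4
  rw [e_1_4] at A_1_4
  have A_1_5 := nt_a_eq T 1 5
  rw [e_1_5] at A_1_5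
  have A_1_6 := nt_a_eq T 1 6
  rw [e_1_6] at A_1_6
  have D_2 := hdA 2
  have A_2_0 := nt_a_eq T 2 0
  rw [e_2_0] at A_2_0
  have A_2_1 := nt_a_eq T 2 1
  rw [e_2_1] at A_2_1
  have A_2_3 := nt_a_eq T 2 3
  rw [e_2_3] at A_2_3
  have A_2_4 := nt_a_eq T 2 4
  rw [e_2_4] at A_2_4
  have A_2_5 := nt_a_eq T 2 5
  rw [e_2_5] at A_2_5
  have A_2_6 := nt_a_eq T 2 6
  rw [e_2_6] at A_2_6
  have D_3 := hdA 3
  have A_3_0 := nt_a_eq T 3 0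
  rw [e_3_0] at A_3_0
  have A_3_1 := nt_a_eq T 3 1
  rw [e_3_1] at A_3_1
  have A_3_2 := nt_a_eq T 3 2
  rw [e_3_2] at A_3_2
  have A_3_4 := nt_a_eq T 3 4
  rw [e_3_4] at A_3_4
  have A_3_5 := nt_a_eq T 3 5
  rw [e_3_5] at A_3_5
  have A_3_6 := nt_a_eq T 3 6
  rw [e_3_6] at A_3_6
  have D_4 := hdA 4
  have A_4_0 := nt_a_eq T 4 0
  rw [e_4_0] at A_4_0
  have A_4_1 := nt_a_eq T 4 1
  rw [e_4_1] at A_4_1
  have A_4_2 := nt_a_eq T 4 2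
  rw [e_4_2] at A_4_2
  have A_4_3 := nt_a_eq T 4 3
  rw [e_4_3] at A_4_3
  have A_4_5 := nt_a_eq T 4 5
  rw [e_4_5] at A_4_5
  have A_4_6 := nt_a_eq T 4 6
  rw [e_4_6] at A_4_6
  have D_5 := hdA 5
  have A_5_0 := nt_a_eq T 5 0
  rw [e_5_0] at A_5_0
  have A_5_1 := nt_a_eq T 5 1
  rw [e_5_1] at A_5_1
  have A_5_2 := nt_a_eq T 5 2
  rw [e_5_2] at A_5_2
  have A_5_3 := nt_a_eq T 5 3
  rw [e_5_3] at A_5_3
  have A_5_4 := nt_a_eq T 5 4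
  rw [e_5_4] at A_5_4
  have A_5_6 := nt_a_eq T 5 6
  rw [e_5_6] at A_5_6
  have D_6 := hdA 6
  have A_6_0 := nt_a_eq T 6 0
  rw [e_6_0] at A_6_0
  have A_6_1 := nt_a_eq T 6 1
  rw [e_6_1] at A_6_1
  have A_6_2 := nt_a_eq T 6 2
  rw [e_6_2] at A_6_2
  have A_6_3 := nt_a_eq T 6 3
  rw [e_6_3] at A_6_3
  have A_6_4 := nt_a_eq T 6 4
  rw [e_6_4] at A_6_4
  have A_6_5 := nt_a_eq T 6 5
  rw [e_6_5] at A_6_5
  refine goal_of_indices T hg0 6 5 4 3 1 0 2 (by decide) (T.m 2) (T.w 6) ?_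
  unfold Goali
  exact Or.inr (Or.inl ⟨(by linear_combination (5) * R_0 + (4) * R_1 + (6) * R_2 + (3) * R_3 + (2) * R_4 + (1) * R_5),
      (by linear_combination (4) * R_0 + (3) * R_1 + (5) * R_2 + (2) * R_3 + (1) * R_4),
      (by linear_combination (3) * R_0 + (2) * R_1 + (4) * R_2 + (1) * R_3),
      (by linear_combination (2) * R_0 + (1) * R_1 + (3) * R_2),
      (by linear_combination (1) * R_0 + (2) * R_2),
      (by linear_combination (1) * R_2),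
      rfl,
      rfl,
      (by linear_combination (1) * S_5_6),
      (by linear_combination (1) * S_4_5 + (1) * S_5_6),
      (by linear_combination (1) * S_3_4 + (1) * S_4_5 + (1) * S_5_6),
      (by linear_combination (1) * S_1_3 + (1) * S_3_4 + (1) * S_4_5 + (1) * S_5_6),
      (by linear_combination (1) * S_0_1 + (1) * S_1_3 + (1) * S_3_4 + (1) * S_4_5 + (1) * S_5_6),
      (by linear_combination (2) * S_0_1 + (-1) * S_0_2 + (2) * S_1_3 + (2) * S_3_4 + (2) * S_4_5 + (2) * S_5_6),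
      (by linear_combination (1) * D_6),
      (by linear_combination (1) * A_6_5),
      (by linear_combination (1) * A_6_4),
      (by linear_combination (1) * A_6_3),
      (by linear_combination (1) * A_6_1),
      (by linear_combination (1) * A_6_0),
      (by linear_combination (1) * A_6_2),
      (by linear_combination (-2) * S_5_6 + (1) * D_5),
      (by linear_combination (1) * S_5_6 + (1) * A_5_4),
      (by linear_combination (1) * A_5_3),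
      (by linear_combination (1) * A_5_1),
      (by linear_combination (1) * A_5_0),
      (by linear_combination (1) * A_5_2),
      (by linear_combination (-2) * S_4_5 + (-2) * S_5_6 + (1) * D_4),
      (by linear_combination (1) * S_4_5 + (1) * S_5_6 + (1) * A_4_3),
      (by linear_combination (1) * A_4_1),
      (by linear_combination (1) * A_4_0),
      (by linear_combination (1) * A_4_2),
      (by linear_combination (-2) * S_3_4 + (-2) * S_4_5 + (-2) * S_5_6 + (1) * D_3),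
      (by linear_combination (1) * S_3_4 + (1) * S_4_5 + (1) * S_5_6 + (1) * A_3_1),
      (by linear_combination (1) * A_3_0),
      (by linear_combination (1) * A_3_2),
      (by linear_combination (-2) * S_1_3 + (-2) * S_3_4 + (-2) * S_4_5 + (-2) * S_5_6 + (1) * D_1),
      (by linear_combination (1) * S_1_3 + (1) * S_3_4 + (1) * S_4_5 + (1) * S_5_6 + (1) * A_1_0),
      (by linear_combination (1) * A_1_2),
      (by linear_combination (-2) * S_0_1 + (-2) * S_1_3 + (-2) * S_3_4 + (-2) * S_4_5 + (-2) * S_5_6 + (1) * D_0),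
      (by linear_combination (2) * S_0_1 + (2) * S_1_3 + (2) * S_3_4 + (2) * S_4_5 + (2) * S_5_6 + (1) * A_0_2),
      (by linear_combination (-4) * S_0_1 + (2) * S_0_2 + (-4) * S_1_3 + (-4) * S_3_4 + (-4) * S_4_5 + (-4) * S_5_6 + (1) * D_2)⟩)

theorem nd_596 (T : Models.NumericalType 7)
    (hG : NTGood T)
    (hmax : ∀ j, T.m j ≤ T.m 0)
    (e_0_1 : T.picMatrix 0 1 = 1)
    (e_0_2 : T.picMatrix 0 2 = 2)
    (e_0_3 : T.picMatrix 0 3 = 0)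
    (e_0_4 : T.picMatrix 0 4 = 0)
    (e_0_5 : T.picMatrix 0 5 = 0)
    (e_0_6 : T.picMatrix 0 6 = 0)
    (e_1_0 : T.picMatrix 1 0 = 1)
    (e_1_2 : T.picMatrix 1 2 = 0)
    (e_1_3 : T.picMatrix 1 3 = 1)
    (e_1_4 : T.picMatrix 1 4 = 0)
    (e_1_5 : T.picMatrix 1 5 = 0)
    (e_1_6 : T.picMatrix 1 6 = 0)
    (e_2_0 : T.picMatrix 2 0 = 1)
    (e_2_1 : T.picMatrix 2 1 = 0)
    (e_2_3 : T.picMatrix 2 3 = 0)
    (e_2_4 : T.picMatrix 2 4 = 0)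
    (e_2_5 : T.picMatrix 2 5 = 0)
    (e_2_6 : T.picMatrix 2 6 = 0)
    (e_3_0 : T.picMatrix 3 0 = 0)
    (e_3_1 : T.picMatrix 3 1 = 1)
    (e_3_2 : T.picMatrix 3 2 = 0)
    (e_3_4 : T.picMatrix 3 4 = 1)
    (e_3_5 : T.picMatrix 3 5 = 0)
    (e_3_6 : T.picMatrix 3 6 = 0)
    (e_4_0 : T.picMatrix 4 0 = 0)
    (e_4_1 : T.picMatrix 4 1 = 0)
    (e_4_2 : T.picMatrix 4 2 = 0)
    (e_4_3 : T.picMatrix 4 3 = 1)
    (e_4_5 : T.picMatrix 4 5 = 1)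
    (e_4_6 : T.picMatrix 4 6 = 0)
    (e_5_0 : T.picMatrix 5 0 = 0)
    (e_5_1 : T.picMatrix 5 1 = 0)
    (e_5_2 : T.picMatrix 5 2 = 0)
    (e_5_3 : T.picMatrix 5 3 = 0)
    (e_5_4 : T.picMatrix 5 4 = 1)
    (e_5_6 : T.picMatrix 5 6 = 2)
    (e_6_0 : T.picMatrix 6 0 = 0)
    (e_6_1 : T.picMatrix 6 1 = 0)
    (e_6_2 : T.picMatrix 6 2 = 0)
    (e_6_3 : T.picMatrix 6 3 = 0)
    (e_6_4 : T.picMatrix 6 4 = 0)
    (e_6_5 : T.picMatrix 6 5 = 1)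
    (cl : ∀ a b : Fin 7, a.val < 5 → 7 ≤ b.val → T.picMatrix a b = 0) :
    Goal T := by
  obtain ⟨hg0, hdA, hdP, hnn, hrow, hsym, hpair⟩ := ntgood_data T (by norm_num) hG
  have hm_0 := T.m_pos 0
  have hw_0 := T.w_pos 0
  have hm_1 := T.m_pos 1
  have hw_1 := T.w_pos 1
  have hm_2 := T.m_pos 2
  have hw_2 := T.w_pos 2
  have hm_3 := T.m_pos 3
  have hw_3 := T.w_pos 3
  have hm_4 := T.m_pos 4
  have hw_4 := T.w_pos 4
  have hm_5 := T.m_pos 5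
  have hw_5 := T.w_pos 5
  have hm_6 := T.m_pos 6
  have hw_6 := T.w_pos 6
  have hx_1 := hmax 1
  have hx_2 := hmax 2
  have hx_3 := hmax 3
  have hx_4 := hmax 4
  have hx_5 := hmax 5
  have hx_6 := hmax 6
  have R_0 := hrow 0
  rw [Fin.sum_univ_seven, hdP 0, e_0_1, e_0_2, e_0_3, e_0_4, e_0_5, e_0_6] at R_0
  have R_1 := hrow 1
  rw [Fin.sum_univ_seven, hdP 1, e_1_0, e_1_2, e_1_3, e_1_4, e_1_5, e_1_6] at R_1
  have R_2 := hrow 2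
  rw [Fin.sum_univ_seven, hdP 2, e_2_0, e_2_1, e_2_3, e_2_4, e_2_5, e_2_6] at R_2
  have R_3 := hrow 3
  rw [Fin.sum_univ_seven, hdP 3, e_3_0, e_3_1, e_3_2, e_3_4, e_3_5, e_3_6] at R_3
  have R_4 := hrow 4
  rw [Fin.sum_univ_seven, hdP 4, e_4_0, e_4_1, e_4_2, e_4_3, e_4_5, e_4_6] at R_4
  have R_5 := hrow 5
  rw [Fin.sum_univ_seven, hdP 5, e_5_0, e_5_1, e_5_2, e_5_3, e_5_4, e_5_6] at R_5
  have R_6 := hrow 6
  rw [Fin.sum_univ_seven, hdP 6, e_6_0, e_6_1, e_6_2, e_6_3, e_6_4, e_6_5] at R_6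
  have S_0_1 := hsym 0 1
  rw [e_0_1, e_1_0] at S_0_1
  have S_0_2 := hsym 0 2
  rw [e_0_2, e_2_0] at S_0_2
  have S_0_3 := hsym 0 3
  rw [e_0_3, e_3_0] at S_0_3
  have S_0_4 := hsym 0 4
  rw [e_0_4, e_4_0] at S_0_4
  have S_0_5 := hsym 0 5
  rw [e_0_5, e_5_0] at S_0_5
  have S_0_6 := hsym 0 6
  rw [e_0_6, e_6_0] at S_0_6
  have S_1_2 := hsym 1 2
  rw [e_1_2, e_2_1] at S_1_2
  have S_1_3 := hsym 1 3
  rw [e_1_3, e_3_1] at S_1_3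
  have S_1_4 := hsym 1 4
  rw [e_1_4, e_4_1] at S_1_4
  have S_1_5 := hsym 1 5
  rw [e_1_5, e_5_1] at S_1_5
  have S_1_6 := hsym 1 6
  rw [e_1_6, e_6_1] at S_1_6
  have S_2_3 := hsym 2 3
  rw [e_2_3, e_3_2] at S_2_3
  have S_2_4 := hsym 2 4
  rw [e_2_4, e_4_2] at S_2_4
  have S_2_5 := hsym 2 5
  rw [e_2_5, e_5_2] at S_2_5
  have S_2_6 := hsym 2 6
  rw [e_2_6, e_6_2] at S_2_6
  have S_3_4 := hsym 3 4
  rw [e_3_4, e_4_3] at S_3_4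
  have S_3_5 := hsym 3 5
  rw [e_3_5, e_5_3] at S_3_5
  have S_3_6 := hsym 3 6
  rw [e_3_6, e_6_3] at S_3_6
  have S_4_5 := hsym 4 5
  rw [e_4_5, e_5_4] at S_4_5
  have S_4_6 := hsym 4 6
  rw [e_4_6, e_6_4] at S_4_6
  have S_5_6 := hsym 5 6
  rw [e_5_6, e_6_5] at S_5_6
  have D_0 := hdA 0
  have A_0_1 := nt_a_eq T 0 1
  rw [e_0_1] at A_0_1
  have A_0_2 := nt_a_eq T 0 2
  rw [e_0_2] at A_0_2
  have A_0_3 := nt_a_eq T 0 3
  rw [e_0_3] at A_0_3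
  have A_0_4 := nt_a_eq T 0 4
  rw [e_0_4] at A_0_4
  have A_0_5 := nt_a_eq T 0 5
  rw [e_0_5] at A_0_5
  have A_0_6 := nt_a_eq T 0 6
  rw [e_0_6] at A_0_6
  have D_1 := hdA 1
  have A_1_0 := nt_a_eq T 1 0
  rw [e_1_0] at A_1_0
  have A_1_2 := nt_a_eq T 1 2
  rw [e_1_2] at A_1_2
  have A_1_3 := nt_a_eq T 1 3
  rw [e_1_3] at A_1_3
  have A_1_4 := nt_a_eq T 1 4
  rw [e_1_4] at A_1_4
  have A_1_5 := nt_a_eq T 1 5
  rw [e_1_5] at A_1_5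
  have A_1_6 := nt_a_eq T 1 6
  rw [e_1_6] at A_1_6
  have D_2 := hdA 2
  have A_2_0 := nt_a_eq T 2 0
  rw [e_2_0] at A_2_0
  have A_2_1 := nt_a_eq T 2 1
  rw [e_2_1] at A_2_1
  have A_2_3 := nt_a_eq T 2 3
  rw [e_2_3] at A_2_3
  have A_2_4 := nt_a_eq T 2 4
  rw [e_2_4] at A_2_4
  have A_2_5 := nt_a_eq T 2 5
  rw [e_2_5] at A_2_5
  have A_2_6 := nt_a_eq T 2 6
  rw [e_2_6] at A_2_6
  have D_3 := hdA 3
  have A_3_0 := nt_a_eq T 3 0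
  rw [e_3_0] at A_3_0
  have A_3_1 := nt_a_eq T 3 1
  rw [e_3_1] at A_3_1
  have A_3_2 := nt_a_eq T 3 2
  rw [e_3_2] at A_3_2
  have A_3_4 := nt_a_eq T 3 4
  rw [e_3_4] at A_3_4
  have A_3_5 := nt_a_eq T 3 5
  rw [e_3_5] at A_3_5
  have A_3_6 := nt_a_eq T 3 6
  rw [e_3_6] at A_3_6
  have D_4 := hdA 4
  have A_4_0 := nt_a_eq T 4 0
  rw [e_4_0] at A_4_0
  have A_4_1 := nt_a_eq T 4 1
  rw [e_4_1] at A_4_1
  have A_4_2 := nt_a_eq T 4 2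
  rw [e_4_2] at A_4_2
  have A_4_3 := nt_a_eq T 4 3
  rw [e_4_3] at A_4_3
  have A_4_5 := nt_a_eq T 4 5
  rw [e_4_5] at A_4_5
  have A_4_6 := nt_a_eq T 4 6
  rw [e_4_6] at A_4_6
  have D_5 := hdA 5
  have A_5_0 := nt_a_eq T 5 0
  rw [e_5_0] at A_5_0
  have A_5_1 := nt_a_eq T 5 1
  rw [e_5_1] at A_5_1
  have A_5_2 := nt_a_eq T 5 2
  rw [e_5_2] at A_5_2
  have A_5_3 := nt_a_eq T 5 3
  rw [e_5_3] at A_5_3
  have A_5_4 := nt_a_eq T 5 4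
  rw [e_5_4] at A_5_4
  have A_5_6 := nt_a_eq T 5 6
  rw [e_5_6] at A_5_6
  have D_6 := hdA 6
  have A_6_0 := nt_a_eq T 6 0
  rw [e_6_0] at A_6_0
  have A_6_1 := nt_a_eq T 6 1
  rw [e_6_1] at A_6_1
  have A_6_2 := nt_a_eq T 6 2
  rw [e_6_2] at A_6_2
  have A_6_3 := nt_a_eq T 6 3
  rw [e_6_3] at A_6_3
  have A_6_4 := nt_a_eq T 6 4
  rw [e_6_4] at A_6_4
  have A_6_5 := nt_a_eq T 6 5
  rw [e_6_5] at A_6_5
  refine goal_of_indices T hg0 2 0 1 3 4 5 6 (by decide) (T.m 2) (T.w 0) ?_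
  unfold Goali
  exact Or.inr (Or.inr (Or.inr (Or.inl ⟨rfl,
      (by linear_combination (1) * R_2),
      (by linear_combination (1) * R_0 + (2) * R_2),
      (by linear_combination (2) * R_0 + (1) * R_1 + (3) * R_2),
      (by linear_combination (3) * R_0 + (2) * R_1 + (4) * R_2 + (1) * R_3),
      (by linear_combination (4) * R_0 + (3) * R_1 + (5) * R_2 + (2) * R_3 + (1) * R_4),
      (by have h : (2 : ℤ) * (T.m 6 - (T.m 2)) = 0 := (by linear_combination (5) * R_0 + (4) * R_1 + (6) * R_2 + (3) * R_3 + (2) * R_4 + (1) * R_5); exact eq_of_sub_eq_zero ((mul_eq_zero.mp h).resolve_left (by norm_num))),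
      (by linear_combination (-1) * S_0_2),
      rfl,
      (by linear_combination (-1) * S_0_1),
      (by linear_combination (-1) * S_0_1 + (-1) * S_1_3),
      (by linear_combination (-1) * S_0_1 + (-1) * S_1_3 + (-1) * S_3_4),
      (by linear_combination (-1) * S_0_1 + (-1) * S_1_3 + (-1) * S_3_4 + (-1) * S_4_5),
      (by linear_combination (-2) * S_0_1 + (-2) * S_1_3 + (-2) * S_3_4 + (-2) * S_4_5 + (-1) * S_5_6),
      (by linear_combination (2) * S_0_2 + (1) * D_2),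
      (by linear_combination (-1) * S_0_2 + (1) * A_2_0),
      (by linear_combination (1) * A_2_1),
      (by linear_combination (1) * A_2_3),
      (by linear_combination (1) * A_2_4),
      (by linear_combination (1) * A_2_5),
      (by linear_combination (1) * A_2_6),
      (by linear_combination (1) * D_0),
      (by linear_combination (1) * A_0_1),
      (by linear_combination (1) * A_0_3),
      (by linear_combination (1) * A_0_4),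
      (by linear_combination (1) * A_0_5),
      (by linear_combination (1) * A_0_6),
      (by linear_combination (2) * S_0_1 + (1) * D_1),
      (by linear_combination (-1) * S_0_1 + (1) * A_1_3),
      (by linear_combination (1) * A_1_4),
      (by linear_combination (1) * A_1_5),
      (by linear_combination (1) * A_1_6),
      (by linear_combination (2) * S_0_1 + (2) * S_1_3 + (1) * D_3),
      (by linear_combination (-1) * S_0_1 + (-1) * S_1_3 + (1) * A_3_4),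
      (by linear_combination (1) * A_3_5),
      (by linear_combination (1) * A_3_6),
      (by linear_combination (2) * S_0_1 + (2) * S_1_3 + (2) * S_3_4 + (1) * D_4),
      (by linear_combination (-1) * S_0_1 + (-1) * S_1_3 + (-1) * S_3_4 + (1) * A_4_5),
      (by linear_combination (1) * A_4_6),
      (by linear_combination (2) * S_0_1 + (2) * S_1_3 + (2) * S_3_4 + (2) * S_4_5 + (1) * D_5),
      (by linear_combination (-2) * S_0_1 + (-2) * S_1_3 + (-2) * S_3_4 + (-2) * S_4_5 + (1) * A_5_6),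
      (by linear_combination (4) * S_0_1 + (4) * S_1_3 + (4) * S_3_4 + (4) * S_4_5 + (2) * S_5_6 + (1) * D_6)⟩)))

theorem ex_594 (T : Models.NumericalType 7)
    (hG : NTGood T)
    (hmax : ∀ j, T.m j ≤ T.m 0)
    (e_0_1 : T.picMatrix 0 1 = 1)
    (e_0_2 : T.picMatrix 0 2 = 2)
    (e_0_3 : T.picMatrix 0 3 = 0)
    (e_0_4 : T.picMatrix 0 4 = 0)
    (e_0_5 : T.picMatrix 0 5 = 0)
    (e_1_0 : T.picMatrix 1 0 = 1)
    (e_1_2 : T.picMatrix 1 2 = 0)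
    (e_1_3 : T.picMatrix 1 3 = 1)
    (e_1_4 : T.picMatrix 1 4 = 0)
    (e_1_5 : T.picMatrix 1 5 = 0)
    (e_2_0 : T.picMatrix 2 0 = 1)
    (e_2_1 : T.picMatrix 2 1 = 0)
    (e_2_3 : T.picMatrix 2 3 = 0)
    (e_2_4 : T.picMatrix 2 4 = 0)
    (e_2_5 : T.picMatrix 2 5 = 0)
    (e_3_0 : T.picMatrix 3 0 = 0)
    (e_3_1 : T.picMatrix 3 1 = 1)
    (e_3_2 : T.picMatrix 3 2 = 0)
    (e_3_4 : T.picMatrix 3 4 = 1)
    (e_3_5 : T.picMatrix 3 5 = 0)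
    (e_4_0 : T.picMatrix 4 0 = 0)
    (e_4_1 : T.picMatrix 4 1 = 0)
    (e_4_2 : T.picMatrix 4 2 = 0)
    (e_4_3 : T.picMatrix 4 3 = 1)
    (e_4_5 : T.picMatrix 4 5 = 1)
    (e_5_0 : T.picMatrix 5 0 = 0)
    (e_5_1 : T.picMatrix 5 1 = 0)
    (e_5_2 : T.picMatrix 5 2 = 0)
    (e_5_3 : T.picMatrix 5 3 = 0)
    (e_5_4 : T.picMatrix 5 4 = 1)
    (cl : ∀ a b : Fin 7, a.val < 5 → 7 ≤ b.val → T.picMatrix a b = 0)
    (z : ∀ a : Fin 7, a.val < 5 → T.picMatrix a 6 = 0)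
    (hne : T.picMatrix 5 6 ≠ 0) :
    Goal T := by
  have e_0_6 : T.picMatrix 0 6 = 0 := z 0 (by decide)
  have e_6_0 : T.picMatrix 6 0 = 0 := nt_pic_zero_symm T 0 6 e_0_6
  have e_1_6 : T.picMatrix 1 6 = 0 := z 1 (by decide)
  have e_6_1 : T.picMatrix 6 1 = 0 := nt_pic_zero_symm T 1 6 e_1_6
  have e_2_6 : T.picMatrix 2 6 = 0 := z 2 (by decide)
  have e_6_2 : T.picMatrix 6 2 = 0 := nt_pic_zero_symm T 2 6 e_2_6
  have e_3_6 : T.picMatrix 3 6 = 0 := z 3 (by decide)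
  have e_6_3 : T.picMatrix 6 3 = 0 := nt_pic_zero_symm T 3 6 e_3_6
  have e_4_6 : T.picMatrix 4 6 = 0 := z 4 (by decide)
  have e_6_4 : T.picMatrix 6 4 = 0 := nt_pic_zero_symm T 4 6 e_4_6
  obtain ⟨hg0, hdA, hdP, hnn, hrow, hsym, hpair⟩ := ntgood_data T (by norm_num) hG
  have hm_0 := T.m_pos 0
  have hw_0 := T.w_pos 0
  have hm_1 := T.m_pos 1
  have hw_1 := T.w_pos 1
  have hm_2 := T.m_pos 2
  have hw_2 := T.w_pos 2
  have hm_3 := T.m_pos 3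
  have hw_3 := T.w_pos 3
  have hm_4 := T.m_pos 4
  have hw_4 := T.w_pos 4
  have hm_5 := T.m_pos 5
  have hw_5 := T.w_pos 5
  have hm_6 := T.m_pos 6
  have hw_6 := T.w_pos 6
  have hx_1 := hmax 1
  have hx_2 := hmax 2
  have hx_3 := hmax 3
  have hx_4 := hmax 4
  have hx_5 := hmax 5
  have hx_6 := hmax 6
  have N_5_6 := mul_nonneg (hnn 5 6 (by decide)) (T.m_pos 6).le
  have N_6_5 := mul_nonneg (hnn 6 5 (by decide)) (T.m_pos 5).le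
  have R_0 := hrow 0
  rw [Fin.sum_univ_seven, hdP 0, e_0_1, e_0_2, e_0_3, e_0_4, e_0_5, e_0_6] at R_0
  have R_1 := hrow 1
  rw [Fin.sum_univ_seven, hdP 1, e_1_0, e_1_2, e_1_3, e_1_4, e_1_5, e_1_6] at R_1
  have R_2 := hrow 2
  rw [Fin.sum_univ_seven, hdP 2, e_2_0, e_2_1, e_2_3, e_2_4, e_2_5, e_2_6] at R_2
  have R_3 := hrow 3
  rw [Fin.sum_univ_seven, hdP 3, e_3_0, e_3_1, e_3_2, e_3_4, e_3_5, e_3_6] at R_3
  have R_4 := hrow 4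
  rw [Fin.sum_univ_seven, hdP 4, e_4_0, e_4_1, e_4_2, e_4_3, e_4_5, e_4_6] at R_4
  have R_5 := hrow 5
  rw [Fin.sum_univ_seven, hdP 5, e_5_0, e_5_1, e_5_2, e_5_3, e_5_4] at R_5
  have R_6 := hrow 6
  rw [Fin.sum_univ_seven, hdP 6, e_6_0, e_6_1, e_6_2, e_6_3, e_6_4] at R_6
  have S_0_1 := hsym 0 1
  rw [e_0_1, e_1_0] at S_0_1
  have S_0_2 := hsym 0 2
  rw [e_0_2, e_2_0] at S_0_2
  have S_0_3 := hsym 0 3
  rw [e_0_3, e_3_0] at S_0_3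
  have S_0_4 := hsym 0 4
  rw [e_0_4, e_4_0] at S_0_4
  have S_0_5 := hsym 0 5
  rw [e_0_5, e_5_0] at S_0_5
  have S_0_6 := hsym 0 6
  rw [e_0_6, e_6_0] at S_0_6
  have S_1_2 := hsym 1 2
  rw [e_1_2, e_2_1] at S_1_2
  have S_1_3 := hsym 1 3
  rw [e_1_3, e_3_1] at S_1_3
  have S_1_4 := hsym 1 4
  rw [e_1_4, e_4_1] at S_1_4
  have S_1_5 := hsym 1 5
  rw [e_1_5, e_5_1] at S_1_5
  have S_1_6 := hsym 1 6
  rw [e_1_6, e_6_1] at S_1_6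
  have S_2_3 := hsym 2 3
  rw [e_2_3, e_3_2] at S_2_3
  have S_2_4 := hsym 2 4
  rw [e_2_4, e_4_2] at S_2_4
  have S_2_5 := hsym 2 5
  rw [e_2_5, e_5_2] at S_2_5
  have S_2_6 := hsym 2 6
  rw [e_2_6, e_6_2] at S_2_6
  have S_3_4 := hsym 3 4
  rw [e_3_4, e_4_3] at S_3_4
  have S_3_5 := hsym 3 5
  rw [e_3_5, e_5_3] at S_3_5
  have S_3_6 := hsym 3 6
  rw [e_3_6, e_6_3] at S_3_6
  have S_4_5 := hsym 4 5
  rw [e_4_5, e_5_4] at S_4_5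
  have S_4_6 := hsym 4 6
  rw [e_4_6, e_6_4] at S_4_6
  have S_5_6 := hsym 5 6
  have Q_5 := hpair 5 6 (by decide)
  generalize e_5_6 : T.picMatrix 5 6 = x_5 at *
  generalize e_6_5 : T.picMatrix 6 5 = y_5 at *
  rcases Q_5 with ⟨rfl, rfl⟩ | ⟨rfl, rfl⟩ | ⟨rfl, rfl⟩ | ⟨rfl, rfl⟩ | ⟨rfl, rfl⟩ | ⟨rfl, rfl⟩ | ⟨rfl, rfl⟩ | ⟨rfl, rfl⟩ | ⟨rfl, rfl⟩
  · exact absurd rfl hne
  · -- (5,6) = (1,1)
    omega
  · -- (5,6) = (1,2)
    exact nd_595 T hG hmax e_0_1 e_0_2 e_0_3 e_0_4 e_0_5 e_0_6 e_1_0 e_1_2 e_1_3 e_1_4 e_1_5 e_1_6 e_2_0 e_2_1 e_2_3 e_2_4 e_2_5 e_2_6 e_3_0 e_3_1 e_3_2 e_3_4 e_3_5 e_3_6 e_4_0 e_4_1 e_4_2 e_4_3 e_4_5 e_4_6 e_5_0 e_5_1 e_5_2 e_5_3 e_5_4 e_5_6 e_6_0 e_6_1 e_6_2 e_6_3 e_6_4 e_6_5 cl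
  · -- (5,6) = (2,1)
    exact nd_596 T hG hmax e_0_1 e_0_2 e_0_3 e_0_4 e_0_5 e_0_6 e_1_0 e_1_2 e_1_3 e_1_4 e_1_5 e_1_6 e_2_0 e_2_1 e_2_3 e_2_4 e_2_5 e_2_6 e_3_0 e_3_1 e_3_2 e_3_4 e_3_5 e_3_6 e_4_0 e_4_1 e_4_2 e_4_3 e_4_5 e_4_6 e_5_0 e_5_1 e_5_2 e_5_3 e_5_4 e_5_6 e_6_0 e_6_1 e_6_2 e_6_3 e_6_4 e_6_5 cl
  · -- (5,6) = (1,3)
    omega
  · -- (5,6) = (3,1)
    omega
  · -- (5,6) = (1,4)
    omega
  · -- (5,6) = (4,1)
    omega
  · -- (5,6) = (2,2)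
    omega

theorem nd_592 (T : Models.NumericalType 7)
    (hG : NTGood T)
    (hmax : ∀ j, T.m j ≤ T.m 0)
    (e_0_1 : T.picMatrix 0 1 = 1)
    (e_0_2 : T.picMatrix 0 2 = 2)
    (e_0_3 : T.picMatrix 0 3 = 0)
    (e_0_4 : T.picMatrix 0 4 = 0)
    (e_0_5 : T.picMatrix 0 5 = 0)
    (e_1_0 : T.picMatrix 1 0 = 1)
    (e_1_2 : T.picMatrix 1 2 = 0)
    (e_1_3 : T.picMatrix 1 3 = 1)
    (e_1_4 : T.picMatrix 1 4 = 0)
    (e_1_5 : T.picMatrix 1 5 = 0)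
    (e_2_0 : T.picMatrix 2 0 = 1)
    (e_2_1 : T.picMatrix 2 1 = 0)
    (e_2_3 : T.picMatrix 2 3 = 0)
    (e_2_4 : T.picMatrix 2 4 = 0)
    (e_2_5 : T.picMatrix 2 5 = 0)
    (e_3_0 : T.picMatrix 3 0 = 0)
    (e_3_1 : T.picMatrix 3 1 = 1)
    (e_3_2 : T.picMatrix 3 2 = 0)
    (e_3_4 : T.picMatrix 3 4 = 1)
    (e_3_5 : T.picMatrix 3 5 = 0)
    (e_4_0 : T.picMatrix 4 0 = 0)
    (e_4_1 : T.picMatrix 4 1 = 0)
    (e_4_2 : T.picMatrix 4 2 = 0)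
    (e_4_3 : T.picMatrix 4 3 = 1)
    (e_4_5 : T.picMatrix 4 5 = 1)
    (e_5_0 : T.picMatrix 5 0 = 0)
    (e_5_1 : T.picMatrix 5 1 = 0)
    (e_5_2 : T.picMatrix 5 2 = 0)
    (e_5_3 : T.picMatrix 5 3 = 0)
    (e_5_4 : T.picMatrix 5 4 = 1)
    (cl : ∀ a b : Fin 7, a.val < 5 → 6 ≤ b.val → T.picMatrix a b = 0) :
    Goal T := by
  by_cases hc : ∀ b : Fin 7, 6 ≤ b.val → T.picMatrix 5 b = 0
  · exact nd_593 T hG hmax e_0_1 e_0_2 e_0_3 e_0_4 e_0_5 e_1_0 e_1_2 e_1_3 e_1_4 e_1_5 e_2_0 e_2_1 e_2_3 e_2_4 e_2_5 e_3_0 e_3_1 e_3_2 e_3_4 e_3_5 e_4_0 e_4_1 e_4_2 e_4_3 e_4_5 e_5_0 e_5_1 e_5_2 e_5_3 e_5_4 (nt_cl_succ T 6 5 5 rfl cl hc)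
  · obtain ⟨τ, hfix, cl', z, hne⟩ := nt_wlog_step T 6 (by norm_num) 5 (by norm_num) 5 (by decide) cl hc
    apply goal_relabel T τ
    refine ex_594 (ntRelabel T τ) (hG.relabel τ) ?_ ?_ ?_ ?_ ?_ ?_ ?_ ?_ ?_ ?_ ?_ ?_ ?_ ?_ ?_ ?_ ?_ ?_ ?_ ?_ ?_ ?_ ?_ ?_ ?_ ?_ ?_ ?_ ?_ ?_ ?_ cl' z hne
    · intro j
      show T.m (τ j) ≤ T.m (τ 0)
      rw [hfix 0 (by decide)]
      exact hmax _
    · show T.picMatrix (τ 0) (τ 1) = 1
      rw [hfix 0 (by decide), hfix 1 (by decide)]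
      exact e_0_1
    · show T.picMatrix (τ 0) (τ 2) = 2
      rw [hfix 0 (by decide), hfix 2 (by decide)]
      exact e_0_2
    · show T.picMatrix (τ 0) (τ 3) = 0
      rw [hfix 0 (by decide), hfix 3 (by decide)]
      exact e_0_3
    · show T.picMatrix (τ 0) (τ 4) = 0
      rw [hfix 0 (by decide), hfix 4 (by decide)]
      exact e_0_4
    · show T.picMatrix (τ 0) (τ 5) = 0
      rw [hfix 0 (by decide), hfix 5 (by decide)]
      exact e_0_5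
    · show T.picMatrix (τ 1) (τ 0) = 1
      rw [hfix 1 (by decide), hfix 0 (by decide)]
      exact e_1_0
    · show T.picMatrix (τ 1) (τ 2) = 0
      rw [hfix 1 (by decide), hfix 2 (by decide)]
      exact e_1_2
    · show T.picMatrix (τ 1) (τ 3) = 1
      rw [hfix 1 (by decide), hfix 3 (by decide)]
      exact e_1_3
    · show T.picMatrix (τ 1) (τ 4) = 0
      rw [hfix 1 (by decide), hfix 4 (by decide)]
      exact e_1_4
    · show T.picMatrix (τ 1) (τ 5) = 0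
      rw [hfix 1 (by decide), hfix 5 (by decide)]
      exact e_1_5
    · show T.picMatrix (τ 2) (τ 0) = 1
      rw [hfix 2 (by decide), hfix 0 (by decide)]
      exact e_2_0
    · show T.picMatrix (τ 2) (τ 1) = 0
      rw [hfix 2 (by decide), hfix 1 (by decide)]
      exact e_2_1
    · show T.picMatrix (τ 2) (τ 3) = 0
      rw [hfix 2 (by decide), hfix 3 (by decide)]
      exact e_2_3
    · show T.picMatrix (τ 2) (τ 4) = 0
      rw [hfix 2 (by decide), hfix 4 (by decide)]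
      exact e_2_4
    · show T.picMatrix (τ 2) (τ 5) = 0
      rw [hfix 2 (by decide), hfix 5 (by decide)]
      exact e_2_5
    · show T.picMatrix (τ 3) (τ 0) = 0
      rw [hfix 3 (by decide), hfix 0 (by decide)]
      exact e_3_0
    · show T.picMatrix (τ 3) (τ 1) = 1
      rw [hfix 3 (by decide), hfix 1 (by decide)]
      exact e_3_1
    · show T.picMatrix (τ 3) (τ 2) = 0
      rw [hfix 3 (by decide), hfix 2 (by decide)]
      exact e_3_2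
    · show T.picMatrix (τ 3) (τ 4) = 1
      rw [hfix 3 (by decide), hfix 4 (by decide)]
      exact e_3_4
    · show T.picMatrix (τ 3) (τ 5) = 0
      rw [hfix 3 (by decide), hfix 5 (by decide)]
      exact e_3_5
    · show T.picMatrix (τ 4) (τ 0) = 0
      rw [hfix 4 (by decide), hfix 0 (by decide)]
      exact e_4_0
    · show T.picMatrix (τ 4) (τ 1) = 0
      rw [hfix 4 (by decide), hfix 1 (by decide)]
      exact e_4_1
    · show T.picMatrix (τ 4) (τ 2) = 0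
      rw [hfix 4 (by decide), hfix 2 (by decide)]
      exact e_4_2
    · show T.picMatrix (τ 4) (τ 3) = 1
      rw [hfix 4 (by decide), hfix 3 (by decide)]
      exact e_4_3
    · show T.picMatrix (τ 4) (τ 5) = 1
      rw [hfix 4 (by decide), hfix 5 (by decide)]
      exact e_4_5
    · show T.picMatrix (τ 5) (τ 0) = 0
      rw [hfix 5 (by decide), hfix 0 (by decide)]
      exact e_5_0
    · show T.picMatrix (τ 5) (τ 1) = 0
      rw [hfix 5 (by decide), hfix 1 (by decide)]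
      exact e_5_1
    · show T.picMatrix (τ 5) (τ 2) = 0
      rw [hfix 5 (by decide), hfix 2 (by decide)]
      exact e_5_2
    · show T.picMatrix (τ 5) (τ 3) = 0
      rw [hfix 5 (by decide), hfix 3 (by decide)]
      exact e_5_3
    · show T.picMatrix (τ 5) (τ 4) = 1
      rw [hfix 5 (by decide), hfix 4 (by decide)]
      exact e_5_4

theorem nd_598 (T : Models.NumericalType 7)
    (hG : NTGood T)
    (hmax : ∀ j, T.m j ≤ T.m 0)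
    (e_0_1 : T.picMatrix 0 1 = 1)
    (e_0_2 : T.picMatrix 0 2 = 2)
    (e_0_3 : T.picMatrix 0 3 = 0)
    (e_0_4 : T.picMatrix 0 4 = 0)
    (e_0_5 : T.picMatrix 0 5 = 0)
    (e_0_6 : T.picMatrix 0 6 = 0)
    (e_1_0 : T.picMatrix 1 0 = 1)
    (e_1_2 : T.picMatrix 1 2 = 0)
    (e_1_3 : T.picMatrix 1 3 = 1)
    (e_1_4 : T.picMatrix 1 4 = 0)
    (e_1_5 : T.picMatrix 1 5 = 0)
    (e_1_6 : T.picMatrix 1 6 = 0)
    (e_2_0 : T.picMatrix 2 0 = 1)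
    (e_2_1 : T.picMatrix 2 1 = 0)
    (e_2_3 : T.picMatrix 2 3 = 0)
    (e_2_4 : T.picMatrix 2 4 = 0)
    (e_2_5 : T.picMatrix 2 5 = 0)
    (e_2_6 : T.picMatrix 2 6 = 0)
    (e_3_0 : T.picMatrix 3 0 = 0)
    (e_3_1 : T.picMatrix 3 1 = 1)
    (e_3_2 : T.picMatrix 3 2 = 0)
    (e_3_4 : T.picMatrix 3 4 = 1)
    (e_3_5 : T.picMatrix 3 5 = 0)
    (e_3_6 : T.picMatrix 3 6 = 0)
    (e_4_0 : T.picMatrix 4 0 = 0)
    (e_4_1 : T.picMatrix 4 1 = 0)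
    (e_4_2 : T.picMatrix 4 2 = 0)
    (e_4_3 : T.picMatrix 4 3 = 1)
    (e_4_5 : T.picMatrix 4 5 = 1)
    (e_4_6 : T.picMatrix 4 6 = 1)
    (e_5_0 : T.picMatrix 5 0 = 0)
    (e_5_1 : T.picMatrix 5 1 = 0)
    (e_5_2 : T.picMatrix 5 2 = 0)
    (e_5_3 : T.picMatrix 5 3 = 0)
    (e_5_4 : T.picMatrix 5 4 = 1)
    (e_5_6 : T.picMatrix 5 6 = 0)
    (e_6_0 : T.picMatrix 6 0 = 0)
    (e_6_1 : T.picMatrix 6 1 = 0)
    (e_6_2 : T.picMatrix 6 2 = 0)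
    (e_6_3 : T.picMatrix 6 3 = 0)
    (e_6_4 : T.picMatrix 6 4 = 1)
    (e_6_5 : T.picMatrix 6 5 = 0)
    (cl : ∀ a b : Fin 7, a.val < 4 → 7 ≤ b.val → T.picMatrix a b = 0) :
    Goal T := by
  obtain ⟨hg0, hdA, hdP, hnn, hrow, hsym, hpair⟩ := ntgood_data T (by norm_num) hG
  have hm_0 := T.m_pos 0
  have hw_0 := T.w_pos 0
  have hm_1 := T.m_pos 1
  have hw_1 := T.w_pos 1
  have hm_2 := T.m_pos 2
  have hw_2 := T.w_pos 2
  have hm_3 := T.m_pos 3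
  have hw_3 := T.w_pos 3
  have hm_4 := T.m_pos 4
  have hw_4 := T.w_pos 4
  have hm_5 := T.m_pos 5
  have hw_5 := T.w_pos 5
  have hm_6 := T.m_pos 6
  have hw_6 := T.w_pos 6
  have hx_1 := hmax 1
  have hx_2 := hmax 2
  have hx_3 := hmax 3
  have hx_4 := hmax 4
  have hx_5 := hmax 5
  have hx_6 := hmax 6
  have R_0 := hrow 0
  rw [Fin.sum_univ_seven, hdP 0, e_0_1, e_0_2, e_0_3, e_0_4, e_0_5, e_0_6] at R_0
  have R_1 := hrow 1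
  rw [Fin.sum_univ_seven, hdP 1, e_1_0, e_1_2, e_1_3, e_1_4, e_1_5, e_1_6] at R_1
  have R_2 := hrow 2
  rw [Fin.sum_univ_seven, hdP 2, e_2_0, e_2_1, e_2_3, e_2_4, e_2_5, e_2_6] at R_2
  have R_3 := hrow 3
  rw [Fin.sum_univ_seven, hdP 3, e_3_0, e_3_1, e_3_2, e_3_4, e_3_5, e_3_6] at R_3
  have R_4 := hrow 4
  rw [Fin.sum_univ_seven, hdP 4, e_4_0, e_4_1, e_4_2, e_4_3, e_4_5, e_4_6] at R_4
  have R_5 := hrow 5
  rw [Fin.sum_univ_seven, hdP 5, e_5_0, e_5_1, e_5_2, e_5_3, e_5_4, e_5_6] at R_5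
  have R_6 := hrow 6
  rw [Fin.sum_univ_seven, hdP 6, e_6_0, e_6_1, e_6_2, e_6_3, e_6_4, e_6_5] at R_6
  have S_0_1 := hsym 0 1
  rw [e_0_1, e_1_0] at S_0_1
  have S_0_2 := hsym 0 2
  rw [e_0_2, e_2_0] at S_0_2
  have S_0_3 := hsym 0 3
  rw [e_0_3, e_3_0] at S_0_3
  have S_0_4 := hsym 0 4
  rw [e_0_4, e_4_0] at S_0_4
  have S_0_5 := hsym 0 5
  rw [e_0_5, e_5_0] at S_0_5
  have S_0_6 := hsym 0 6
  rw [e_0_6, e_6_0] at S_0_6
  have S_1_2 := hsym 1 2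
  rw [e_1_2, e_2_1] at S_1_2
  have S_1_3 := hsym 1 3
  rw [e_1_3, e_3_1] at S_1_3
  have S_1_4 := hsym 1 4
  rw [e_1_4, e_4_1] at S_1_4
  have S_1_5 := hsym 1 5
  rw [e_1_5, e_5_1] at S_1_5
  have S_1_6 := hsym 1 6
  rw [e_1_6, e_6_1] at S_1_6
  have S_2_3 := hsym 2 3
  rw [e_2_3, e_3_2] at S_2_3
  have S_2_4 := hsym 2 4
  rw [e_2_4, e_4_2] at S_2_4
  have S_2_5 := hsym 2 5
  rw [e_2_5, e_5_2] at S_2_5
  have S_2_6 := hsym 2 6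
  rw [e_2_6, e_6_2] at S_2_6
  have S_3_4 := hsym 3 4
  rw [e_3_4, e_4_3] at S_3_4
  have S_3_5 := hsym 3 5
  rw [e_3_5, e_5_3] at S_3_5
  have S_3_6 := hsym 3 6
  rw [e_3_6, e_6_3] at S_3_6
  have S_4_5 := hsym 4 5
  rw [e_4_5, e_5_4] at S_4_5
  have S_4_6 := hsym 4 6
  rw [e_4_6, e_6_4] at S_4_6
  have S_5_6 := hsym 5 6
  rw [e_5_6, e_6_5] at S_5_6
  have D_0 := hdA 0
  have A_0_1 := nt_a_eq T 0 1
  rw [e_0_1] at A_0_1
  have A_0_2 := nt_a_eq T 0 2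
  rw [e_0_2] at A_0_2
  have A_0_3 := nt_a_eq T 0 3
  rw [e_0_3] at A_0_3
  have A_0_4 := nt_a_eq T 0 4
  rw [e_0_4] at A_0_4
  have A_0_5 := nt_a_eq T 0 5
  rw [e_0_5] at A_0_5
  have A_0_6 := nt_a_eq T 0 6
  rw [e_0_6] at A_0_6
  have D_1 := hdA 1
  have A_1_0 := nt_a_eq T 1 0
  rw [e_1_0] at A_1_0
  have A_1_2 := nt_a_eq T 1 2
  rw [e_1_2] at A_1_2
  have A_1_3 := nt_a_eq T 1 3
  rw [e_1_3] at A_1_3
  have A_1_4 := nt_a_eq T 1 4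
  rw [e_1_4] at A_1_4
  have A_1_5 := nt_a_eq T 1 5
  rw [e_1_5] at A_1_5
  have A_1_6 := nt_a_eq T 1 6
  rw [e_1_6] at A_1_6
  have D_2 := hdA 2
  have A_2_0 := nt_a_eq T 2 0
  rw [e_2_0] at A_2_0
  have A_2_1 := nt_a_eq T 2 1
  rw [e_2_1] at A_2_1
  have A_2_3 := nt_a_eq T 2 3
  rw [e_2_3] at A_2_3
  have A_2_4 := nt_a_eq T 2 4
  rw [e_2_4] at A_2_4
  have A_2_5 := nt_a_eq T 2 5
  rw [e_2_5] at A_2_5
  have A_2_6 := nt_a_eq T 2 6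
  rw [e_2_6] at A_2_6
  have D_3 := hdA 3
  have A_3_0 := nt_a_eq T 3 0
  rw [e_3_0] at A_3_0
  have A_3_1 := nt_a_eq T 3 1
  rw [e_3_1] at A_3_1
  have A_3_2 := nt_a_eq T 3 2
  rw [e_3_2] at A_3_2
  have A_3_4 := nt_a_eq T 3 4
  rw [e_3_4] at A_3_4
  have A_3_5 := nt_a_eq T 3 5
  rw [e_3_5] at A_3_5
  have A_3_6 := nt_a_eq T 3 6
  rw [e_3_6] at A_3_6
  have D_4 := hdA 4
  have A_4_0 := nt_a_eq T 4 0
  rw [e_4_0] at A_4_0
  have A_4_1 := nt_a_eq T 4 1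
  rw [e_4_1] at A_4_1
  have A_4_2 := nt_a_eq T 4 2
  rw [e_4_2] at A_4_2
  have A_4_3 := nt_a_eq T 4 3
  rw [e_4_3] at A_4_3
  have A_4_5 := nt_a_eq T 4 5
  rw [e_4_5] at A_4_5
  have A_4_6 := nt_a_eq T 4 6
  rw [e_4_6] at A_4_6
  have D_5 := hdA 5
  have A_5_0 := nt_a_eq T 5 0
  rw [e_5_0] at A_5_0
  have A_5_1 := nt_a_eq T 5 1
  rw [e_5_1] at A_5_1
  have A_5_2 := nt_a_eq T 5 2
  rw [e_5_2] at A_5_2
  have A_5_3 := nt_a_eq T 5 3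
  rw [e_5_3] at A_5_3
  have A_5_4 := nt_a_eq T 5 4
  rw [e_5_4] at A_5_4
  have A_5_6 := nt_a_eq T 5 6
  rw [e_5_6] at A_5_6
  have D_6 := hdA 6
  have A_6_0 := nt_a_eq T 6 0
  rw [e_6_0] at A_6_0
  have A_6_1 := nt_a_eq T 6 1
  rw [e_6_1] at A_6_1
  have A_6_2 := nt_a_eq T 6 2
  rw [e_6_2] at A_6_2
  have A_6_3 := nt_a_eq T 6 3
  rw [e_6_3] at A_6_3
  have A_6_4 := nt_a_eq T 6 4
  rw [e_6_4] at A_6_4
  have A_6_5 := nt_a_eq T 6 5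
  rw [e_6_5] at A_6_5
  refine goal_of_indices T hg0 2 0 1 3 4 5 6 (by decide) (T.m 2) (T.w 0) ?_
  unfold Goali
  exact Or.inr (Or.inr (Or.inr (Or.inr (Or.inl ⟨rfl,
      (by linear_combination (1) * R_2),
      (by linear_combination (1) * R_0 + (2) * R_2),
      (by linear_combination (2) * R_0 + (1) * R_1 + (3) * R_2),
      (by linear_combination (3) * R_0 + (2) * R_1 + (4) * R_2 + (1) * R_3),
      (by have h : (2 : ℤ) * (T.m 5 - (T.m 2)) = 0 := (by linear_combination (3) * R_0 + (2) * R_1 + (4) * R_2 + (1) * R_3 + (-1) * R_5); exact eq_of_sub_eq_zero ((mul_eq_zero.mp h).resolve_left (by norm_num))),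
      (by have h : (2 : ℤ) * (T.m 6 - (T.m 2)) = 0 := (by linear_combination (5) * R_0 + (4) * R_1 + (6) * R_2 + (3) * R_3 + (2) * R_4 + (1) * R_5); exact eq_of_sub_eq_zero ((mul_eq_zero.mp h).resolve_left (by norm_num))),
      (by linear_combination (-1) * S_0_2),
      rfl,
      (by linear_combination (-1) * S_0_1),
      (by linear_combination (-1) * S_0_1 + (-1) * S_1_3),
      (by linear_combination (-1) * S_0_1 + (-1) * S_1_3 + (-1) * S_3_4),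
      (by linear_combination (-1) * S_0_1 + (-1) * S_1_3 + (-1) * S_3_4 + (-1) * S_4_5),
      (by linear_combination (-1) * S_0_1 + (-1) * S_1_3 + (-1) * S_3_4 + (-1) * S_4_6),
      (by linear_combination (2) * S_0_2 + (1) * D_2),
      (by linear_combination (-1) * S_0_2 + (1) * A_2_0),
      (by linear_combination (1) * A_2_1),
      (by linear_combination (1) * A_2_3),
      (by linear_combination (1) * A_2_4),
      (by linear_combination (1) * A_2_5),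
      (by linear_combination (1) * A_2_6),
      (by linear_combination (1) * D_0),
      (by linear_combination (1) * A_0_1),
      (by linear_combination (1) * A_0_3),
      (by linear_combination (1) * A_0_4),
      (by linear_combination (1) * A_0_5),
      (by linear_combination (1) * A_0_6),
      (by linear_combination (2) * S_0_1 + (1) * D_1),
      (by linear_combination (-1) * S_0_1 + (1) * A_1_3),
      (by linear_combination (1) * A_1_4),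
      (by linear_combination (1) * A_1_5),
      (by linear_combination (1) * A_1_6),
      (by linear_combination (2) * S_0_1 + (2) * S_1_3 + (1) * D_3),
      (by linear_combination (-1) * S_0_1 + (-1) * S_1_3 + (1) * A_3_4),
      (by linear_combination (1) * A_3_5),
      (by linear_combination (1) * A_3_6),
      (by linear_combination (2) * S_0_1 + (2) * S_1_3 + (2) * S_3_4 + (1) * D_4),
      (by linear_combination (-1) * S_0_1 + (-1) * S_1_3 + (-1) * S_3_4 + (1) * A_4_5),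
      (by linear_combination (-1) * S_0_1 + (-1) * S_1_3 + (-1) * S_3_4 + (1) * A_4_6),
      (by linear_combination (2) * S_0_1 + (2) * S_1_3 + (2) * S_3_4 + (2) * S_4_5 + (1) * D_5),
      (by linear_combination (1) * A_5_6),
      (by linear_combination (2) * S_0_1 + (2) * S_1_3 + (2) * S_3_4 + (2) * S_4_6 + (1) * D_6)⟩))))

theorem ex_597 (T : Models.NumericalType 7)
    (hG : NTGood T)
    (hmax : ∀ j, T.m j ≤ T.m 0)
    (e_0_1 : T.picMatrix 0 1 = 1)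
    (e_0_2 : T.picMatrix 0 2 = 2)
    (e_0_3 : T.picMatrix 0 3 = 0)
    (e_0_4 : T.picMatrix 0 4 = 0)
    (e_0_5 : T.picMatrix 0 5 = 0)
    (e_1_0 : T.picMatrix 1 0 = 1)
    (e_1_2 : T.picMatrix 1 2 = 0)
    (e_1_3 : T.picMatrix 1 3 = 1)
    (e_1_4 : T.picMatrix 1 4 = 0)
    (e_1_5 : T.picMatrix 1 5 = 0)
    (e_2_0 : T.picMatrix 2 0 = 1)
    (e_2_1 : T.picMatrix 2 1 = 0)
    (e_2_3 : T.picMatrix 2 3 = 0)
    (e_2_4 : T.picMatrix 2 4 = 0)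
    (e_2_5 : T.picMatrix 2 5 = 0)
    (e_3_0 : T.picMatrix 3 0 = 0)
    (e_3_1 : T.picMatrix 3 1 = 1)
    (e_3_2 : T.picMatrix 3 2 = 0)
    (e_3_4 : T.picMatrix 3 4 = 1)
    (e_3_5 : T.picMatrix 3 5 = 0)
    (e_4_0 : T.picMatrix 4 0 = 0)
    (e_4_1 : T.picMatrix 4 1 = 0)
    (e_4_2 : T.picMatrix 4 2 = 0)
    (e_4_3 : T.picMatrix 4 3 = 1)
    (e_4_5 : T.picMatrix 4 5 = 1)
    (e_5_0 : T.picMatrix 5 0 = 0)
    (e_5_1 : T.picMatrix 5 1 = 0)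
    (e_5_2 : T.picMatrix 5 2 = 0)
    (e_5_3 : T.picMatrix 5 3 = 0)
    (e_5_4 : T.picMatrix 5 4 = 1)
    (cl : ∀ a b : Fin 7, a.val < 4 → 7 ≤ b.val → T.picMatrix a b = 0)
    (z : ∀ a : Fin 7, a.val < 4 → T.picMatrix a 6 = 0)
    (hne : T.picMatrix 4 6 ≠ 0) :
    Goal T := by
  have e_0_6 : T.picMatrix 0 6 = 0 := z 0 (by decide)
  have e_6_0 : T.picMatrix 6 0 = 0 := nt_pic_zero_symm T 0 6 e_0_6
  have e_1_6 : T.picMatrix 1 6 = 0 := z 1 (by decide)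
  have e_6_1 : T.picMatrix 6 1 = 0 := nt_pic_zero_symm T 1 6 e_1_6
  have e_2_6 : T.picMatrix 2 6 = 0 := z 2 (by decide)
  have e_6_2 : T.picMatrix 6 2 = 0 := nt_pic_zero_symm T 2 6 e_2_6
  have e_3_6 : T.picMatrix 3 6 = 0 := z 3 (by decide)
  have e_6_3 : T.picMatrix 6 3 = 0 := nt_pic_zero_symm T 3 6 e_3_6
  obtain ⟨hg0, hdA, hdP, hnn, hrow, hsym, hpair⟩ := ntgood_data T (by norm_num) hG
  have hm_0 := T.m_pos 0
  have hw_0 := T.w_pos 0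
  have hm_1 := T.m_pos 1
  have hw_1 := T.w_pos 1
  have hm_2 := T.m_pos 2
  have hw_2 := T.w_pos 2
  have hm_3 := T.m_pos 3
  have hw_3 := T.w_pos 3
  have hm_4 := T.m_pos 4
  have hw_4 := T.w_pos 4
  have hm_5 := T.m_pos 5
  have hw_5 := T.w_pos 5
  have hm_6 := T.m_pos 6
  have hw_6 := T.w_pos 6
  have hx_1 := hmax 1
  have hx_2 := hmax 2
  have hx_3 := hmax 3
  have hx_4 := hmax 4
  have hx_5 := hmax 5
  have hx_6 := hmax 6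
  have N_4_6 := mul_nonneg (hnn 4 6 (by decide)) (T.m_pos 6).le
  have N_6_4 := mul_nonneg (hnn 6 4 (by decide)) (T.m_pos 4).le
  have N_5_6 := mul_nonneg (hnn 5 6 (by decide)) (T.m_pos 6).le
  have N_6_5 := mul_nonneg (hnn 6 5 (by decide)) (T.m_pos 5).le
  have R_0 := hrow 0
  rw [Fin.sum_univ_seven, hdP 0, e_0_1, e_0_2, e_0_3, e_0_4, e_0_5, e_0_6] at R_0
  have R_1 := hrow 1
  rw [Fin.sum_univ_seven, hdP 1, e_1_0, e_1_2, e_1_3, e_1_4, e_1_5, e_1_6] at R_1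
  have R_2 := hrow 2
  rw [Fin.sum_univ_seven, hdP 2, e_2_0, e_2_1, e_2_3, e_2_4, e_2_5, e_2_6] at R_2
  have R_3 := hrow 3
  rw [Fin.sum_univ_seven, hdP 3, e_3_0, e_3_1, e_3_2, e_3_4, e_3_5, e_3_6] at R_3
  have R_4 := hrow 4
  rw [Fin.sum_univ_seven, hdP 4, e_4_0, e_4_1, e_4_2, e_4_3, e_4_5] at R_4
  have R_5 := hrow 5
  rw [Fin.sum_univ_seven, hdP 5, e_5_0, e_5_1, e_5_2, e_5_3, e_5_4] at R_5
  have R_6 := hrow 6
  rw [Fin.sum_univ_seven, hdP 6, e_6_0, e_6_1, e_6_2, e_6_3] at R_6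
  have S_0_1 := hsym 0 1
  rw [e_0_1, e_1_0] at S_0_1
  have S_0_2 := hsym 0 2
  rw [e_0_2, e_2_0] at S_0_2
  have S_0_3 := hsym 0 3
  rw [e_0_3, e_3_0] at S_0_3
  have S_0_4 := hsym 0 4
  rw [e_0_4, e_4_0] at S_0_4
  have S_0_5 := hsym 0 5
  rw [e_0_5, e_5_0] at S_0_5
  have S_0_6 := hsym 0 6
  rw [e_0_6, e_6_0] at S_0_6
  have S_1_2 := hsym 1 2
  rw [e_1_2, e_2_1] at S_1_2
  have S_1_3 := hsym 1 3
  rw [e_1_3, e_3_1] at S_1_3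
  have S_1_4 := hsym 1 4
  rw [e_1_4, e_4_1] at S_1_4
  have S_1_5 := hsym 1 5
  rw [e_1_5, e_5_1] at S_1_5
  have S_1_6 := hsym 1 6
  rw [e_1_6, e_6_1] at S_1_6
  have S_2_3 := hsym 2 3
  rw [e_2_3, e_3_2] at S_2_3
  have S_2_4 := hsym 2 4
  rw [e_2_4, e_4_2] at S_2_4
  have S_2_5 := hsym 2 5
  rw [e_2_5, e_5_2] at S_2_5
  have S_2_6 := hsym 2 6
  rw [e_2_6, e_6_2] at S_2_6
  have S_3_4 := hsym 3 4
  rw [e_3_4, e_4_3] at S_3_4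
  have S_3_5 := hsym 3 5
  rw [e_3_5, e_5_3] at S_3_5
  have S_3_6 := hsym 3 6
  rw [e_3_6, e_6_3] at S_3_6
  have S_4_5 := hsym 4 5
  rw [e_4_5, e_5_4] at S_4_5
  have S_4_6 := hsym 4 6
  have S_5_6 := hsym 5 6
  have Q_4 := hpair 4 6 (by decide)
  have Q_5 := hpair 5 6 (by decide)
  generalize e_4_6 : T.picMatrix 4 6 = x_4 at *
  generalize e_6_4 : T.picMatrix 6 4 = y_4 at *
  generalize e_5_6 : T.picMatrix 5 6 = x_5 at *
  generalize e_6_5 : T.picMatrix 6 5 = y_5 at *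
  rcases Q_4 with ⟨rfl, rfl⟩ | ⟨rfl, rfl⟩ | ⟨rfl, rfl⟩ | ⟨rfl, rfl⟩ | ⟨rfl, rfl⟩ | ⟨rfl, rfl⟩ | ⟨rfl, rfl⟩ | ⟨rfl, rfl⟩ | ⟨rfl, rfl⟩
  · exact absurd rfl hne
  · -- (4,6) = (1,1)
    rcases Q_5 with ⟨rfl, rfl⟩ | ⟨rfl, rfl⟩ | ⟨rfl, rfl⟩ | ⟨rfl, rfl⟩ | ⟨rfl, rfl⟩ | ⟨rfl, rfl⟩ | ⟨rfl, rfl⟩ | ⟨rfl, rfl⟩ | ⟨rfl, rfl⟩
    · -- (5,6) = (0,0)
      exact nd_598 T hG hmax e_0_1 e_0_2 e_0_3 e_0_4 e_0_5 e_0_6 e_1_0 e_1_2 e_1_3 e_1_4 e_1_5 e_1_6 e_2_0 e_2_1 e_2_3 e_2_4 e_2_5 e_2_6 e_3_0 e_3_1 e_3_2 e_3_4 e_3_5 e_3_6 e_4_0 e_4_1 e_4_2 e_4_3 e_4_5 e_4_6 e_5_0 e_5_1 e_5_2 e_5_3 e_5_4 e_5_6 e_6_0 e_6_1 e_6_2 e_6_3 e_6_4 e_6_5 cl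
    · -- (5,6) = (1,1)
      omega
    · -- (5,6) = (1,2)
      omega
    · -- (5,6) = (2,1)
      omega
    · -- (5,6) = (1,3)
      omega
    · -- (5,6) = (3,1)
      omega
    · -- (5,6) = (1,4)
      omega
    · -- (5,6) = (4,1)
      omega
    · -- (5,6) = (2,2)
      omega
  · omega
  · omega
  · omega
  · omega
  · omega
  · omega
  · omega

theorem nd_591 (T : Models.NumericalType 7)
    (hG : NTGood T)
    (hmax : ∀ j, T.m j ≤ T.m 0)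
    (e_0_1 : T.picMatrix 0 1 = 1)
    (e_0_2 : T.picMatrix 0 2 = 2)
    (e_0_3 : T.picMatrix 0 3 = 0)
    (e_0_4 : T.picMatrix 0 4 = 0)
    (e_0_5 : T.picMatrix 0 5 = 0)
    (e_1_0 : T.picMatrix 1 0 = 1)
    (e_1_2 : T.picMatrix 1 2 = 0)
    (e_1_3 : T.picMatrix 1 3 = 1)
    (e_1_4 : T.picMatrix 1 4 = 0)
    (e_1_5 : T.picMatrix 1 5 = 0)
    (e_2_0 : T.picMatrix 2 0 = 1)
    (e_2_1 : T.picMatrix 2 1 = 0)
    (e_2_3 : T.picMatrix 2 3 = 0)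
    (e_2_4 : T.picMatrix 2 4 = 0)
    (e_2_5 : T.picMatrix 2 5 = 0)
    (e_3_0 : T.picMatrix 3 0 = 0)
    (e_3_1 : T.picMatrix 3 1 = 1)
    (e_3_2 : T.picMatrix 3 2 = 0)
    (e_3_4 : T.picMatrix 3 4 = 1)
    (e_3_5 : T.picMatrix 3 5 = 0)
    (e_4_0 : T.picMatrix 4 0 = 0)
    (e_4_1 : T.picMatrix 4 1 = 0)
    (e_4_2 : T.picMatrix 4 2 = 0)
    (e_4_3 : T.picMatrix 4 3 = 1)
    (e_4_5 : T.picMatrix 4 5 = 1)
    (e_5_0 : T.picMatrix 5 0 = 0)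
    (e_5_1 : T.picMatrix 5 1 = 0)
    (e_5_2 : T.picMatrix 5 2 = 0)
    (e_5_3 : T.picMatrix 5 3 = 0)
    (e_5_4 : T.picMatrix 5 4 = 1)
    (cl : ∀ a b : Fin 7, a.val < 4 → 6 ≤ b.val → T.picMatrix a b = 0) :
    Goal T := by
  by_cases hc : ∀ b : Fin 7, 6 ≤ b.val → T.picMatrix 4 b = 0
  · exact nd_592 T hG hmax e_0_1 e_0_2 e_0_3 e_0_4 e_0_5 e_1_0 e_1_2 e_1_3 e_1_4 e_1_5 e_2_0 e_2_1 e_2_3 e_2_4 e_2_5 e_3_0 e_3_1 e_3_2 e_3_4 e_3_5 e_4_0 e_4_1 e_4_2 e_4_3 e_4_5 e_5_0 e_5_1 e_5_2 e_5_3 e_5_4 (nt_cl_succ T 6 4 4 rfl cl hc)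
  · obtain ⟨τ, hfix, cl', z, hne⟩ := nt_wlog_step T 6 (by norm_num) 4 (by norm_num) 4 (by decide) cl hc
    apply goal_relabel T τ
    refine ex_597 (ntRelabel T τ) (hG.relabel τ) ?_ ?_ ?_ ?_ ?_ ?_ ?_ ?_ ?_ ?_ ?_ ?_ ?_ ?_ ?_ ?_ ?_ ?_ ?_ ?_ ?_ ?_ ?_ ?_ ?_ ?_ ?_ ?_ ?_ ?_ ?_ cl' z hne
    · intro j
      show T.m (τ j) ≤ T.m (τ 0)
      rw [hfix 0 (by decide)]
      exact hmax _
    · show T.picMatrix (τ 0) (τ 1) = 1
      rw [hfix 0 (by decide), hfix 1 (by decide)]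
      exact e_0_1
    · show T.picMatrix (τ 0) (τ 2) = 2
      rw [hfix 0 (by decide), hfix 2 (by decide)]
      exact e_0_2
    · show T.picMatrix (τ 0) (τ 3) = 0
      rw [hfix 0 (by decide), hfix 3 (by decide)]
      exact e_0_3
    · show T.picMatrix (τ 0) (τ 4) = 0
      rw [hfix 0 (by decide), hfix 4 (by decide)]
      exact e_0_4
    · show T.picMatrix (τ 0) (τ 5) = 0
      rw [hfix 0 (by decide), hfix 5 (by decide)]
      exact e_0_5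
    · show T.picMatrix (τ 1) (τ 0) = 1
      rw [hfix 1 (by decide), hfix 0 (by decide)]
      exact e_1_0
    · show T.picMatrix (τ 1) (τ 2) = 0
      rw [hfix 1 (by decide), hfix 2 (by decide)]
      exact e_1_2
    · show T.picMatrix (τ 1) (τ 3) = 1
      rw [hfix 1 (by decide), hfix 3 (by decide)]
      exact e_1_3
    · show T.picMatrix (τ 1) (τ 4) = 0
      rw [hfix 1 (by decide), hfix 4 (by decide)]
      exact e_1_4
    · show T.picMatrix (τ 1) (τ 5) = 0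
      rw [hfix 1 (by decide), hfix 5 (by decide)]
      exact e_1_5
    · show T.picMatrix (τ 2) (τ 0) = 1
      rw [hfix 2 (by decide), hfix 0 (by decide)]
      exact e_2_0
    · show T.picMatrix (τ 2) (τ 1) = 0
      rw [hfix 2 (by decide), hfix 1 (by decide)]
      exact e_2_1
    · show T.picMatrix (τ 2) (τ 3) = 0
      rw [hfix 2 (by decide), hfix 3 (by decide)]
      exact e_2_3
    · show T.picMatrix (τ 2) (τ 4) = 0
      rw [hfix 2 (by decide), hfix 4 (by decide)]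
      exact e_2_4
    · show T.picMatrix (τ 2) (τ 5) = 0
      rw [hfix 2 (by decide), hfix 5 (by decide)]
      exact e_2_5
    · show T.picMatrix (τ 3) (τ 0) = 0
      rw [hfix 3 (by decide), hfix 0 (by decide)]
      exact e_3_0
    · show T.picMatrix (τ 3) (τ 1) = 1
      rw [hfix 3 (by decide), hfix 1 (by decide)]
      exact e_3_1
    · show T.picMatrix (τ 3) (τ 2) = 0
      rw [hfix 3 (by decide), hfix 2 (by decide)]
      exact e_3_2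
    · show T.picMatrix (τ 3) (τ 4) = 1
      rw [hfix 3 (by decide), hfix 4 (by decide)]
      exact e_3_4
    · show T.picMatrix (τ 3) (τ 5) = 0
      rw [hfix 3 (by decide), hfix 5 (by decide)]
      exact e_3_5
    · show T.picMatrix (τ 4) (τ 0) = 0
      rw [hfix 4 (by decide), hfix 0 (by decide)]
      exact e_4_0
    · show T.picMatrix (τ 4) (τ 1) = 0
      rw [hfix 4 (by decide), hfix 1 (by decide)]
      exact e_4_1
    · show T.picMatrix (τ 4) (τ 2) = 0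
      rw [hfix 4 (by decide), hfix 2 (by decide)]
      exact e_4_2
    · show T.picMatrix (τ 4) (τ 3) = 1
      rw [hfix 4 (by decide), hfix 3 (by decide)]
      exact e_4_3
    · show T.picMatrix (τ 4) (τ 5) = 1
      rw [hfix 4 (by decide), hfix 5 (by decide)]
      exact e_4_5
    · show T.picMatrix (τ 5) (τ 0) = 0
      rw [hfix 5 (by decide), hfix 0 (by decide)]
      exact e_5_0
    · show T.picMatrix (τ 5) (τ 1) = 0
      rw [hfix 5 (by decide), hfix 1 (by decide)]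
      exact e_5_1
    · show T.picMatrix (τ 5) (τ 2) = 0
      rw [hfix 5 (by decide), hfix 2 (by decide)]
      exact e_5_2
    · show T.picMatrix (τ 5) (τ 3) = 0
      rw [hfix 5 (by decide), hfix 3 (by decide)]
      exact e_5_3
    · show T.picMatrix (τ 5) (τ 4) = 1
      rw [hfix 5 (by decide), hfix 4 (by decide)]
      exact e_5_4

theorem nd_601 (T : Models.NumericalType 7)
    (hG : NTGood T)
    (hmax : ∀ j, T.m j ≤ T.m 0)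
    (e_0_1 : T.picMatrix 0 1 = 1)
    (e_0_2 : T.picMatrix 0 2 = 2)
    (e_0_3 : T.picMatrix 0 3 = 0)
    (e_0_4 : T.picMatrix 0 4 = 0)
    (e_0_5 : T.picMatrix 0 5 = 0)
    (e_1_0 : T.picMatrix 1 0 = 1)
    (e_1_2 : T.picMatrix 1 2 = 0)
    (e_1_3 : T.picMatrix 1 3 = 1)
    (e_1_4 : T.picMatrix 1 4 = 0)
    (e_1_5 : T.picMatrix 1 5 = 0)
    (e_2_0 : T.picMatrix 2 0 = 1)
    (e_2_1 : T.picMatrix 2 1 = 0)
    (e_2_3 : T.picMatrix 2 3 = 0)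
    (e_2_4 : T.picMatrix 2 4 = 0)
    (e_2_5 : T.picMatrix 2 5 = 0)
    (e_3_0 : T.picMatrix 3 0 = 0)
    (e_3_1 : T.picMatrix 3 1 = 1)
    (e_3_2 : T.picMatrix 3 2 = 0)
    (e_3_4 : T.picMatrix 3 4 = 1)
    (e_3_5 : T.picMatrix 3 5 = 0)
    (e_4_0 : T.picMatrix 4 0 = 0)
    (e_4_1 : T.picMatrix 4 1 = 0)
    (e_4_2 : T.picMatrix 4 2 = 0)
    (e_4_3 : T.picMatrix 4 3 = 1)
    (e_4_5 : T.picMatrix 4 5 = 1)
    (e_5_0 : T.picMatrix 5 0 = 0)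
    (e_5_1 : T.picMatrix 5 1 = 0)
    (e_5_2 : T.picMatrix 5 2 = 0)
    (e_5_3 : T.picMatrix 5 3 = 0)
    (e_5_4 : T.picMatrix 5 4 = 2)
    (cl : ∀ a b : Fin 7, a.val < 6 → 6 ≤ b.val → T.picMatrix a b = 0) :
    Goal T := by
  exact (nt_closed_false T 6 (by norm_num) (by norm_num) cl).elim

theorem ex_602 (T : Models.NumericalType 7)
    (hG : NTGood T)
    (hmax : ∀ j, T.m j ≤ T.m 0)
    (e_0_1 : T.picMatrix 0 1 = 1)
    (e_0_2 : T.picMatrix 0 2 = 2)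
    (e_0_3 : T.picMatrix 0 3 = 0)
    (e_0_4 : T.picMatrix 0 4 = 0)
    (e_0_5 : T.picMatrix 0 5 = 0)
    (e_1_0 : T.picMatrix 1 0 = 1)
    (e_1_2 : T.picMatrix 1 2 = 0)
    (e_1_3 : T.picMatrix 1 3 = 1)
    (e_1_4 : T.picMatrix 1 4 = 0)
    (e_1_5 : T.picMatrix 1 5 = 0)
    (e_2_0 : T.picMatrix 2 0 = 1)
    (e_2_1 : T.picMatrix 2 1 = 0)
    (e_2_3 : T.picMatrix 2 3 = 0)
    (e_2_4 : T.picMatrix 2 4 = 0)
    (e_2_5 : T.picMatrix 2 5 = 0)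
    (e_3_0 : T.picMatrix 3 0 = 0)
    (e_3_1 : T.picMatrix 3 1 = 1)
    (e_3_2 : T.picMatrix 3 2 = 0)
    (e_3_4 : T.picMatrix 3 4 = 1)
    (e_3_5 : T.picMatrix 3 5 = 0)
    (e_4_0 : T.picMatrix 4 0 = 0)
    (e_4_1 : T.picMatrix 4 1 = 0)
    (e_4_2 : T.picMatrix 4 2 = 0)
    (e_4_3 : T.picMatrix 4 3 = 1)
    (e_4_5 : T.picMatrix 4 5 = 1)
    (e_5_0 : T.picMatrix 5 0 = 0)
    (e_5_1 : T.picMatrix 5 1 = 0)
    (e_5_2 : T.picMatrix 5 2 = 0)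
    (e_5_3 : T.picMatrix 5 3 = 0)
    (e_5_4 : T.picMatrix 5 4 = 2)
    (cl : ∀ a b : Fin 7, a.val < 5 → 7 ≤ b.val → T.picMatrix a b = 0)
    (z : ∀ a : Fin 7, a.val < 5 → T.picMatrix a 6 = 0)
    (hne : T.picMatrix 5 6 ≠ 0) :
    Goal T := by
  have e_0_6 : T.picMatrix 0 6 = 0 := z 0 (by decide)
  have e_6_0 : T.picMatrix 6 0 = 0 := nt_pic_zero_symm T 0 6 e_0_6
  have e_1_6 : T.picMatrix 1 6 = 0 := z 1 (by decide)
  have e_6_1 : T.picMatrix 6 1 = 0 := nt_pic_zero_symm T 1 6 e_1_6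
  have e_2_6 : T.picMatrix 2 6 = 0 := z 2 (by decide)
  have e_6_2 : T.picMatrix 6 2 = 0 := nt_pic_zero_symm T 2 6 e_2_6
  have e_3_6 : T.picMatrix 3 6 = 0 := z 3 (by decide)
  have e_6_3 : T.picMatrix 6 3 = 0 := nt_pic_zero_symm T 3 6 e_3_6
  have e_4_6 : T.picMatrix 4 6 = 0 := z 4 (by decide)
  have e_6_4 : T.picMatrix 6 4 = 0 := nt_pic_zero_symm T 4 6 e_4_6
  obtain ⟨hg0, hdA, hdP, hnn, hrow, hsym, hpair⟩ := ntgood_data T (by norm_num) hG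
  have hm_0 := T.m_pos 0
  have hw_0 := T.w_pos 0
  have hm_1 := T.m_pos 1
  have hw_1 := T.w_pos 1
  have hm_2 := T.m_pos 2
  have hw_2 := T.w_pos 2
  have hm_3 := T.m_pos 3
  have hw_3 := T.w_pos 3
  have hm_4 := T.m_pos 4
  have hw_4 := T.w_pos 4
  have hm_5 := T.m_pos 5
  have hw_5 := T.w_pos 5
  have hm_6 := T.m_pos 6
  have hw_6 := T.w_pos 6
  have hx_1 := hmax 1
  have hx_2 := hmax 2
  have hx_3 := hmax 3
  have hx_4 := hmax 4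
  have hx_5 := hmax 5
  have hx_6 := hmax 6
  have N_5_6 := mul_nonneg (hnn 5 6 (by decide)) (T.m_pos 6).le
  have N_6_5 := mul_nonneg (hnn 6 5 (by decide)) (T.m_pos 5).le
  have R_0 := hrow 0
  rw [Fin.sum_univ_seven, hdP 0, e_0_1, e_0_2, e_0_3, e_0_4, e_0_5, e_0_6] at R_0
  have R_1 := hrow 1
  rw [Fin.sum_univ_seven, hdP 1, e_1_0, e_1_2, e_1_3, e_1_4, e_1_5, e_1_6] at R_1
  have R_2 := hrow 2
  rw [Fin.sum_univ_seven, hdP 2, e_2_0, e_2_1, e_2_3, e_2_4, e_2_5, e_2_6] at R_2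
  have R_3 := hrow 3
  rw [Fin.sum_univ_seven, hdP 3, e_3_0, e_3_1, e_3_2, e_3_4, e_3_5, e_3_6] at R_3
  have R_4 := hrow 4
  rw [Fin.sum_univ_seven, hdP 4, e_4_0, e_4_1, e_4_2, e_4_3, e_4_5, e_4_6] at R_4
  have R_5 := hrow 5
  rw [Fin.sum_univ_seven, hdP 5, e_5_0, e_5_1, e_5_2, e_5_3, e_5_4] at R_5
  have R_6 := hrow 6
  rw [Fin.sum_univ_seven, hdP 6, e_6_0, e_6_1, e_6_2, e_6_3, e_6_4] at R_6
  have S_0_1 := hsym 0 1
  rw [e_0_1, e_1_0] at S_0_1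
  have S_0_2 := hsym 0 2
  rw [e_0_2, e_2_0] at S_0_2
  have S_0_3 := hsym 0 3
  rw [e_0_3, e_3_0] at S_0_3
  have S_0_4 := hsym 0 4
  rw [e_0_4, e_4_0] at S_0_4
  have S_0_5 := hsym 0 5
  rw [e_0_5, e_5_0] at S_0_5
  have S_0_6 := hsym 0 6
  rw [e_0_6, e_6_0] at S_0_6
  have S_1_2 := hsym 1 2
  rw [e_1_2, e_2_1] at S_1_2
  have S_1_3 := hsym 1 3
  rw [e_1_3, e_3_1] at S_1_3
  have S_1_4 := hsym 1 4
  rw [e_1_4, e_4_1] at S_1_4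
  have S_1_5 := hsym 1 5
  rw [e_1_5, e_5_1] at S_1_5
  have S_1_6 := hsym 1 6
  rw [e_1_6, e_6_1] at S_1_6
  have S_2_3 := hsym 2 3
  rw [e_2_3, e_3_2] at S_2_3
  have S_2_4 := hsym 2 4
  rw [e_2_4, e_4_2] at S_2_4
  have S_2_5 := hsym 2 5
  rw [e_2_5, e_5_2] at S_2_5
  have S_2_6 := hsym 2 6
  rw [e_2_6, e_6_2] at S_2_6
  have S_3_4 := hsym 3 4
  rw [e_3_4, e_4_3] at S_3_4
  have S_3_5 := hsym 3 5
  rw [e_3_5, e_5_3] at S_3_5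
  have S_3_6 := hsym 3 6
  rw [e_3_6, e_6_3] at S_3_6
  have S_4_5 := hsym 4 5
  rw [e_4_5, e_5_4] at S_4_5
  have S_4_6 := hsym 4 6
  rw [e_4_6, e_6_4] at S_4_6
  have S_5_6 := hsym 5 6
  have Q_5 := hpair 5 6 (by decide)
  generalize e_5_6 : T.picMatrix 5 6 = x_5 at *
  generalize e_6_5 : T.picMatrix 6 5 = y_5 at *
  rcases Q_5 with ⟨rfl, rfl⟩ | ⟨rfl, rfl⟩ | ⟨rfl, rfl⟩ | ⟨rfl, rfl⟩ | ⟨rfl, rfl⟩ | ⟨rfl, rfl⟩ | ⟨rfl, rfl⟩ | ⟨rfl, rfl⟩ | ⟨rfl, rfl⟩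
  · exact absurd rfl hne
  · -- (5,6) = (1,1)
    omega
  · -- (5,6) = (1,2)
    omega
  · -- (5,6) = (2,1)
    omega
  · -- (5,6) = (1,3)
    omega
  · -- (5,6) = (3,1)
    omega
  · -- (5,6) = (1,4)
    omega
  · -- (5,6) = (4,1)
    omega
  · -- (5,6) = (2,2)
    omega

theorem nd_600 (T : Models.NumericalType 7)
    (hG : NTGood T)
    (hmax : ∀ j, T.m j ≤ T.m 0)
    (e_0_1 : T.picMatrix 0 1 = 1)
    (e_0_2 : T.picMatrix 0 2 = 2)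
    (e_0_3 : T.picMatrix 0 3 = 0)
    (e_0_4 : T.picMatrix 0 4 = 0)
    (e_0_5 : T.picMatrix 0 5 = 0)
    (e_1_0 : T.picMatrix 1 0 = 1)
    (e_1_2 : T.picMatrix 1 2 = 0)
    (e_1_3 : T.picMatrix 1 3 = 1)
    (e_1_4 : T.picMatrix 1 4 = 0)
    (e_1_5 : T.picMatrix 1 5 = 0)
    (e_2_0 : T.picMatrix 2 0 = 1)
    (e_2_1 : T.picMatrix 2 1 = 0)
    (e_2_3 : T.picMatrix 2 3 = 0)
    (e_2_4 : T.picMatrix 2 4 = 0)
    (e_2_5 : T.picMatrix 2 5 = 0)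
    (e_3_0 : T.picMatrix 3 0 = 0)
    (e_3_1 : T.picMatrix 3 1 = 1)
    (e_3_2 : T.picMatrix 3 2 = 0)
    (e_3_4 : T.picMatrix 3 4 = 1)
    (e_3_5 : T.picMatrix 3 5 = 0)
    (e_4_0 : T.picMatrix 4 0 = 0)
    (e_4_1 : T.picMatrix 4 1 = 0)
    (e_4_2 : T.picMatrix 4 2 = 0)
    (e_4_3 : T.picMatrix 4 3 = 1)
    (e_4_5 : T.picMatrix 4 5 = 1)
    (e_5_0 : T.picMatrix 5 0 = 0)
    (e_5_1 : T.picMatrix 5 1 = 0)
    (e_5_2 : T.picMatrix 5 2 = 0)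
    (e_5_3 : T.picMatrix 5 3 = 0)
    (e_5_4 : T.picMatrix 5 4 = 2)
    (cl : ∀ a b : Fin 7, a.val < 5 → 6 ≤ b.val → T.picMatrix a b = 0) :
    Goal T := by
  by_cases hc : ∀ b : Fin 7, 6 ≤ b.val → T.picMatrix 5 b = 0
  · exact nd_601 T hG hmax e_0_1 e_0_2 e_0_3 e_0_4 e_0_5 e_1_0 e_1_2 e_1_3 e_1_4 e_1_5 e_2_0 e_2_1 e_2_3 e_2_4 e_2_5 e_3_0 e_3_1 e_3_2 e_3_4 e_3_5 e_4_0 e_4_1 e_4_2 e_4_3 e_4_5 e_5_0 e_5_1 e_5_2 e_5_3 e_5_4 (nt_cl_succ T 6 5 5 rfl cl hc)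
  · obtain ⟨τ, hfix, cl', z, hne⟩ := nt_wlog_step T 6 (by norm_num) 5 (by norm_num) 5 (by decide) cl hc
    apply goal_relabel T τ
    refine ex_602 (ntRelabel T τ) (hG.relabel τ) ?_ ?_ ?_ ?_ ?_ ?_ ?_ ?_ ?_ ?_ ?_ ?_ ?_ ?_ ?_ ?_ ?_ ?_ ?_ ?_ ?_ ?_ ?_ ?_ ?_ ?_ ?_ ?_ ?_ ?_ ?_ cl' z hne
    · intro j
      show T.m (τ j) ≤ T.m (τ 0)
      rw [hfix 0 (by decide)]
      exact hmax _
    · show T.picMatrix (τ 0) (τ 1) = 1
      rw [hfix 0 (by decide), hfix 1 (by decide)]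
      exact e_0_1
    · show T.picMatrix (τ 0) (τ 2) = 2
      rw [hfix 0 (by decide), hfix 2 (by decide)]
      exact e_0_2
    · show T.picMatrix (τ 0) (τ 3) = 0
      rw [hfix 0 (by decide), hfix 3 (by decide)]
      exact e_0_3
    · show T.picMatrix (τ 0) (τ 4) = 0
      rw [hfix 0 (by decide), hfix 4 (by decide)]
      exact e_0_4
    · show T.picMatrix (τ 0) (τ 5) = 0
      rw [hfix 0 (by decide), hfix 5 (by decide)]
      exact e_0_5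
    · show T.picMatrix (τ 1) (τ 0) = 1
      rw [hfix 1 (by decide), hfix 0 (by decide)]
      exact e_1_0
    · show T.picMatrix (τ 1) (τ 2) = 0
      rw [hfix 1 (by decide), hfix 2 (by decide)]
      exact e_1_2
    · show T.picMatrix (τ 1) (τ 3) = 1
      rw [hfix 1 (by decide), hfix 3 (by decide)]
      exact e_1_3
    · show T.picMatrix (τ 1) (τ 4) = 0
      rw [hfix 1 (by decide), hfix 4 (by decide)]
      exact e_1_4
    · show T.picMatrix (τ 1) (τ 5) = 0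
      rw [hfix 1 (by decide), hfix 5 (by decide)]
      exact e_1_5
    · show T.picMatrix (τ 2) (τ 0) = 1
      rw [hfix 2 (by decide), hfix 0 (by decide)]
      exact e_2_0
    · show T.picMatrix (τ 2) (τ 1) = 0
      rw [hfix 2 (by decide), hfix 1 (by decide)]
      exact e_2_1
    · show T.picMatrix (τ 2) (τ 3) = 0
      rw [hfix 2 (by decide), hfix 3 (by decide)]
      exact e_2_3
    · show T.picMatrix (τ 2) (τ 4) = 0
      rw [hfix 2 (by decide), hfix 4 (by decide)]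
      exact e_2_4
    · show T.picMatrix (τ 2) (τ 5) = 0
      rw [hfix 2 (by decide), hfix 5 (by decide)]
      exact e_2_5
    · show T.picMatrix (τ 3) (τ 0) = 0
      rw [hfix 3 (by decide), hfix 0 (by decide)]
      exact e_3_0
    · show T.picMatrix (τ 3) (τ 1) = 1
      rw [hfix 3 (by decide), hfix 1 (by decide)]
      exact e_3_1
    · show T.picMatrix (τ 3) (τ 2) = 0
      rw [hfix 3 (by decide), hfix 2 (by decide)]
      exact e_3_2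
    · show T.picMatrix (τ 3) (τ 4) = 1
      rw [hfix 3 (by decide), hfix 4 (by decide)]
      exact e_3_4
    · show T.picMatrix (τ 3) (τ 5) = 0
      rw [hfix 3 (by decide), hfix 5 (by decide)]
      exact e_3_5
    · show T.picMatrix (τ 4) (τ 0) = 0
      rw [hfix 4 (by decide), hfix 0 (by decide)]
      exact e_4_0
    · show T.picMatrix (τ 4) (τ 1) = 0
      rw [hfix 4 (by decide), hfix 1 (by decide)]
      exact e_4_1
    · show T.picMatrix (τ 4) (τ 2) = 0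
      rw [hfix 4 (by decide), hfix 2 (by decide)]
      exact e_4_2
    · show T.picMatrix (τ 4) (τ 3) = 1
      rw [hfix 4 (by decide), hfix 3 (by decide)]
      exact e_4_3
    · show T.picMatrix (τ 4) (τ 5) = 1
      rw [hfix 4 (by decide), hfix 5 (by decide)]
      exact e_4_5
    · show T.picMatrix (τ 5) (τ 0) = 0
      rw [hfix 5 (by decide), hfix 0 (by decide)]
      exact e_5_0
    · show T.picMatrix (τ 5) (τ 1) = 0
      rw [hfix 5 (by decide), hfix 1 (by decide)]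
      exact e_5_1
    · show T.picMatrix (τ 5) (τ 2) = 0
      rw [hfix 5 (by decide), hfix 2 (by decide)]
      exact e_5_2
    · show T.picMatrix (τ 5) (τ 3) = 0
      rw [hfix 5 (by decide), hfix 3 (by decide)]
      exact e_5_3
    · show T.picMatrix (τ 5) (τ 4) = 2
      rw [hfix 5 (by decide), hfix 4 (by decide)]
      exact e_5_4

theorem ex_603 (T : Models.NumericalType 7)
    (hG : NTGood T)
    (hmax : ∀ j, T.m j ≤ T.m 0)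
    (e_0_1 : T.picMatrix 0 1 = 1)
    (e_0_2 : T.picMatrix 0 2 = 2)
    (e_0_3 : T.picMatrix 0 3 = 0)
    (e_0_4 : T.picMatrix 0 4 = 0)
    (e_0_5 : T.picMatrix 0 5 = 0)
    (e_1_0 : T.picMatrix 1 0 = 1)
    (e_1_2 : T.picMatrix 1 2 = 0)
    (e_1_3 : T.picMatrix 1 3 = 1)
    (e_1_4 : T.picMatrix 1 4 = 0)
    (e_1_5 : T.picMatrix 1 5 = 0)
    (e_2_0 : T.picMatrix 2 0 = 1)
    (e_2_1 : T.picMatrix 2 1 = 0)
    (e_2_3 : T.picMatrix 2 3 = 0)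
    (e_2_4 : T.picMatrix 2 4 = 0)
    (e_2_5 : T.picMatrix 2 5 = 0)
    (e_3_0 : T.picMatrix 3 0 = 0)
    (e_3_1 : T.picMatrix 3 1 = 1)
    (e_3_2 : T.picMatrix 3 2 = 0)
    (e_3_4 : T.picMatrix 3 4 = 1)
    (e_3_5 : T.picMatrix 3 5 = 0)
    (e_4_0 : T.picMatrix 4 0 = 0)
    (e_4_1 : T.picMatrix 4 1 = 0)
    (e_4_2 : T.picMatrix 4 2 = 0)
    (e_4_3 : T.picMatrix 4 3 = 1)
    (e_4_5 : T.picMatrix 4 5 = 1)
    (e_5_0 : T.picMatrix 5 0 = 0)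
    (e_5_1 : T.picMatrix 5 1 = 0)
    (e_5_2 : T.picMatrix 5 2 = 0)
    (e_5_3 : T.picMatrix 5 3 = 0)
    (e_5_4 : T.picMatrix 5 4 = 2)
    (cl : ∀ a b : Fin 7, a.val < 4 → 7 ≤ b.val → T.picMatrix a b = 0)
    (z : ∀ a : Fin 7, a.val < 4 → T.picMatrix a 6 = 0)
    (hne : T.picMatrix 4 6 ≠ 0) :
    Goal T := by
  have e_0_6 : T.picMatrix 0 6 = 0 := z 0 (by decide)
  have e_6_0 : T.picMatrix 6 0 = 0 := nt_pic_zero_symm T 0 6 e_0_6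
  have e_1_6 : T.picMatrix 1 6 = 0 := z 1 (by decide)
  have e_6_1 : T.picMatrix 6 1 = 0 := nt_pic_zero_symm T 1 6 e_1_6
  have e_2_6 : T.picMatrix 2 6 = 0 := z 2 (by decide)
  have e_6_2 : T.picMatrix 6 2 = 0 := nt_pic_zero_symm T 2 6 e_2_6
  have e_3_6 : T.picMatrix 3 6 = 0 := z 3 (by decide)
  have e_6_3 : T.picMatrix 6 3 = 0 := nt_pic_zero_symm T 3 6 e_3_6
  obtain ⟨hg0, hdA, hdP, hnn, hrow, hsym, hpair⟩ := ntgood_data T (by norm_num) hG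
  have hm_0 := T.m_pos 0
  have hw_0 := T.w_pos 0
  have hm_1 := T.m_pos 1
  have hw_1 := T.w_pos 1
  have hm_2 := T.m_pos 2
  have hw_2 := T.w_pos 2
  have hm_3 := T.m_pos 3
  have hw_3 := T.w_pos 3
  have hm_4 := T.m_pos 4
  have hw_4 := T.w_pos 4
  have hm_5 := T.m_pos 5
  have hw_5 := T.w_pos 5
  have hm_6 := T.m_pos 6
  have hw_6 := T.w_pos 6
  have hx_1 := hmax 1
  have hx_2 := hmax 2
  have hx_3 := hmax 3
  have hx_4 := hmax 4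
  have hx_5 := hmax 5
  have hx_6 := hmax 6
  have N_4_6 := mul_nonneg (hnn 4 6 (by decide)) (T.m_pos 6).le
  have N_6_4 := mul_nonneg (hnn 6 4 (by decide)) (T.m_pos 4).le
  have N_5_6 := mul_nonneg (hnn 5 6 (by decide)) (T.m_pos 6).le
  have N_6_5 := mul_nonneg (hnn 6 5 (by decide)) (T.m_pos 5).le
  have R_0 := hrow 0
  rw [Fin.sum_univ_seven, hdP 0, e_0_1, e_0_2, e_0_3, e_0_4, e_0_5, e_0_6] at R_0
  have R_1 := hrow 1
  rw [Fin.sum_univ_seven, hdP 1, e_1_0, e_1_2, e_1_3, e_1_4, e_1_5, e_1_6] at R_1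
  have R_2 := hrow 2
  rw [Fin.sum_univ_seven, hdP 2, e_2_0, e_2_1, e_2_3, e_2_4, e_2_5, e_2_6] at R_2
  have R_3 := hrow 3
  rw [Fin.sum_univ_seven, hdP 3, e_3_0, e_3_1, e_3_2, e_3_4, e_3_5, e_3_6] at R_3
  have R_4 := hrow 4
  rw [Fin.sum_univ_seven, hdP 4, e_4_0, e_4_1, e_4_2, e_4_3, e_4_5] at R_4
  have R_5 := hrow 5
  rw [Fin.sum_univ_seven, hdP 5, e_5_0, e_5_1, e_5_2, e_5_3, e_5_4] at R_5
  have R_6 := hrow 6
  rw [Fin.sum_univ_seven, hdP 6, e_6_0, e_6_1, e_6_2, e_6_3] at R_6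
  have S_0_1 := hsym 0 1
  rw [e_0_1, e_1_0] at S_0_1
  have S_0_2 := hsym 0 2
  rw [e_0_2, e_2_0] at S_0_2
  have S_0_3 := hsym 0 3
  rw [e_0_3, e_3_0] at S_0_3
  have S_0_4 := hsym 0 4
  rw [e_0_4, e_4_0] at S_0_4
  have S_0_5 := hsym 0 5
  rw [e_0_5, e_5_0] at S_0_5
  have S_0_6 := hsym 0 6
  rw [e_0_6, e_6_0] at S_0_6
  have S_1_2 := hsym 1 2
  rw [e_1_2, e_2_1] at S_1_2
  have S_1_3 := hsym 1 3
  rw [e_1_3, e_3_1] at S_1_3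
  have S_1_4 := hsym 1 4
  rw [e_1_4, e_4_1] at S_1_4
  have S_1_5 := hsym 1 5
  rw [e_1_5, e_5_1] at S_1_5
  have S_1_6 := hsym 1 6
  rw [e_1_6, e_6_1] at S_1_6
  have S_2_3 := hsym 2 3
  rw [e_2_3, e_3_2] at S_2_3
  have S_2_4 := hsym 2 4
  rw [e_2_4, e_4_2] at S_2_4
  have S_2_5 := hsym 2 5
  rw [e_2_5, e_5_2] at S_2_5
  have S_2_6 := hsym 2 6
  rw [e_2_6, e_6_2] at S_2_6
  have S_3_4 := hsym 3 4
  rw [e_3_4, e_4_3] at S_3_4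
  have S_3_5 := hsym 3 5
  rw [e_3_5, e_5_3] at S_3_5
  have S_3_6 := hsym 3 6
  rw [e_3_6, e_6_3] at S_3_6
  have S_4_5 := hsym 4 5
  rw [e_4_5, e_5_4] at S_4_5
  have S_4_6 := hsym 4 6
  have S_5_6 := hsym 5 6
  have Q_4 := hpair 4 6 (by decide)
  have Q_5 := hpair 5 6 (by decide)
  generalize e_4_6 : T.picMatrix 4 6 = x_4 at *
  generalize e_6_4 : T.picMatrix 6 4 = y_4 at *
  generalize e_5_6 : T.picMatrix 5 6 = x_5 at *
  generalize e_6_5 : T.picMatrix 6 5 = y_5 at *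
  rcases Q_4 with ⟨rfl, rfl⟩ | ⟨rfl, rfl⟩ | ⟨rfl, rfl⟩ | ⟨rfl, rfl⟩ | ⟨rfl, rfl⟩ | ⟨rfl, rfl⟩ | ⟨rfl, rfl⟩ | ⟨rfl, rfl⟩ | ⟨rfl, rfl⟩
  · exact absurd rfl hne
  · omega
  · omega
  · omega
  · omega
  · omega
  · omega
  · omega
  · omega

theorem nd_599 (T : Models.NumericalType 7)
    (hG : NTGood T)
    (hmax : ∀ j, T.m j ≤ T.m 0)
    (e_0_1 : T.picMatrix 0 1 = 1)
    (e_0_2 : T.picMatrix 0 2 = 2)
    (e_0_3 : T.picMatrix 0 3 = 0)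
    (e_0_4 : T.picMatrix 0 4 = 0)
    (e_0_5 : T.picMatrix 0 5 = 0)
    (e_1_0 : T.picMatrix 1 0 = 1)
    (e_1_2 : T.picMatrix 1 2 = 0)
    (e_1_3 : T.picMatrix 1 3 = 1)
    (e_1_4 : T.picMatrix 1 4 = 0)
    (e_1_5 : T.picMatrix 1 5 = 0)
    (e_2_0 : T.picMatrix 2 0 = 1)
    (e_2_1 : T.picMatrix 2 1 = 0)
    (e_2_3 : T.picMatrix 2 3 = 0)
    (e_2_4 : T.picMatrix 2 4 = 0)
    (e_2_5 : T.picMatrix 2 5 = 0)
    (e_3_0 : T.picMatrix 3 0 = 0)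
    (e_3_1 : T.picMatrix 3 1 = 1)
    (e_3_2 : T.picMatrix 3 2 = 0)
    (e_3_4 : T.picMatrix 3 4 = 1)
    (e_3_5 : T.picMatrix 3 5 = 0)
    (e_4_0 : T.picMatrix 4 0 = 0)
    (e_4_1 : T.picMatrix 4 1 = 0)
    (e_4_2 : T.picMatrix 4 2 = 0)
    (e_4_3 : T.picMatrix 4 3 = 1)
    (e_4_5 : T.picMatrix 4 5 = 1)
    (e_5_0 : T.picMatrix 5 0 = 0)
    (e_5_1 : T.picMatrix 5 1 = 0)
    (e_5_2 : T.picMatrix 5 2 = 0)
    (e_5_3 : T.picMatrix 5 3 = 0)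
    (e_5_4 : T.picMatrix 5 4 = 2)
    (cl : ∀ a b : Fin 7, a.val < 4 → 6 ≤ b.val → T.picMatrix a b = 0) :
    Goal T := by
  by_cases hc : ∀ b : Fin 7, 6 ≤ b.val → T.picMatrix 4 b = 0
  · exact nd_600 T hG hmax e_0_1 e_0_2 e_0_3 e_0_4 e_0_5 e_1_0 e_1_2 e_1_3 e_1_4 e_1_5 e_2_0 e_2_1 e_2_3 e_2_4 e_2_5 e_3_0 e_3_1 e_3_2 e_3_4 e_3_5 e_4_0 e_4_1 e_4_2 e_4_3 e_4_5 e_5_0 e_5_1 e_5_2 e_5_3 e_5_4 (nt_cl_succ T 6 4 4 rfl cl hc)
  · obtain ⟨τ, hfix, cl', z, hne⟩ := nt_wlog_step T 6 (by norm_num) 4 (by norm_num) 4 (by decide) cl hc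
    apply goal_relabel T τ
    refine ex_603 (ntRelabel T τ) (hG.relabel τ) ?_ ?_ ?_ ?_ ?_ ?_ ?_ ?_ ?_ ?_ ?_ ?_ ?_ ?_ ?_ ?_ ?_ ?_ ?_ ?_ ?_ ?_ ?_ ?_ ?_ ?_ ?_ ?_ ?_ ?_ ?_ cl' z hne
    · intro j
      show T.m (τ j) ≤ T.m (τ 0)
      rw [hfix 0 (by decide)]
      exact hmax _
    · show T.picMatrix (τ 0) (τ 1) = 1
      rw [hfix 0 (by decide), hfix 1 (by decide)]
      exact e_0_1
    · show T.picMatrix (τ 0) (τ 2) = 2
      rw [hfix 0 (by decide), hfix 2 (by decide)]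
      exact e_0_2
    · show T.picMatrix (τ 0) (τ 3) = 0
      rw [hfix 0 (by decide), hfix 3 (by decide)]
      exact e_0_3
    · show T.picMatrix (τ 0) (τ 4) = 0
      rw [hfix 0 (by decide), hfix 4 (by decide)]
      exact e_0_4
    · show T.picMatrix (τ 0) (τ 5) = 0
      rw [hfix 0 (by decide), hfix 5 (by decide)]
      exact e_0_5
    · show T.picMatrix (τ 1) (τ 0) = 1
      rw [hfix 1 (by decide), hfix 0 (by decide)]
      exact e_1_0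
    · show T.picMatrix (τ 1) (τ 2) = 0
      rw [hfix 1 (by decide), hfix 2 (by decide)]
      exact e_1_2
    · show T.picMatrix (τ 1) (τ 3) = 1
      rw [hfix 1 (by decide), hfix 3 (by decide)]
      exact e_1_3
    · show T.picMatrix (τ 1) (τ 4) = 0
      rw [hfix 1 (by decide), hfix 4 (by decide)]
      exact e_1_4
    · show T.picMatrix (τ 1) (τ 5) = 0
      rw [hfix 1 (by decide), hfix 5 (by decide)]
      exact e_1_5
    · show T.picMatrix (τ 2) (τ 0) = 1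
      rw [hfix 2 (by decide), hfix 0 (by decide)]
      exact e_2_0
    · show T.picMatrix (τ 2) (τ 1) = 0
      rw [hfix 2 (by decide), hfix 1 (by decide)]
      exact e_2_1
    · show T.picMatrix (τ 2) (τ 3) = 0
      rw [hfix 2 (by decide), hfix 3 (by decide)]
      exact e_2_3
    · show T.picMatrix (τ 2) (τ 4) = 0
      rw [hfix 2 (by decide), hfix 4 (by decide)]
      exact e_2_4
    · show T.picMatrix (τ 2) (τ 5) = 0
      rw [hfix 2 (by decide), hfix 5 (by decide)]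
      exact e_2_5
    · show T.picMatrix (τ 3) (τ 0) = 0
      rw [hfix 3 (by decide), hfix 0 (by decide)]
      exact e_3_0
    · show T.picMatrix (τ 3) (τ 1) = 1
      rw [hfix 3 (by decide), hfix 1 (by decide)]
      exact e_3_1
    · show T.picMatrix (τ 3) (τ 2) = 0
      rw [hfix 3 (by decide), hfix 2 (by decide)]
      exact e_3_2
    · show T.picMatrix (τ 3) (τ 4) = 1
      rw [hfix 3 (by decide), hfix 4 (by decide)]
      exact e_3_4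
    · show T.picMatrix (τ 3) (τ 5) = 0
      rw [hfix 3 (by decide), hfix 5 (by decide)]
      exact e_3_5
    · show T.picMatrix (τ 4) (τ 0) = 0
      rw [hfix 4 (by decide), hfix 0 (by decide)]
      exact e_4_0
    · show T.picMatrix (τ 4) (τ 1) = 0
      rw [hfix 4 (by decide), hfix 1 (by decide)]
      exact e_4_1
    · show T.picMatrix (τ 4) (τ 2) = 0
      rw [hfix 4 (by decide), hfix 2 (by decide)]
      exact e_4_2
    · show T.picMatrix (τ 4) (τ 3) = 1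
      rw [hfix 4 (by decide), hfix 3 (by decide)]
      exact e_4_3
    · show T.picMatrix (τ 4) (τ 5) = 1
      rw [hfix 4 (by decide), hfix 5 (by decide)]
      exact e_4_5
    · show T.picMatrix (τ 5) (τ 0) = 0
      rw [hfix 5 (by decide), hfix 0 (by decide)]
      exact e_5_0
    · show T.picMatrix (τ 5) (τ 1) = 0
      rw [hfix 5 (by decide), hfix 1 (by decide)]
      exact e_5_1
    · show T.picMatrix (τ 5) (τ 2) = 0
      rw [hfix 5 (by decide), hfix 2 (by decide)]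
      exact e_5_2
    · show T.picMatrix (τ 5) (τ 3) = 0
      rw [hfix 5 (by decide), hfix 3 (by decide)]
      exact e_5_3
    · show T.picMatrix (τ 5) (τ 4) = 2
      rw [hfix 5 (by decide), hfix 4 (by decide)]
      exact e_5_4

theorem nd_606 (T : Models.NumericalType 7)
    (hG : NTGood T)
    (hmax : ∀ j, T.m j ≤ T.m 0)
    (e_0_1 : T.picMatrix 0 1 = 1)
    (e_0_2 : T.picMatrix 0 2 = 2)
    (e_0_3 : T.picMatrix 0 3 = 0)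
    (e_0_4 : T.picMatrix 0 4 = 0)
    (e_0_5 : T.picMatrix 0 5 = 0)
    (e_1_0 : T.picMatrix 1 0 = 1)
    (e_1_2 : T.picMatrix 1 2 = 0)
    (e_1_3 : T.picMatrix 1 3 = 1)
    (e_1_4 : T.picMatrix 1 4 = 0)
    (e_1_5 : T.picMatrix 1 5 = 0)
    (e_2_0 : T.picMatrix 2 0 = 1)
    (e_2_1 : T.picMatrix 2 1 = 0)
    (e_2_3 : T.picMatrix 2 3 = 0)
    (e_2_4 : T.picMatrix 2 4 = 0)
    (e_2_5 : T.picMatrix 2 5 = 0)
    (e_3_0 : T.picMatrix 3 0 = 0)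
    (e_3_1 : T.picMatrix 3 1 = 1)
    (e_3_2 : T.picMatrix 3 2 = 0)
    (e_3_4 : T.picMatrix 3 4 = 1)
    (e_3_5 : T.picMatrix 3 5 = 0)
    (e_4_0 : T.picMatrix 4 0 = 0)
    (e_4_1 : T.picMatrix 4 1 = 0)
    (e_4_2 : T.picMatrix 4 2 = 0)
    (e_4_3 : T.picMatrix 4 3 = 1)
    (e_4_5 : T.picMatrix 4 5 = 2)
    (e_5_0 : T.picMatrix 5 0 = 0)
    (e_5_1 : T.picMatrix 5 1 = 0)
    (e_5_2 : T.picMatrix 5 2 = 0)
    (e_5_3 : T.picMatrix 5 3 = 0)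
    (e_5_4 : T.picMatrix 5 4 = 1)
    (cl : ∀ a b : Fin 7, a.val < 6 → 6 ≤ b.val → T.picMatrix a b = 0) :
    Goal T := by
  exact (nt_closed_false T 6 (by norm_num) (by norm_num) cl).elim

theorem ex_607 (T : Models.NumericalType 7)
    (hG : NTGood T)
    (hmax : ∀ j, T.m j ≤ T.m 0)
    (e_0_1 : T.picMatrix 0 1 = 1)
    (e_0_2 : T.picMatrix 0 2 = 2)
    (e_0_3 : T.picMatrix 0 3 = 0)
    (e_0_4 : T.picMatrix 0 4 = 0)
    (e_0_5 : T.picMatrix 0 5 = 0)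
    (e_1_0 : T.picMatrix 1 0 = 1)
    (e_1_2 : T.picMatrix 1 2 = 0)
    (e_1_3 : T.picMatrix 1 3 = 1)
    (e_1_4 : T.picMatrix 1 4 = 0)
    (e_1_5 : T.picMatrix 1 5 = 0)
    (e_2_0 : T.picMatrix 2 0 = 1)
    (e_2_1 : T.picMatrix 2 1 = 0)
    (e_2_3 : T.picMatrix 2 3 = 0)
    (e_2_4 : T.picMatrix 2 4 = 0)
    (e_2_5 : T.picMatrix 2 5 = 0)
    (e_3_0 : T.picMatrix 3 0 = 0)
    (e_3_1 : T.picMatrix 3 1 = 1)
    (e_3_2 : T.picMatrix 3 2 = 0)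
    (e_3_4 : T.picMatrix 3 4 = 1)
    (e_3_5 : T.picMatrix 3 5 = 0)
    (e_4_0 : T.picMatrix 4 0 = 0)
    (e_4_1 : T.picMatrix 4 1 = 0)
    (e_4_2 : T.picMatrix 4 2 = 0)
    (e_4_3 : T.picMatrix 4 3 = 1)
    (e_4_5 : T.picMatrix 4 5 = 2)
    (e_5_0 : T.picMatrix 5 0 = 0)
    (e_5_1 : T.picMatrix 5 1 = 0)
    (e_5_2 : T.picMatrix 5 2 = 0)
    (e_5_3 : T.picMatrix 5 3 = 0)
    (e_5_4 : T.picMatrix 5 4 = 1)
    (cl : ∀ a b : Fin 7, a.val < 5 → 7 ≤ b.val → T.picMatrix a b = 0)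
    (z : ∀ a : Fin 7, a.val < 5 → T.picMatrix a 6 = 0)
    (hne : T.picMatrix 5 6 ≠ 0) :
    Goal T := by
  have e_0_6 : T.picMatrix 0 6 = 0 := z 0 (by decide)
  have e_6_0 : T.picMatrix 6 0 = 0 := nt_pic_zero_symm T 0 6 e_0_6
  have e_1_6 : T.picMatrix 1 6 = 0 := z 1 (by decide)
  have e_6_1 : T.picMatrix 6 1 = 0 := nt_pic_zero_symm T 1 6 e_1_6
  have e_2_6 : T.picMatrix 2 6 = 0 := z 2 (by decide)
  have e_6_2 : T.picMatrix 6 2 = 0 := nt_pic_zero_symm T 2 6 e_2_6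
  have e_3_6 : T.picMatrix 3 6 = 0 := z 3 (by decide)
  have e_6_3 : T.picMatrix 6 3 = 0 := nt_pic_zero_symm T 3 6 e_3_6
  have e_4_6 : T.picMatrix 4 6 = 0 := z 4 (by decide)
  have e_6_4 : T.picMatrix 6 4 = 0 := nt_pic_zero_symm T 4 6 e_4_6
  obtain ⟨hg0, hdA, hdP, hnn, hrow, hsym, hpair⟩ := ntgood_data T (by norm_num) hG
  have hm_0 := T.m_pos 0
  have hw_0 := T.w_pos 0
  have hm_1 := T.m_pos 1
  have hw_1 := T.w_pos 1
  have hm_2 := T.m_pos 2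
  have hw_2 := T.w_pos 2
  have hm_3 := T.m_pos 3
  have hw_3 := T.w_pos 3
  have hm_4 := T.m_pos 4
  have hw_4 := T.w_pos 4
  have hm_5 := T.m_pos 5
  have hw_5 := T.w_pos 5
  have hm_6 := T.m_pos 6
  have hw_6 := T.w_pos 6
  have hx_1 := hmax 1
  have hx_2 := hmax 2
  have hx_3 := hmax 3
  have hx_4 := hmax 4
  have hx_5 := hmax 5
  have hx_6 := hmax 6
  have N_5_6 := mul_nonneg (hnn 5 6 (by decide)) (T.m_pos 6).le
  have N_6_5 := mul_nonneg (hnn 6 5 (by decide)) (T.m_pos 5).le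
  have R_0 := hrow 0
  rw [Fin.sum_univ_seven, hdP 0, e_0_1, e_0_2, e_0_3, e_0_4, e_0_5, e_0_6] at R_0
  have R_1 := hrow 1
  rw [Fin.sum_univ_seven, hdP 1, e_1_0, e_1_2, e_1_3, e_1_4, e_1_5, e_1_6] at R_1
  have R_2 := hrow 2
  rw [Fin.sum_univ_seven, hdP 2, e_2_0, e_2_1, e_2_3, e_2_4, e_2_5, e_2_6] at R_2
  have R_3 := hrow 3
  rw [Fin.sum_univ_seven, hdP 3, e_3_0, e_3_1, e_3_2, e_3_4, e_3_5, e_3_6] at R_3
  have R_4 := hrow 4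
  rw [Fin.sum_univ_seven, hdP 4, e_4_0, e_4_1, e_4_2, e_4_3, e_4_5, e_4_6] at R_4
  have R_5 := hrow 5
  rw [Fin.sum_univ_seven, hdP 5, e_5_0, e_5_1, e_5_2, e_5_3, e_5_4] at R_5
  have R_6 := hrow 6
  rw [Fin.sum_univ_seven, hdP 6, e_6_0, e_6_1, e_6_2, e_6_3, e_6_4] at R_6
  have S_0_1 := hsym 0 1
  rw [e_0_1, e_1_0] at S_0_1
  have S_0_2 := hsym 0 2
  rw [e_0_2, e_2_0] at S_0_2
  have S_0_3 := hsym 0 3
  rw [e_0_3, e_3_0] at S_0_3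
  have S_0_4 := hsym 0 4
  rw [e_0_4, e_4_0] at S_0_4
  have S_0_5 := hsym 0 5
  rw [e_0_5, e_5_0] at S_0_5
  have S_0_6 := hsym 0 6
  rw [e_0_6, e_6_0] at S_0_6
  have S_1_2 := hsym 1 2
  rw [e_1_2, e_2_1] at S_1_2
  have S_1_3 := hsym 1 3
  rw [e_1_3, e_3_1] at S_1_3
  have S_1_4 := hsym 1 4
  rw [e_1_4, e_4_1] at S_1_4
  have S_1_5 := hsym 1 5
  rw [e_1_5, e_5_1] at S_1_5
  have S_1_6 := hsym 1 6
  rw [e_1_6, e_6_1] at S_1_6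
  have S_2_3 := hsym 2 3
  rw [e_2_3, e_3_2] at S_2_3
  have S_2_4 := hsym 2 4
  rw [e_2_4, e_4_2] at S_2_4
  have S_2_5 := hsym 2 5
  rw [e_2_5, e_5_2] at S_2_5
  have S_2_6 := hsym 2 6
  rw [e_2_6, e_6_2] at S_2_6
  have S_3_4 := hsym 3 4
  rw [e_3_4, e_4_3] at S_3_4
  have S_3_5 := hsym 3 5
  rw [e_3_5, e_5_3] at S_3_5
  have S_3_6 := hsym 3 6
  rw [e_3_6, e_6_3] at S_3_6
  have S_4_5 := hsym 4 5
  rw [e_4_5, e_5_4] at S_4_5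
  have S_4_6 := hsym 4 6
  rw [e_4_6, e_6_4] at S_4_6
  have S_5_6 := hsym 5 6
  have Q_5 := hpair 5 6 (by decide)
  generalize e_5_6 : T.picMatrix 5 6 = x_5 at *
  generalize e_6_5 : T.picMatrix 6 5 = y_5 at *
  rcases Q_5 with ⟨rfl, rfl⟩ | ⟨rfl, rfl⟩ | ⟨rfl, rfl⟩ | ⟨rfl, rfl⟩ | ⟨rfl, rfl⟩ | ⟨rfl, rfl⟩ | ⟨rfl, rfl⟩ | ⟨rfl, rfl⟩ | ⟨rfl, rfl⟩
  · exact absurd rfl hne
  · -- (5,6) = (1,1)
    omega
  · -- (5,6) = (1,2)
    omega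
  · -- (5,6) = (2,1)
    omega
  · -- (5,6) = (1,3)
    omega
  · -- (5,6) = (3,1)
    omega
  · -- (5,6) = (1,4)
    omega
  · -- (5,6) = (4,1)
    omega
  · -- (5,6) = (2,2)
    omega

theorem nd_605 (T : Models.NumericalType 7)
    (hG : NTGood T)
    (hmax : ∀ j, T.m j ≤ T.m 0)
    (e_0_1 : T.picMatrix 0 1 = 1)
    (e_0_2 : T.picMatrix 0 2 = 2)
    (e_0_3 : T.picMatrix 0 3 = 0)
    (e_0_4 : T.picMatrix 0 4 = 0)
    (e_0_5 : T.picMatrix 0 5 = 0)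
    (e_1_0 : T.picMatrix 1 0 = 1)
    (e_1_2 : T.picMatrix 1 2 = 0)
    (e_1_3 : T.picMatrix 1 3 = 1)
    (e_1_4 : T.picMatrix 1 4 = 0)
    (e_1_5 : T.picMatrix 1 5 = 0)
    (e_2_0 : T.picMatrix 2 0 = 1)
    (e_2_1 : T.picMatrix 2 1 = 0)
    (e_2_3 : T.picMatrix 2 3 = 0)
    (e_2_4 : T.picMatrix 2 4 = 0)
    (e_2_5 : T.picMatrix 2 5 = 0)
    (e_3_0 : T.picMatrix 3 0 = 0)
    (e_3_1 : T.picMatrix 3 1 = 1)
    (e_3_2 : T.picMatrix 3 2 = 0)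
    (e_3_4 : T.picMatrix 3 4 = 1)
    (e_3_5 : T.picMatrix 3 5 = 0)
    (e_4_0 : T.picMatrix 4 0 = 0)
    (e_4_1 : T.picMatrix 4 1 = 0)
    (e_4_2 : T.picMatrix 4 2 = 0)
    (e_4_3 : T.picMatrix 4 3 = 1)
    (e_4_5 : T.picMatrix 4 5 = 2)
    (e_5_0 : T.picMatrix 5 0 = 0)
    (e_5_1 : T.picMatrix 5 1 = 0)
    (e_5_2 : T.picMatrix 5 2 = 0)
    (e_5_3 : T.picMatrix 5 3 = 0)
    (e_5_4 : T.picMatrix 5 4 = 1)
    (cl : ∀ a b : Fin 7, a.val < 5 → 6 ≤ b.val → T.picMatrix a b = 0) :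
    Goal T := by
  by_cases hc : ∀ b : Fin 7, 6 ≤ b.val → T.picMatrix 5 b = 0
  · exact nd_606 T hG hmax e_0_1 e_0_2 e_0_3 e_0_4 e_0_5 e_1_0 e_1_2 e_1_3 e_1_4 e_1_5 e_2_0 e_2_1 e_2_3 e_2_4 e_2_5 e_3_0 e_3_1 e_3_2 e_3_4 e_3_5 e_4_0 e_4_1 e_4_2 e_4_3 e_4_5 e_5_0 e_5_1 e_5_2 e_5_3 e_5_4 (nt_cl_succ T 6 5 5 rfl cl hc)
  · obtain ⟨τ, hfix, cl', z, hne⟩ := nt_wlog_step T 6 (by norm_num) 5 (by norm_num) 5 (by decide) cl hc
    apply goal_relabel T τ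
    refine ex_607 (ntRelabel T τ) (hG.relabel τ) ?_ ?_ ?_ ?_ ?_ ?_ ?_ ?_ ?_ ?_ ?_ ?_ ?_ ?_ ?_ ?_ ?_ ?_ ?_ ?_ ?_ ?_ ?_ ?_ ?_ ?_ ?_ ?_ ?_ ?_ ?_ cl' z hne
    · intro j
      show T.m (τ j) ≤ T.m (τ 0)
      rw [hfix 0 (by decide)]
      exact hmax _
    · show T.picMatrix (τ 0) (τ 1) = 1
      rw [hfix 0 (by decide), hfix 1 (by decide)]
      exact e_0_1
    · show T.picMatrix (τ 0) (τ 2) = 2
      rw [hfix 0 (by decide), hfix 2 (by decide)]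
      exact e_0_2
    · show T.picMatrix (τ 0) (τ 3) = 0
      rw [hfix 0 (by decide), hfix 3 (by decide)]
      exact e_0_3
    · show T.picMatrix (τ 0) (τ 4) = 0
      rw [hfix 0 (by decide), hfix 4 (by decide)]
      exact e_0_4
    · show T.picMatrix (τ 0) (τ 5) = 0
      rw [hfix 0 (by decide), hfix 5 (by decide)]
      exact e_0_5
    · show T.picMatrix (τ 1) (τ 0) = 1
      rw [hfix 1 (by decide), hfix 0 (by decide)]
      exact e_1_0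
    · show T.picMatrix (τ 1) (τ 2) = 0
      rw [hfix 1 (by decide), hfix 2 (by decide)]
      exact e_1_2
    · show T.picMatrix (τ 1) (τ 3) = 1
      rw [hfix 1 (by decide), hfix 3 (by decide)]
      exact e_1_3
    · show T.picMatrix (τ 1) (τ 4) = 0
      rw [hfix 1 (by decide), hfix 4 (by decide)]
      exact e_1_4
    · show T.picMatrix (τ 1) (τ 5) = 0
      rw [hfix 1 (by decide), hfix 5 (by decide)]
      exact e_1_5
    · show T.picMatrix (τ 2) (τ 0) = 1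
      rw [hfix 2 (by decide), hfix 0 (by decide)]
      exact e_2_0
    · show T.picMatrix (τ 2) (τ 1) = 0
      rw [hfix 2 (by decide), hfix 1 (by decide)]
      exact e_2_1
    · show T.picMatrix (τ 2) (τ 3) = 0
      rw [hfix 2 (by decide), hfix 3 (by decide)]
      exact e_2_3
    · show T.picMatrix (τ 2) (τ 4) = 0
      rw [hfix 2 (by decide), hfix 4 (by decide)]
      exact e_2_4
    · show T.picMatrix (τ 2) (τ 5) = 0
      rw [hfix 2 (by decide), hfix 5 (by decide)]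
      exact e_2_5
    · show T.picMatrix (τ 3) (τ 0) = 0
      rw [hfix 3 (by decide), hfix 0 (by decide)]
      exact e_3_0
    · show T.picMatrix (τ 3) (τ 1) = 1
      rw [hfix 3 (by decide), hfix 1 (by decide)]
      exact e_3_1
    · show T.picMatrix (τ 3) (τ 2) = 0
      rw [hfix 3 (by decide), hfix 2 (by decide)]
      exact e_3_2
    · show T.picMatrix (τ 3) (τ 4) = 1
      rw [hfix 3 (by decide), hfix 4 (by decide)]
      exact e_3_4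
    · show T.picMatrix (τ 3) (τ 5) = 0
      rw [hfix 3 (by decide), hfix 5 (by decide)]
      exact e_3_5
    · show T.picMatrix (τ 4) (τ 0) = 0
      rw [hfix 4 (by decide), hfix 0 (by decide)]
      exact e_4_0
    · show T.picMatrix (τ 4) (τ 1) = 0
      rw [hfix 4 (by decide), hfix 1 (by decide)]
      exact e_4_1
    · show T.picMatrix (τ 4) (τ 2) = 0
      rw [hfix 4 (by decide), hfix 2 (by decide)]
      exact e_4_2
    · show T.picMatrix (τ 4) (τ 3) = 1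
      rw [hfix 4 (by decide), hfix 3 (by decide)]
      exact e_4_3
    · show T.picMatrix (τ 4) (τ 5) = 2
      rw [hfix 4 (by decide), hfix 5 (by decide)]
      exact e_4_5
    · show T.picMatrix (τ 5) (τ 0) = 0
      rw [hfix 5 (by decide), hfix 0 (by decide)]
      exact e_5_0
    · show T.picMatrix (τ 5) (τ 1) = 0
      rw [hfix 5 (by decide), hfix 1 (by decide)]
      exact e_5_1
    · show T.picMatrix (τ 5) (τ 2) = 0
      rw [hfix 5 (by decide), hfix 2 (by decide)]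
      exact e_5_2
    · show T.picMatrix (τ 5) (τ 3) = 0
      rw [hfix 5 (by decide), hfix 3 (by decide)]
      exact e_5_3
    · show T.picMatrix (τ 5) (τ 4) = 1
      rw [hfix 5 (by decide), hfix 4 (by decide)]
      exact e_5_4

theorem ex_608 (T : Models.NumericalType 7)
    (hG : NTGood T)
    (hmax : ∀ j, T.m j ≤ T.m 0)
    (e_0_1 : T.picMatrix 0 1 = 1)
    (e_0_2 : T.picMatrix 0 2 = 2)
    (e_0_3 : T.picMatrix 0 3 = 0)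
    (e_0_4 : T.picMatrix 0 4 = 0)
    (e_0_5 : T.picMatrix 0 5 = 0)
    (e_1_0 : T.picMatrix 1 0 = 1)
    (e_1_2 : T.picMatrix 1 2 = 0)
    (e_1_3 : T.picMatrix 1 3 = 1)
    (e_1_4 : T.picMatrix 1 4 = 0)
    (e_1_5 : T.picMatrix 1 5 = 0)
    (e_2_0 : T.picMatrix 2 0 = 1)
    (e_2_1 : T.picMatrix 2 1 = 0)
    (e_2_3 : T.picMatrix 2 3 = 0)
    (e_2_4 : T.picMatrix 2 4 = 0)
    (e_2_5 : T.picMatrix 2 5 = 0)
    (e_3_0 : T.picMatrix 3 0 = 0)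
    (e_3_1 : T.picMatrix 3 1 = 1)
    (e_3_2 : T.picMatrix 3 2 = 0)
    (e_3_4 : T.picMatrix 3 4 = 1)
    (e_3_5 : T.picMatrix 3 5 = 0)
    (e_4_0 : T.picMatrix 4 0 = 0)
    (e_4_1 : T.picMatrix 4 1 = 0)
    (e_4_2 : T.picMatrix 4 2 = 0)
    (e_4_3 : T.picMatrix 4 3 = 1)
    (e_4_5 : T.picMatrix 4 5 = 2)
    (e_5_0 : T.picMatrix 5 0 = 0)
    (e_5_1 : T.picMatrix 5 1 = 0)
    (e_5_2 : T.picMatrix 5 2 = 0)
    (e_5_3 : T.picMatrix 5 3 = 0)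
    (e_5_4 : T.picMatrix 5 4 = 1)
    (cl : ∀ a b : Fin 7, a.val < 4 → 7 ≤ b.val → T.picMatrix a b = 0)
    (z : ∀ a : Fin 7, a.val < 4 → T.picMatrix a 6 = 0)
    (hne : T.picMatrix 4 6 ≠ 0) :
    Goal T := by
  have e_0_6 : T.picMatrix 0 6 = 0 := z 0 (by decide)
  have e_6_0 : T.picMatrix 6 0 = 0 := nt_pic_zero_symm T 0 6 e_0_6
  have e_1_6 : T.picMatrix 1 6 = 0 := z 1 (by decide)
  have e_6_1 : T.picMatrix 6 1 = 0 := nt_pic_zero_symm T 1 6 e_1_6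
  have e_2_6 : T.picMatrix 2 6 = 0 := z 2 (by decide)
  have e_6_2 : T.picMatrix 6 2 = 0 := nt_pic_zero_symm T 2 6 e_2_6
  have e_3_6 : T.picMatrix 3 6 = 0 := z 3 (by decide)
  have e_6_3 : T.picMatrix 6 3 = 0 := nt_pic_zero_symm T 3 6 e_3_6
  obtain ⟨hg0, hdA, hdP, hnn, hrow, hsym, hpair⟩ := ntgood_data T (by norm_num) hG
  have hm_0 := T.m_pos 0
  have hw_0 := T.w_pos 0
  have hm_1 := T.m_pos 1
  have hw_1 := T.w_pos 1
  have hm_2 := T.m_pos 2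
  have hw_2 := T.w_pos 2
  have hm_3 := T.m_pos 3
  have hw_3 := T.w_pos 3
  have hm_4 := T.m_pos 4
  have hw_4 := T.w_pos 4
  have hm_5 := T.m_pos 5
  have hw_5 := T.w_pos 5
  have hm_6 := T.m_pos 6
  have hw_6 := T.w_pos 6
  have hx_1 := hmax 1
  have hx_2 := hmax 2
  have hx_3 := hmax 3
  have hx_4 := hmax 4
  have hx_5 := hmax 5
  have hx_6 := hmax 6
  have N_4_6 := mul_nonneg (hnn 4 6 (by decide)) (T.m_pos 6).le
  have N_6_4 := mul_nonneg (hnn 6 4 (by decide)) (T.m_pos 4).le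
  have N_5_6 := mul_nonneg (hnn 5 6 (by decide)) (T.m_pos 6).le
  have N_6_5 := mul_nonneg (hnn 6 5 (by decide)) (T.m_pos 5).le
  have R_0 := hrow 0
  rw [Fin.sum_univ_seven, hdP 0, e_0_1, e_0_2, e_0_3, e_0_4, e_0_5, e_0_6] at R_0
  have R_1 := hrow 1
  rw [Fin.sum_univ_seven, hdP 1, e_1_0, e_1_2, e_1_3, e_1_4, e_1_5, e_1_6] at R_1
  have R_2 := hrow 2
  rw [Fin.sum_univ_seven, hdP 2, e_2_0, e_2_1, e_2_3, e_2_4, e_2_5, e_2_6] at R_2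
  have R_3 := hrow 3
  rw [Fin.sum_univ_seven, hdP 3, e_3_0, e_3_1, e_3_2, e_3_4, e_3_5, e_3_6] at R_3
  have R_4 := hrow 4
  rw [Fin.sum_univ_seven, hdP 4, e_4_0, e_4_1, e_4_2, e_4_3, e_4_5] at R_4
  have R_5 := hrow 5
  rw [Fin.sum_univ_seven, hdP 5, e_5_0, e_5_1, e_5_2, e_5_3, e_5_4] at R_5
  have R_6 := hrow 6
  rw [Fin.sum_univ_seven, hdP 6, e_6_0, e_6_1, e_6_2, e_6_3] at R_6
  have S_0_1 := hsym 0 1
  rw [e_0_1, e_1_0] at S_0_1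
  have S_0_2 := hsym 0 2
  rw [e_0_2, e_2_0] at S_0_2
  have S_0_3 := hsym 0 3
  rw [e_0_3, e_3_0] at S_0_3
  have S_0_4 := hsym 0 4
  rw [e_0_4, e_4_0] at S_0_4
  have S_0_5 := hsym 0 5
  rw [e_0_5, e_5_0] at S_0_5
  have S_0_6 := hsym 0 6
  rw [e_0_6, e_6_0] at S_0_6
  have S_1_2 := hsym 1 2
  rw [e_1_2, e_2_1] at S_1_2
  have S_1_3 := hsym 1 3
  rw [e_1_3, e_3_1] at S_1_3
  have S_1_4 := hsym 1 4
  rw [e_1_4, e_4_1] at S_1_4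
  have S_1_5 := hsym 1 5
  rw [e_1_5, e_5_1] at S_1_5
  have S_1_6 := hsym 1 6
  rw [e_1_6, e_6_1] at S_1_6
  have S_2_3 := hsym 2 3
  rw [e_2_3, e_3_2] at S_2_3
  have S_2_4 := hsym 2 4
  rw [e_2_4, e_4_2] at S_2_4
  have S_2_5 := hsym 2 5
  rw [e_2_5, e_5_2] at S_2_5
  have S_2_6 := hsym 2 6
  rw [e_2_6, e_6_2] at S_2_6
  have S_3_4 := hsym 3 4
  rw [e_3_4, e_4_3] at S_3_4
  have S_3_5 := hsym 3 5
  rw [e_3_5, e_5_3] at S_3_5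
  have S_3_6 := hsym 3 6
  rw [e_3_6, e_6_3] at S_3_6
  have S_4_5 := hsym 4 5
  rw [e_4_5, e_5_4] at S_4_5
  have S_4_6 := hsym 4 6
  have S_5_6 := hsym 5 6
  have Q_4 := hpair 4 6 (by decide)
  have Q_5 := hpair 5 6 (by decide)
  generalize e_4_6 : T.picMatrix 4 6 = x_4 at *
  generalize e_6_4 : T.picMatrix 6 4 = y_4 at *
  generalize e_5_6 : T.picMatrix 5 6 = x_5 at *
  generalize e_6_5 : T.picMatrix 6 5 = y_5 at *
  rcases Q_4 with ⟨rfl, rfl⟩ | ⟨rfl, rfl⟩ | ⟨rfl, rfl⟩ | ⟨rfl, rfl⟩ | ⟨rfl, rfl⟩ | ⟨rfl, rfl⟩ | ⟨rfl, rfl⟩ | ⟨rfl, rfl⟩ | ⟨rfl, rfl⟩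
  · exact absurd rfl hne
  · omega
  · omega
  · omega
  · omega
  · omega
  · omega
  · omega
  · omega

theorem nd_604 (T : Models.NumericalType 7)
    (hG : NTGood T)
    (hmax : ∀ j, T.m j ≤ T.m 0)
    (e_0_1 : T.picMatrix 0 1 = 1)
    (e_0_2 : T.picMatrix 0 2 = 2)
    (e_0_3 : T.picMatrix 0 3 = 0)
    (e_0_4 : T.picMatrix 0 4 = 0)
    (e_0_5 : T.picMatrix 0 5 = 0)
    (e_1_0 : T.picMatrix 1 0 = 1)
    (e_1_2 : T.picMatrix 1 2 = 0)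
    (e_1_3 : T.picMatrix 1 3 = 1)
    (e_1_4 : T.picMatrix 1 4 = 0)
    (e_1_5 : T.picMatrix 1 5 = 0)
    (e_2_0 : T.picMatrix 2 0 = 1)
    (e_2_1 : T.picMatrix 2 1 = 0)
    (e_2_3 : T.picMatrix 2 3 = 0)
    (e_2_4 : T.picMatrix 2 4 = 0)
    (e_2_5 : T.picMatrix 2 5 = 0)
    (e_3_0 : T.picMatrix 3 0 = 0)
    (e_3_1 : T.picMatrix 3 1 = 1)
    (e_3_2 : T.picMatrix 3 2 = 0)
    (e_3_4 : T.picMatrix 3 4 = 1)
    (e_3_5 : T.picMatrix 3 5 = 0)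
    (e_4_0 : T.picMatrix 4 0 = 0)
    (e_4_1 : T.picMatrix 4 1 = 0)
    (e_4_2 : T.picMatrix 4 2 = 0)
    (e_4_3 : T.picMatrix 4 3 = 1)
    (e_4_5 : T.picMatrix 4 5 = 2)
    (e_5_0 : T.picMatrix 5 0 = 0)
    (e_5_1 : T.picMatrix 5 1 = 0)
    (e_5_2 : T.picMatrix 5 2 = 0)
    (e_5_3 : T.picMatrix 5 3 = 0)
    (e_5_4 : T.picMatrix 5 4 = 1)
    (cl : ∀ a b : Fin 7, a.val < 4 → 6 ≤ b.val → T.picMatrix a b = 0) :
    Goal T := by
  by_cases hc : ∀ b : Fin 7, 6 ≤ b.val → T.picMatrix 4 b = 0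
  · exact nd_605 T hG hmax e_0_1 e_0_2 e_0_3 e_0_4 e_0_5 e_1_0 e_1_2 e_1_3 e_1_4 e_1_5 e_2_0 e_2_1 e_2_3 e_2_4 e_2_5 e_3_0 e_3_1 e_3_2 e_3_4 e_3_5 e_4_0 e_4_1 e_4_2 e_4_3 e_4_5 e_5_0 e_5_1 e_5_2 e_5_3 e_5_4 (nt_cl_succ T 6 4 4 rfl cl hc)
  · obtain ⟨τ, hfix, cl', z, hne⟩ := nt_wlog_step T 6 (by norm_num) 4 (by norm_num) 4 (by decide) cl hc
    apply goal_relabel T τ
    refine ex_608 (ntRelabel T τ) (hG.relabel τ) ?_ ?_ ?_ ?_ ?_ ?_ ?_ ?_ ?_ ?_ ?_ ?_ ?_ ?_ ?_ ?_ ?_ ?_ ?_ ?_ ?_ ?_ ?_ ?_ ?_ ?_ ?_ ?_ ?_ ?_ ?_ cl' z hne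
    · intro j
      show T.m (τ j) ≤ T.m (τ 0)
      rw [hfix 0 (by decide)]
      exact hmax _
    · show T.picMatrix (τ 0) (τ 1) = 1
      rw [hfix 0 (by decide), hfix 1 (by decide)]
      exact e_0_1
    · show T.picMatrix (τ 0) (τ 2) = 2
      rw [hfix 0 (by decide), hfix 2 (by decide)]
      exact e_0_2
    · show T.picMatrix (τ 0) (τ 3) = 0
      rw [hfix 0 (by decide), hfix 3 (by decide)]
      exact e_0_3
    · show T.picMatrix (τ 0) (τ 4) = 0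
      rw [hfix 0 (by decide), hfix 4 (by decide)]
      exact e_0_4
    · show T.picMatrix (τ 0) (τ 5) = 0
      rw [hfix 0 (by decide), hfix 5 (by decide)]
      exact e_0_5
    · show T.picMatrix (τ 1) (τ 0) = 1
      rw [hfix 1 (by decide), hfix 0 (by decide)]
      exact e_1_0
    · show T.picMatrix (τ 1) (τ 2) = 0
      rw [hfix 1 (by decide), hfix 2 (by decide)]
      exact e_1_2
    · show T.picMatrix (τ 1) (τ 3) = 1
      rw [hfix 1 (by decide), hfix 3 (by decide)]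
      exact e_1_3
    · show T.picMatrix (τ 1) (τ 4) = 0
      rw [hfix 1 (by decide), hfix 4 (by decide)]
      exact e_1_4
    · show T.picMatrix (τ 1) (τ 5) = 0
      rw [hfix 1 (by decide), hfix 5 (by decide)]
      exact e_1_5
    · show T.picMatrix (τ 2) (τ 0) = 1
      rw [hfix 2 (by decide), hfix 0 (by decide)]
      exact e_2_0
    · show T.picMatrix (τ 2) (τ 1) = 0
      rw [hfix 2 (by decide), hfix 1 (by decide)]
      exact e_2_1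
    · show T.picMatrix (τ 2) (τ 3) = 0
      rw [hfix 2 (by decide), hfix 3 (by decide)]
      exact e_2_3
    · show T.picMatrix (τ 2) (τ 4) = 0
      rw [hfix 2 (by decide), hfix 4 (by decide)]
      exact e_2_4
    · show T.picMatrix (τ 2) (τ 5) = 0
      rw [hfix 2 (by decide), hfix 5 (by decide)]
      exact e_2_5
    · show T.picMatrix (τ 3) (τ 0) = 0
      rw [hfix 3 (by decide), hfix 0 (by decide)]
      exact e_3_0
    · show T.picMatrix (τ 3) (τ 1) = 1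
      rw [hfix 3 (by decide), hfix 1 (by decide)]
      exact e_3_1
    · show T.picMatrix (τ 3) (τ 2) = 0
      rw [hfix 3 (by decide), hfix 2 (by decide)]
      exact e_3_2
    · show T.picMatrix (τ 3) (τ 4) = 1
      rw [hfix 3 (by decide), hfix 4 (by decide)]
      exact e_3_4
    · show T.picMatrix (τ 3) (τ 5) = 0
      rw [hfix 3 (by decide), hfix 5 (by decide)]
      exact e_3_5
    · show T.picMatrix (τ 4) (τ 0) = 0
      rw [hfix 4 (by decide), hfix 0 (by decide)]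
      exact e_4_0
    · show T.picMatrix (τ 4) (τ 1) = 0
      rw [hfix 4 (by decide), hfix 1 (by decide)]
      exact e_4_1
    · show T.picMatrix (τ 4) (τ 2) = 0
      rw [hfix 4 (by decide), hfix 2 (by decide)]
      exact e_4_2
    · show T.picMatrix (τ 4) (τ 3) = 1
      rw [hfix 4 (by decide), hfix 3 (by decide)]
      exact e_4_3
    · show T.picMatrix (τ 4) (τ 5) = 2
      rw [hfix 4 (by decide), hfix 5 (by decide)]
      exact e_4_5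
    · show T.picMatrix (τ 5) (τ 0) = 0
      rw [hfix 5 (by decide), hfix 0 (by decide)]
      exact e_5_0
    · show T.picMatrix (τ 5) (τ 1) = 0
      rw [hfix 5 (by decide), hfix 1 (by decide)]
      exact e_5_1
    · show T.picMatrix (τ 5) (τ 2) = 0
      rw [hfix 5 (by decide), hfix 2 (by decide)]
      exact e_5_2
    · show T.picMatrix (τ 5) (τ 3) = 0
      rw [hfix 5 (by decide), hfix 3 (by decide)]
      exact e_5_3
    · show T.picMatrix (τ 5) (τ 4) = 1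
      rw [hfix 5 (by decide), hfix 4 (by decide)]
      exact e_5_4

theorem ex_590 (T : Models.NumericalType 7)
    (hG : NTGood T)
    (hmax : ∀ j, T.m j ≤ T.m 0)
    (e_0_1 : T.picMatrix 0 1 = 1)
    (e_0_2 : T.picMatrix 0 2 = 2)
    (e_0_3 : T.picMatrix 0 3 = 0)
    (e_0_4 : T.picMatrix 0 4 = 0)
    (e_1_0 : T.picMatrix 1 0 = 1)
    (e_1_2 : T.picMatrix 1 2 = 0)
    (e_1_3 : T.picMatrix 1 3 = 1)
    (e_1_4 : T.picMatrix 1 4 = 0)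
    (e_2_0 : T.picMatrix 2 0 = 1)
    (e_2_1 : T.picMatrix 2 1 = 0)
    (e_2_3 : T.picMatrix 2 3 = 0)
    (e_2_4 : T.picMatrix 2 4 = 0)
    (e_3_0 : T.picMatrix 3 0 = 0)
    (e_3_1 : T.picMatrix 3 1 = 1)
    (e_3_2 : T.picMatrix 3 2 = 0)
    (e_3_4 : T.picMatrix 3 4 = 1)
    (e_4_0 : T.picMatrix 4 0 = 0)
    (e_4_1 : T.picMatrix 4 1 = 0)
    (e_4_2 : T.picMatrix 4 2 = 0)
    (e_4_3 : T.picMatrix 4 3 = 1)
    (cl : ∀ a b : Fin 7, a.val < 4 → 6 ≤ b.val → T.picMatrix a b = 0)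
    (z : ∀ a : Fin 7, a.val < 4 → T.picMatrix a 5 = 0)
    (hne : T.picMatrix 4 5 ≠ 0) :
    Goal T := by
  have e_0_5 : T.picMatrix 0 5 = 0 := z 0 (by decide)
  have e_5_0 : T.picMatrix 5 0 = 0 := nt_pic_zero_symm T 0 5 e_0_5
  have e_1_5 : T.picMatrix 1 5 = 0 := z 1 (by decide)
  have e_5_1 : T.picMatrix 5 1 = 0 := nt_pic_zero_symm T 1 5 e_1_5
  have e_2_5 : T.picMatrix 2 5 = 0 := z 2 (by decide)
  have e_5_2 : T.picMatrix 5 2 = 0 := nt_pic_zero_symm T 2 5 e_2_5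
  have e_3_5 : T.picMatrix 3 5 = 0 := z 3 (by decide)
  have e_5_3 : T.picMatrix 5 3 = 0 := nt_pic_zero_symm T 3 5 e_3_5
  obtain ⟨hg0, hdA, hdP, hnn, hrow, hsym, hpair⟩ := ntgood_data T (by norm_num) hG
  have hm_0 := T.m_pos 0
  have hw_0 := T.w_pos 0
  have hm_1 := T.m_pos 1
  have hw_1 := T.w_pos 1
  have hm_2 := T.m_pos 2
  have hw_2 := T.w_pos 2
  have hm_3 := T.m_pos 3
  have hw_3 := T.w_pos 3
  have hm_4 := T.m_pos 4
  have hw_4 := T.w_pos 4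
  have hm_5 := T.m_pos 5
  have hw_5 := T.w_pos 5
  have hx_1 := hmax 1
  have hx_2 := hmax 2
  have hx_3 := hmax 3
  have hx_4 := hmax 4
  have hx_5 := hmax 5
  have Z_0_6 := cl 0 6 (by decide) (by decide)
  have Z_1_6 := cl 1 6 (by decide) (by decide)
  have Z_2_6 := cl 2 6 (by decide) (by decide)
  have Z_3_6 := cl 3 6 (by decide) (by decide)
  have N_4_6 := mul_nonneg (hnn 4 6 (by decide)) (T.m_pos 6).le
  have N_5_6 := mul_nonneg (hnn 5 6 (by decide)) (T.m_pos 6).le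
  have N_4_5 := mul_nonneg (hnn 4 5 (by decide)) (T.m_pos 5).le
  have N_5_4 := mul_nonneg (hnn 5 4 (by decide)) (T.m_pos 4).le
  have R_0 := hrow 0
  rw [Fin.sum_univ_seven, hdP 0, e_0_1, e_0_2, e_0_3, e_0_4, e_0_5, Z_0_6] at R_0
  have R_1 := hrow 1
  rw [Fin.sum_univ_seven, hdP 1, e_1_0, e_1_2, e_1_3, e_1_4, e_1_5, Z_1_6] at R_1
  have R_2 := hrow 2
  rw [Fin.sum_univ_seven, hdP 2, e_2_0, e_2_1, e_2_3, e_2_4, e_2_5, Z_2_6] at R_2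
  have R_3 := hrow 3
  rw [Fin.sum_univ_seven, hdP 3, e_3_0, e_3_1, e_3_2, e_3_4, e_3_5, Z_3_6] at R_3
  have R_4 := hrow 4
  rw [Fin.sum_univ_seven, hdP 4, e_4_0, e_4_1, e_4_2, e_4_3] at R_4
  have R_5 := hrow 5
  rw [Fin.sum_univ_seven, hdP 5, e_5_0, e_5_1, e_5_2, e_5_3] at R_5
  have S_0_1 := hsym 0 1
  rw [e_0_1, e_1_0] at S_0_1
  have S_0_2 := hsym 0 2
  rw [e_0_2, e_2_0] at S_0_2
  have S_0_3 := hsym 0 3
  rw [e_0_3, e_3_0] at S_0_3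
  have S_0_4 := hsym 0 4
  rw [e_0_4, e_4_0] at S_0_4
  have S_0_5 := hsym 0 5
  rw [e_0_5, e_5_0] at S_0_5
  have S_1_2 := hsym 1 2
  rw [e_1_2, e_2_1] at S_1_2
  have S_1_3 := hsym 1 3
  rw [e_1_3, e_3_1] at S_1_3
  have S_1_4 := hsym 1 4
  rw [e_1_4, e_4_1] at S_1_4
  have S_1_5 := hsym 1 5
  rw [e_1_5, e_5_1] at S_1_5
  have S_2_3 := hsym 2 3
  rw [e_2_3, e_3_2] at S_2_3
  have S_2_4 := hsym 2 4
  rw [e_2_4, e_4_2] at S_2_4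
  have S_2_5 := hsym 2 5
  rw [e_2_5, e_5_2] at S_2_5
  have S_3_4 := hsym 3 4
  rw [e_3_4, e_4_3] at S_3_4
  have S_3_5 := hsym 3 5
  rw [e_3_5, e_5_3] at S_3_5
  have S_4_5 := hsym 4 5
  have Q_4 := hpair 4 5 (by decide)
  generalize e_4_5 : T.picMatrix 4 5 = x_4 at *
  generalize e_5_4 : T.picMatrix 5 4 = y_4 at *
  rcases Q_4 with ⟨rfl, rfl⟩ | ⟨rfl, rfl⟩ | ⟨rfl, rfl⟩ | ⟨rfl, rfl⟩ | ⟨rfl, rfl⟩ | ⟨rfl, rfl⟩ | ⟨rfl, rfl⟩ | ⟨rfl, rfl⟩ | ⟨rfl, rfl⟩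
  · exact absurd rfl hne
  · -- (4,5) = (1,1)
    exact nd_591 T hG hmax e_0_1 e_0_2 e_0_3 e_0_4 e_0_5 e_1_0 e_1_2 e_1_3 e_1_4 e_1_5 e_2_0 e_2_1 e_2_3 e_2_4 e_2_5 e_3_0 e_3_1 e_3_2 e_3_4 e_3_5 e_4_0 e_4_1 e_4_2 e_4_3 e_4_5 e_5_0 e_5_1 e_5_2 e_5_3 e_5_4 cl
  · -- (4,5) = (1,2)
    exact nd_599 T hG hmax e_0_1 e_0_2 e_0_3 e_0_4 e_0_5 e_1_0 e_1_2 e_1_3 e_1_4 e_1_5 e_2_0 e_2_1 e_2_3 e_2_4 e_2_5 e_3_0 e_3_1 e_3_2 e_3_4 e_3_5 e_4_0 e_4_1 e_4_2 e_4_3 e_4_5 e_5_0 e_5_1 e_5_2 e_5_3 e_5_4 cl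
  · -- (4,5) = (2,1)
    exact nd_604 T hG hmax e_0_1 e_0_2 e_0_3 e_0_4 e_0_5 e_1_0 e_1_2 e_1_3 e_1_4 e_1_5 e_2_0 e_2_1 e_2_3 e_2_4 e_2_5 e_3_0 e_3_1 e_3_2 e_3_4 e_3_5 e_4_0 e_4_1 e_4_2 e_4_3 e_4_5 e_5_0 e_5_1 e_5_2 e_5_3 e_5_4 cl
  · -- (4,5) = (1,3)
    omega
  · -- (4,5) = (3,1)
    omega
  · -- (4,5) = (1,4)
    omega
  · -- (4,5) = (4,1)
    omega
  · -- (4,5) = (2,2)
    omega

theorem nd_588 (T : Models.NumericalType 7)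
    (hG : NTGood T)
    (hmax : ∀ j, T.m j ≤ T.m 0)
    (e_0_1 : T.picMatrix 0 1 = 1)
    (e_0_2 : T.picMatrix 0 2 = 2)
    (e_0_3 : T.picMatrix 0 3 = 0)
    (e_0_4 : T.picMatrix 0 4 = 0)
    (e_1_0 : T.picMatrix 1 0 = 1)
    (e_1_2 : T.picMatrix 1 2 = 0)
    (e_1_3 : T.picMatrix 1 3 = 1)
    (e_1_4 : T.picMatrix 1 4 = 0)
    (e_2_0 : T.picMatrix 2 0 = 1)
    (e_2_1 : T.picMatrix 2 1 = 0)
    (e_2_3 : T.picMatrix 2 3 = 0)
    (e_2_4 : T.picMatrix 2 4 = 0)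
    (e_3_0 : T.picMatrix 3 0 = 0)
    (e_3_1 : T.picMatrix 3 1 = 1)
    (e_3_2 : T.picMatrix 3 2 = 0)
    (e_3_4 : T.picMatrix 3 4 = 1)
    (e_4_0 : T.picMatrix 4 0 = 0)
    (e_4_1 : T.picMatrix 4 1 = 0)
    (e_4_2 : T.picMatrix 4 2 = 0)
    (e_4_3 : T.picMatrix 4 3 = 1)
    (cl : ∀ a b : Fin 7, a.val < 4 → 5 ≤ b.val → T.picMatrix a b = 0) :
    Goal T := by
  by_cases hc : ∀ b : Fin 7, 5 ≤ b.val → T.picMatrix 4 b = 0
  · exact nd_589 T hG hmax e_0_1 e_0_2 e_0_3 e_0_4 e_1_0 e_1_2 e_1_3 e_1_4 e_2_0 e_2_1 e_2_3 e_2_4 e_3_0 e_3_1 e_3_2 e_3_4 e_4_0 e_4_1 e_4_2 e_4_3 (nt_cl_succ T 5 4 4 rfl cl hc)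
  · obtain ⟨τ, hfix, cl', z, hne⟩ := nt_wlog_step T 5 (by norm_num) 4 (by norm_num) 4 (by decide) cl hc
    apply goal_relabel T τ
    refine ex_590 (ntRelabel T τ) (hG.relabel τ) ?_ ?_ ?_ ?_ ?_ ?_ ?_ ?_ ?_ ?_ ?_ ?_ ?_ ?_ ?_ ?_ ?_ ?_ ?_ ?_ ?_ cl' z hne
    · intro j
      show T.m (τ j) ≤ T.m (τ 0)
      rw [hfix 0 (by decide)]
      exact hmax _
    · show T.picMatrix (τ 0) (τ 1) = 1
      rw [hfix 0 (by decide), hfix 1 (by decide)]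
      exact e_0_1
    · show T.picMatrix (τ 0) (τ 2) = 2
      rw [hfix 0 (by decide), hfix 2 (by decide)]
      exact e_0_2
    · show T.picMatrix (τ 0) (τ 3) = 0
      rw [hfix 0 (by decide), hfix 3 (by decide)]
      exact e_0_3
    · show T.picMatrix (τ 0) (τ 4) = 0
      rw [hfix 0 (by decide), hfix 4 (by decide)]
      exact e_0_4
    · show T.picMatrix (τ 1) (τ 0) = 1
      rw [hfix 1 (by decide), hfix 0 (by decide)]
      exact e_1_0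
    · show T.picMatrix (τ 1) (τ 2) = 0
      rw [hfix 1 (by decide), hfix 2 (by decide)]
      exact e_1_2
    · show T.picMatrix (τ 1) (τ 3) = 1
      rw [hfix 1 (by decide), hfix 3 (by decide)]
      exact e_1_3
    · show T.picMatrix (τ 1) (τ 4) = 0
      rw [hfix 1 (by decide), hfix 4 (by decide)]
      exact e_1_4
    · show T.picMatrix (τ 2) (τ 0) = 1
      rw [hfix 2 (by decide), hfix 0 (by decide)]
      exact e_2_0
    · show T.picMatrix (τ 2) (τ 1) = 0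
      rw [hfix 2 (by decide), hfix 1 (by decide)]
      exact e_2_1
    · show T.picMatrix (τ 2) (τ 3) = 0
      rw [hfix 2 (by decide), hfix 3 (by decide)]
      exact e_2_3
    · show T.picMatrix (τ 2) (τ 4) = 0
      rw [hfix 2 (by decide), hfix 4 (by decide)]
      exact e_2_4
    · show T.picMatrix (τ 3) (τ 0) = 0
      rw [hfix 3 (by decide), hfix 0 (by decide)]
      exact e_3_0
    · show T.picMatrix (τ 3) (τ 1) = 1
      rw [hfix 3 (by decide), hfix 1 (by decide)]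
      exact e_3_1
    · show T.picMatrix (τ 3) (τ 2) = 0
      rw [hfix 3 (by decide), hfix 2 (by decide)]
      exact e_3_2
    · show T.picMatrix (τ 3) (τ 4) = 1
      rw [hfix 3 (by decide), hfix 4 (by decide)]
      exact e_3_4
    · show T.picMatrix (τ 4) (τ 0) = 0
      rw [hfix 4 (by decide), hfix 0 (by decide)]
      exact e_4_0
    · show T.picMatrix (τ 4) (τ 1) = 0
      rw [hfix 4 (by decide), hfix 1 (by decide)]
      exact e_4_1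
    · show T.picMatrix (τ 4) (τ 2) = 0
      rw [hfix 4 (by decide), hfix 2 (by decide)]
      exact e_4_2
    · show T.picMatrix (τ 4) (τ 3) = 1
      rw [hfix 4 (by decide), hfix 3 (by decide)]
      exact e_4_3

theorem nd_613 (T : Models.NumericalType 7)
    (hG : NTGood T)
    (hmax : ∀ j, T.m j ≤ T.m 0)
    (e_0_1 : T.picMatrix 0 1 = 1)
    (e_0_2 : T.picMatrix 0 2 = 2)
    (e_0_3 : T.picMatrix 0 3 = 0)
    (e_0_4 : T.picMatrix 0 4 = 0)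
    (e_0_5 : T.picMatrix 0 5 = 0)
    (e_1_0 : T.picMatrix 1 0 = 1)
    (e_1_2 : T.picMatrix 1 2 = 0)
    (e_1_3 : T.picMatrix 1 3 = 1)
    (e_1_4 : T.picMatrix 1 4 = 0)
    (e_1_5 : T.picMatrix 1 5 = 0)
    (e_2_0 : T.picMatrix 2 0 = 1)
    (e_2_1 : T.picMatrix 2 1 = 0)
    (e_2_3 : T.picMatrix 2 3 = 0)
    (e_2_4 : T.picMatrix 2 4 = 0)
    (e_2_5 : T.picMatrix 2 5 = 0)
    (e_3_0 : T.picMatrix 3 0 = 0)
    (e_3_1 : T.picMatrix 3 1 = 1)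
    (e_3_2 : T.picMatrix 3 2 = 0)
    (e_3_4 : T.picMatrix 3 4 = 1)
    (e_3_5 : T.picMatrix 3 5 = 1)
    (e_4_0 : T.picMatrix 4 0 = 0)
    (e_4_1 : T.picMatrix 4 1 = 0)
    (e_4_2 : T.picMatrix 4 2 = 0)
    (e_4_3 : T.picMatrix 4 3 = 1)
    (e_4_5 : T.picMatrix 4 5 = 0)
    (e_5_0 : T.picMatrix 5 0 = 0)
    (e_5_1 : T.picMatrix 5 1 = 0)
    (e_5_2 : T.picMatrix 5 2 = 0)
    (e_5_3 : T.picMatrix 5 3 = 1)
    (e_5_4 : T.picMatrix 5 4 = 0)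
    (cl : ∀ a b : Fin 7, a.val < 6 → 6 ≤ b.val → T.picMatrix a b = 0) :
    Goal T := by
  exact (nt_closed_false T 6 (by norm_num) (by norm_num) cl).elim

theorem ex_614 (T : Models.NumericalType 7)
    (hG : NTGood T)
    (hmax : ∀ j, T.m j ≤ T.m 0)
    (e_0_1 : T.picMatrix 0 1 = 1)
    (e_0_2 : T.picMatrix 0 2 = 2)
    (e_0_3 : T.picMatrix 0 3 = 0)
    (e_0_4 : T.picMatrix 0 4 = 0)
    (e_0_5 : T.picMatrix 0 5 = 0)
    (e_1_0 : T.picMatrix 1 0 = 1)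
    (e_1_2 : T.picMatrix 1 2 = 0)
    (e_1_3 : T.picMatrix 1 3 = 1)
    (e_1_4 : T.picMatrix 1 4 = 0)
    (e_1_5 : T.picMatrix 1 5 = 0)
    (e_2_0 : T.picMatrix 2 0 = 1)
    (e_2_1 : T.picMatrix 2 1 = 0)
    (e_2_3 : T.picMatrix 2 3 = 0)
    (e_2_4 : T.picMatrix 2 4 = 0)
    (e_2_5 : T.picMatrix 2 5 = 0)
    (e_3_0 : T.picMatrix 3 0 = 0)
    (e_3_1 : T.picMatrix 3 1 = 1)
    (e_3_2 : T.picMatrix 3 2 = 0)
    (e_3_4 : T.picMatrix 3 4 = 1)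
    (e_3_5 : T.picMatrix 3 5 = 1)
    (e_4_0 : T.picMatrix 4 0 = 0)
    (e_4_1 : T.picMatrix 4 1 = 0)
    (e_4_2 : T.picMatrix 4 2 = 0)
    (e_4_3 : T.picMatrix 4 3 = 1)
    (e_4_5 : T.picMatrix 4 5 = 0)
    (e_5_0 : T.picMatrix 5 0 = 0)
    (e_5_1 : T.picMatrix 5 1 = 0)
    (e_5_2 : T.picMatrix 5 2 = 0)
    (e_5_3 : T.picMatrix 5 3 = 1)
    (e_5_4 : T.picMatrix 5 4 = 0)
    (cl : ∀ a b : Fin 7, a.val < 5 → 7 ≤ b.val → T.picMatrix a b = 0)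
    (z : ∀ a : Fin 7, a.val < 5 → T.picMatrix a 6 = 0)
    (hne : T.picMatrix 5 6 ≠ 0) :
    Goal T := by
  have e_0_6 : T.picMatrix 0 6 = 0 := z 0 (by decide)
  have e_6_0 : T.picMatrix 6 0 = 0 := nt_pic_zero_symm T 0 6 e_0_6
  have e_1_6 : T.picMatrix 1 6 = 0 := z 1 (by decide)
  have e_6_1 : T.picMatrix 6 1 = 0 := nt_pic_zero_symm T 1 6 e_1_6
  have e_2_6 : T.picMatrix 2 6 = 0 := z 2 (by decide)
  have e_6_2 : T.picMatrix 6 2 = 0 := nt_pic_zero_symm T 2 6 e_2_6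
  have e_3_6 : T.picMatrix 3 6 = 0 := z 3 (by decide)
  have e_6_3 : T.picMatrix 6 3 = 0 := nt_pic_zero_symm T 3 6 e_3_6
  have e_4_6 : T.picMatrix 4 6 = 0 := z 4 (by decide)
  have e_6_4 : T.picMatrix 6 4 = 0 := nt_pic_zero_symm T 4 6 e_4_6
  obtain ⟨hg0, hdA, hdP, hnn, hrow, hsym, hpair⟩ := ntgood_data T (by norm_num) hG
  have hm_0 := T.m_pos 0
  have hw_0 := T.w_pos 0
  have hm_1 := T.m_pos 1
  have hw_1 := T.w_pos 1
  have hm_2 := T.m_pos 2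
  have hw_2 := T.w_pos 2
  have hm_3 := T.m_pos 3
  have hw_3 := T.w_pos 3
  have hm_4 := T.m_pos 4
  have hw_4 := T.w_pos 4
  have hm_5 := T.m_pos 5
  have hw_5 := T.w_pos 5
  have hm_6 := T.m_pos 6
  have hw_6 := T.w_pos 6
  have hx_1 := hmax 1
  have hx_2 := hmax 2
  have hx_3 := hmax 3
  have hx_4 := hmax 4
  have hx_5 := hmax 5
  have hx_6 := hmax 6
  have N_5_6 := mul_nonneg (hnn 5 6 (by decide)) (T.m_pos 6).le
  have N_6_5 := mul_nonneg (hnn 6 5 (by decide)) (T.m_pos 5).le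
  have R_0 := hrow 0
  rw [Fin.sum_univ_seven, hdP 0, e_0_1, e_0_2, e_0_3, e_0_4, e_0_5, e_0_6] at R_0
  have R_1 := hrow 1
  rw [Fin.sum_univ_seven, hdP 1, e_1_0, e_1_2, e_1_3, e_1_4, e_1_5, e_1_6] at R_1
  have R_2 := hrow 2
  rw [Fin.sum_univ_seven, hdP 2, e_2_0, e_2_1, e_2_3, e_2_4, e_2_5, e_2_6] at R_2
  have R_3 := hrow 3
  rw [Fin.sum_univ_seven, hdP 3, e_3_0, e_3_1, e_3_2, e_3_4, e_3_5, e_3_6] at R_3
  have R_4 := hrow 4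
  rw [Fin.sum_univ_seven, hdP 4, e_4_0, e_4_1, e_4_2, e_4_3, e_4_5, e_4_6] at R_4
  have R_5 := hrow 5
  rw [Fin.sum_univ_seven, hdP 5, e_5_0, e_5_1, e_5_2, e_5_3, e_5_4] at R_5
  have R_6 := hrow 6
  rw [Fin.sum_univ_seven, hdP 6, e_6_0, e_6_1, e_6_2, e_6_3, e_6_4] at R_6
  have S_0_1 := hsym 0 1
  rw [e_0_1, e_1_0] at S_0_1
  have S_0_2 := hsym 0 2
  rw [e_0_2, e_2_0] at S_0_2
  have S_0_3 := hsym 0 3
  rw [e_0_3, e_3_0] at S_0_3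
  have S_0_4 := hsym 0 4
  rw [e_0_4, e_4_0] at S_0_4
  have S_0_5 := hsym 0 5
  rw [e_0_5, e_5_0] at S_0_5
  have S_0_6 := hsym 0 6
  rw [e_0_6, e_6_0] at S_0_6
  have S_1_2 := hsym 1 2
  rw [e_1_2, e_2_1] at S_1_2
  have S_1_3 := hsym 1 3
  rw [e_1_3, e_3_1] at S_1_3
  have S_1_4 := hsym 1 4
  rw [e_1_4, e_4_1] at S_1_4
  have S_1_5 := hsym 1 5
  rw [e_1_5, e_5_1] at S_1_5
  have S_1_6 := hsym 1 6
  rw [e_1_6, e_6_1] at S_1_6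
  have S_2_3 := hsym 2 3
  rw [e_2_3, e_3_2] at S_2_3
  have S_2_4 := hsym 2 4
  rw [e_2_4, e_4_2] at S_2_4
  have S_2_5 := hsym 2 5
  rw [e_2_5, e_5_2] at S_2_5
  have S_2_6 := hsym 2 6
  rw [e_2_6, e_6_2] at S_2_6
  have S_3_4 := hsym 3 4
  rw [e_3_4, e_4_3] at S_3_4
  have S_3_5 := hsym 3 5
  rw [e_3_5, e_5_3] at S_3_5
  have S_3_6 := hsym 3 6
  rw [e_3_6, e_6_3] at S_3_6
  have S_4_5 := hsym 4 5
  rw [e_4_5, e_5_4] at S_4_5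
  have S_4_6 := hsym 4 6
  rw [e_4_6, e_6_4] at S_4_6
  have S_5_6 := hsym 5 6
  have Q_5 := hpair 5 6 (by decide)
  generalize e_5_6 : T.picMatrix 5 6 = x_5 at *
  generalize e_6_5 : T.picMatrix 6 5 = y_5 at *
  rcases Q_5 with ⟨rfl, rfl⟩ | ⟨rfl, rfl⟩ | ⟨rfl, rfl⟩ | ⟨rfl, rfl⟩ | ⟨rfl, rfl⟩ | ⟨rfl, rfl⟩ | ⟨rfl, rfl⟩ | ⟨rfl, rfl⟩ | ⟨rfl, rfl⟩
  · exact absurd rfl hne
  · -- (5,6) = (1,1)
    omega
  · -- (5,6) = (1,2)
    omega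
  · -- (5,6) = (2,1)
    omega
  · -- (5,6) = (1,3)
    omega
  · -- (5,6) = (3,1)
    omega
  · -- (5,6) = (1,4)
    omega
  · -- (5,6) = (4,1)
    omega
  · -- (5,6) = (2,2)
    omega

theorem nd_612 (T : Models.NumericalType 7)
    (hG : NTGood T)
    (hmax : ∀ j, T.m j ≤ T.m 0)
    (e_0_1 : T.picMatrix 0 1 = 1)
    (e_0_2 : T.picMatrix 0 2 = 2)
    (e_0_3 : T.picMatrix 0 3 = 0)
    (e_0_4 : T.picMatrix 0 4 = 0)
    (e_0_5 : T.picMatrix 0 5 = 0)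
    (e_1_0 : T.picMatrix 1 0 = 1)
    (e_1_2 : T.picMatrix 1 2 = 0)
    (e_1_3 : T.picMatrix 1 3 = 1)
    (e_1_4 : T.picMatrix 1 4 = 0)
    (e_1_5 : T.picMatrix 1 5 = 0)
    (e_2_0 : T.picMatrix 2 0 = 1)
    (e_2_1 : T.picMatrix 2 1 = 0)
    (e_2_3 : T.picMatrix 2 3 = 0)
    (e_2_4 : T.picMatrix 2 4 = 0)
    (e_2_5 : T.picMatrix 2 5 = 0)
    (e_3_0 : T.picMatrix 3 0 = 0)
    (e_3_1 : T.picMatrix 3 1 = 1)
    (e_3_2 : T.picMatrix 3 2 = 0)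
    (e_3_4 : T.picMatrix 3 4 = 1)
    (e_3_5 : T.picMatrix 3 5 = 1)
    (e_4_0 : T.picMatrix 4 0 = 0)
    (e_4_1 : T.picMatrix 4 1 = 0)
    (e_4_2 : T.picMatrix 4 2 = 0)
    (e_4_3 : T.picMatrix 4 3 = 1)
    (e_4_5 : T.picMatrix 4 5 = 0)
    (e_5_0 : T.picMatrix 5 0 = 0)
    (e_5_1 : T.picMatrix 5 1 = 0)
    (e_5_2 : T.picMatrix 5 2 = 0)
    (e_5_3 : T.picMatrix 5 3 = 1)
    (e_5_4 : T.picMatrix 5 4 = 0)
    (cl : ∀ a b : Fin 7, a.val < 5 → 6 ≤ b.val → T.picMatrix a b = 0) :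
    Goal T := by
  by_cases hc : ∀ b : Fin 7, 6 ≤ b.val → T.picMatrix 5 b = 0
  · exact nd_613 T hG hmax e_0_1 e_0_2 e_0_3 e_0_4 e_0_5 e_1_0 e_1_2 e_1_3 e_1_4 e_1_5 e_2_0 e_2_1 e_2_3 e_2_4 e_2_5 e_3_0 e_3_1 e_3_2 e_3_4 e_3_5 e_4_0 e_4_1 e_4_2 e_4_3 e_4_5 e_5_0 e_5_1 e_5_2 e_5_3 e_5_4 (nt_cl_succ T 6 5 5 rfl cl hc)
  · obtain ⟨τ, hfix, cl', z, hne⟩ := nt_wlog_step T 6 (by norm_num) 5 (by norm_num) 5 (by decide) cl hc
    apply goal_relabel T τ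
    refine ex_614 (ntRelabel T τ) (hG.relabel τ) ?_ ?_ ?_ ?_ ?_ ?_ ?_ ?_ ?_ ?_ ?_ ?_ ?_ ?_ ?_ ?_ ?_ ?_ ?_ ?_ ?_ ?_ ?_ ?_ ?_ ?_ ?_ ?_ ?_ ?_ ?_ cl' z hne
    · intro j
      show T.m (τ j) ≤ T.m (τ 0)
      rw [hfix 0 (by decide)]
      exact hmax _
    · show T.picMatrix (τ 0) (τ 1) = 1
      rw [hfix 0 (by decide), hfix 1 (by decide)]
      exact e_0_1
    · show T.picMatrix (τ 0) (τ 2) = 2
      rw [hfix 0 (by decide), hfix 2 (by decide)]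
      exact e_0_2
    · show T.picMatrix (τ 0) (τ 3) = 0
      rw [hfix 0 (by decide), hfix 3 (by decide)]
      exact e_0_3
    · show T.picMatrix (τ 0) (τ 4) = 0
      rw [hfix 0 (by decide), hfix 4 (by decide)]
      exact e_0_4
    · show T.picMatrix (τ 0) (τ 5) = 0
      rw [hfix 0 (by decide), hfix 5 (by decide)]
      exact e_0_5
    · show T.picMatrix (τ 1) (τ 0) = 1
      rw [hfix 1 (by decide), hfix 0 (by decide)]
      exact e_1_0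
    · show T.picMatrix (τ 1) (τ 2) = 0
      rw [hfix 1 (by decide), hfix 2 (by decide)]
      exact e_1_2
    · show T.picMatrix (τ 1) (τ 3) = 1
      rw [hfix 1 (by decide), hfix 3 (by decide)]
      exact e_1_3
    · show T.picMatrix (τ 1) (τ 4) = 0
      rw [hfix 1 (by decide), hfix 4 (by decide)]
      exact e_1_4
    · show T.picMatrix (τ 1) (τ 5) = 0
      rw [hfix 1 (by decide), hfix 5 (by decide)]
      exact e_1_5
    · show T.picMatrix (τ 2) (τ 0) = 1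
      rw [hfix 2 (by decide), hfix 0 (by decide)]
      exact e_2_0
    · show T.picMatrix (τ 2) (τ 1) = 0
      rw [hfix 2 (by decide), hfix 1 (by decide)]
      exact e_2_1
    · show T.picMatrix (τ 2) (τ 3) = 0
      rw [hfix 2 (by decide), hfix 3 (by decide)]
      exact e_2_3
    · show T.picMatrix (τ 2) (τ 4) = 0
      rw [hfix 2 (by decide), hfix 4 (by decide)]
      exact e_2_4
    · show T.picMatrix (τ 2) (τ 5) = 0
      rw [hfix 2 (by decide), hfix 5 (by decide)]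
      exact e_2_5
    · show T.picMatrix (τ 3) (τ 0) = 0
      rw [hfix 3 (by decide), hfix 0 (by decide)]
      exact e_3_0
    · show T.picMatrix (τ 3) (τ 1) = 1
      rw [hfix 3 (by decide), hfix 1 (by decide)]
      exact e_3_1
    · show T.picMatrix (τ 3) (τ 2) = 0
      rw [hfix 3 (by decide), hfix 2 (by decide)]
      exact e_3_2
    · show T.picMatrix (τ 3) (τ 4) = 1
      rw [hfix 3 (by decide), hfix 4 (by decide)]
      exact e_3_4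
    · show T.picMatrix (τ 3) (τ 5) = 1
      rw [hfix 3 (by decide), hfix 5 (by decide)]
      exact e_3_5
    · show T.picMatrix (τ 4) (τ 0) = 0
      rw [hfix 4 (by decide), hfix 0 (by decide)]
      exact e_4_0
    · show T.picMatrix (τ 4) (τ 1) = 0
      rw [hfix 4 (by decide), hfix 1 (by decide)]
      exact e_4_1
    · show T.picMatrix (τ 4) (τ 2) = 0
      rw [hfix 4 (by decide), hfix 2 (by decide)]
      exact e_4_2
    · show T.picMatrix (τ 4) (τ 3) = 1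
      rw [hfix 4 (by decide), hfix 3 (by decide)]
      exact e_4_3
    · show T.picMatrix (τ 4) (τ 5) = 0
      rw [hfix 4 (by decide), hfix 5 (by decide)]
      exact e_4_5
    · show T.picMatrix (τ 5) (τ 0) = 0
      rw [hfix 5 (by decide), hfix 0 (by decide)]
      exact e_5_0
    · show T.picMatrix (τ 5) (τ 1) = 0
      rw [hfix 5 (by decide), hfix 1 (by decide)]
      exact e_5_1
    · show T.picMatrix (τ 5) (τ 2) = 0
      rw [hfix 5 (by decide), hfix 2 (by decide)]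
      exact e_5_2
    · show T.picMatrix (τ 5) (τ 3) = 1
      rw [hfix 5 (by decide), hfix 3 (by decide)]
      exact e_5_3
    · show T.picMatrix (τ 5) (τ 4) = 0
      rw [hfix 5 (by decide), hfix 4 (by decide)]
      exact e_5_4

theorem ex_615 (T : Models.NumericalType 7)
    (hG : NTGood T)
    (hmax : ∀ j, T.m j ≤ T.m 0)
    (e_0_1 : T.picMatrix 0 1 = 1)
    (e_0_2 : T.picMatrix 0 2 = 2)
    (e_0_3 : T.picMatrix 0 3 = 0)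
    (e_0_4 : T.picMatrix 0 4 = 0)
    (e_0_5 : T.picMatrix 0 5 = 0)
    (e_1_0 : T.picMatrix 1 0 = 1)
    (e_1_2 : T.picMatrix 1 2 = 0)
    (e_1_3 : T.picMatrix 1 3 = 1)
    (e_1_4 : T.picMatrix 1 4 = 0)
    (e_1_5 : T.picMatrix 1 5 = 0)
    (e_2_0 : T.picMatrix 2 0 = 1)
    (e_2_1 : T.picMatrix 2 1 = 0)
    (e_2_3 : T.picMatrix 2 3 = 0)
    (e_2_4 : T.picMatrix 2 4 = 0)
    (e_2_5 : T.picMatrix 2 5 = 0)
    (e_3_0 : T.picMatrix 3 0 = 0)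
    (e_3_1 : T.picMatrix 3 1 = 1)
    (e_3_2 : T.picMatrix 3 2 = 0)
    (e_3_4 : T.picMatrix 3 4 = 1)
    (e_3_5 : T.picMatrix 3 5 = 1)
    (e_4_0 : T.picMatrix 4 0 = 0)
    (e_4_1 : T.picMatrix 4 1 = 0)
    (e_4_2 : T.picMatrix 4 2 = 0)
    (e_4_3 : T.picMatrix 4 3 = 1)
    (e_4_5 : T.picMatrix 4 5 = 0)
    (e_5_0 : T.picMatrix 5 0 = 0)
    (e_5_1 : T.picMatrix 5 1 = 0)
    (e_5_2 : T.picMatrix 5 2 = 0)
    (e_5_3 : T.picMatrix 5 3 = 1)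
    (e_5_4 : T.picMatrix 5 4 = 0)
    (cl : ∀ a b : Fin 7, a.val < 4 → 7 ≤ b.val → T.picMatrix a b = 0)
    (z : ∀ a : Fin 7, a.val < 4 → T.picMatrix a 6 = 0)
    (hne : T.picMatrix 4 6 ≠ 0) :
    Goal T := by
  have e_0_6 : T.picMatrix 0 6 = 0 := z 0 (by decide)
  have e_6_0 : T.picMatrix 6 0 = 0 := nt_pic_zero_symm T 0 6 e_0_6
  have e_1_6 : T.picMatrix 1 6 = 0 := z 1 (by decide)
  have e_6_1 : T.picMatrix 6 1 = 0 := nt_pic_zero_symm T 1 6 e_1_6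
  have e_2_6 : T.picMatrix 2 6 = 0 := z 2 (by decide)
  have e_6_2 : T.picMatrix 6 2 = 0 := nt_pic_zero_symm T 2 6 e_2_6
  have e_3_6 : T.picMatrix 3 6 = 0 := z 3 (by decide)
  have e_6_3 : T.picMatrix 6 3 = 0 := nt_pic_zero_symm T 3 6 e_3_6
  obtain ⟨hg0, hdA, hdP, hnn, hrow, hsym, hpair⟩ := ntgood_data T (by norm_num) hG
  have hm_0 := T.m_pos 0
  have hw_0 := T.w_pos 0
  have hm_1 := T.m_pos 1
  have hw_1 := T.w_pos 1
  have hm_2 := T.m_pos 2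
  have hw_2 := T.w_pos 2
  have hm_3 := T.m_pos 3
  have hw_3 := T.w_pos 3
  have hm_4 := T.m_pos 4
  have hw_4 := T.w_pos 4
  have hm_5 := T.m_pos 5
  have hw_5 := T.w_pos 5
  have hm_6 := T.m_pos 6
  have hw_6 := T.w_pos 6
  have hx_1 := hmax 1
  have hx_2 := hmax 2
  have hx_3 := hmax 3
  have hx_4 := hmax 4
  have hx_5 := hmax 5
  have hx_6 := hmax 6
  have N_4_6 := mul_nonneg (hnn 4 6 (by decide)) (T.m_pos 6).le
  have N_6_4 := mul_nonneg (hnn 6 4 (by decide)) (T.m_pos 4).le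
  have N_5_6 := mul_nonneg (hnn 5 6 (by decide)) (T.m_pos 6).le
  have N_6_5 := mul_nonneg (hnn 6 5 (by decide)) (T.m_pos 5).le
  have R_0 := hrow 0
  rw [Fin.sum_univ_seven, hdP 0, e_0_1, e_0_2, e_0_3, e_0_4, e_0_5, e_0_6] at R_0
  have R_1 := hrow 1
  rw [Fin.sum_univ_seven, hdP 1, e_1_0, e_1_2, e_1_3, e_1_4, e_1_5, e_1_6] at R_1
  have R_2 := hrow 2
  rw [Fin.sum_univ_seven, hdP 2, e_2_0, e_2_1, e_2_3, e_2_4, e_2_5, e_2_6] at R_2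
  have R_3 := hrow 3
  rw [Fin.sum_univ_seven, hdP 3, e_3_0, e_3_1, e_3_2, e_3_4, e_3_5, e_3_6] at R_3
  have R_4 := hrow 4
  rw [Fin.sum_univ_seven, hdP 4, e_4_0, e_4_1, e_4_2, e_4_3, e_4_5] at R_4
  have R_5 := hrow 5
  rw [Fin.sum_univ_seven, hdP 5, e_5_0, e_5_1, e_5_2, e_5_3, e_5_4] at R_5
  have R_6 := hrow 6
  rw [Fin.sum_univ_seven, hdP 6, e_6_0, e_6_1, e_6_2, e_6_3] at R_6
  have S_0_1 := hsym 0 1
  rw [e_0_1, e_1_0] at S_0_1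
  have S_0_2 := hsym 0 2
  rw [e_0_2, e_2_0] at S_0_2
  have S_0_3 := hsym 0 3
  rw [e_0_3, e_3_0] at S_0_3
  have S_0_4 := hsym 0 4
  rw [e_0_4, e_4_0] at S_0_4
  have S_0_5 := hsym 0 5
  rw [e_0_5, e_5_0] at S_0_5
  have S_0_6 := hsym 0 6
  rw [e_0_6, e_6_0] at S_0_6
  have S_1_2 := hsym 1 2
  rw [e_1_2, e_2_1] at S_1_2
  have S_1_3 := hsym 1 3
  rw [e_1_3, e_3_1] at S_1_3
  have S_1_4 := hsym 1 4
  rw [e_1_4, e_4_1] at S_1_4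
  have S_1_5 := hsym 1 5
  rw [e_1_5, e_5_1] at S_1_5
  have S_1_6 := hsym 1 6
  rw [e_1_6, e_6_1] at S_1_6
  have S_2_3 := hsym 2 3
  rw [e_2_3, e_3_2] at S_2_3
  have S_2_4 := hsym 2 4
  rw [e_2_4, e_4_2] at S_2_4
  have S_2_5 := hsym 2 5
  rw [e_2_5, e_5_2] at S_2_5
  have S_2_6 := hsym 2 6
  rw [e_2_6, e_6_2] at S_2_6
  have S_3_4 := hsym 3 4
  rw [e_3_4, e_4_3] at S_3_4
  have S_3_5 := hsym 3 5
  rw [e_3_5, e_5_3] at S_3_5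
  have S_3_6 := hsym 3 6
  rw [e_3_6, e_6_3] at S_3_6
  have S_4_5 := hsym 4 5
  rw [e_4_5, e_5_4] at S_4_5
  have S_4_6 := hsym 4 6
  have S_5_6 := hsym 5 6
  have Q_4 := hpair 4 6 (by decide)
  have Q_5 := hpair 5 6 (by decide)
  generalize e_4_6 : T.picMatrix 4 6 = x_4 at *
  generalize e_6_4 : T.picMatrix 6 4 = y_4 at *
  generalize e_5_6 : T.picMatrix 5 6 = x_5 at *
  generalize e_6_5 : T.picMatrix 6 5 = y_5 at *
  rcases Q_4 with ⟨rfl, rfl⟩ | ⟨rfl, rfl⟩ | ⟨rfl, rfl⟩ | ⟨rfl, rfl⟩ | ⟨rfl, rfl⟩ | ⟨rfl, rfl⟩ | ⟨rfl, rfl⟩ | ⟨rfl, rfl⟩ | ⟨rfl, rfl⟩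
  · exact absurd rfl hne
  · omega
  · omega
  · omega
  · omega
  · omega
  · omega
  · omega
  · omega

theorem nd_611 (T : Models.NumericalType 7)
    (hG : NTGood T)
    (hmax : ∀ j, T.m j ≤ T.m 0)
    (e_0_1 : T.picMatrix 0 1 = 1)
    (e_0_2 : T.picMatrix 0 2 = 2)
    (e_0_3 : T.picMatrix 0 3 = 0)
    (e_0_4 : T.picMatrix 0 4 = 0)
    (e_0_5 : T.picMatrix 0 5 = 0)
    (e_1_0 : T.picMatrix 1 0 = 1)
    (e_1_2 : T.picMatrix 1 2 = 0)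
    (e_1_3 : T.picMatrix 1 3 = 1)
    (e_1_4 : T.picMatrix 1 4 = 0)
    (e_1_5 : T.picMatrix 1 5 = 0)
    (e_2_0 : T.picMatrix 2 0 = 1)
    (e_2_1 : T.picMatrix 2 1 = 0)
    (e_2_3 : T.picMatrix 2 3 = 0)
    (e_2_4 : T.picMatrix 2 4 = 0)
    (e_2_5 : T.picMatrix 2 5 = 0)
    (e_3_0 : T.picMatrix 3 0 = 0)
    (e_3_1 : T.picMatrix 3 1 = 1)
    (e_3_2 : T.picMatrix 3 2 = 0)
    (e_3_4 : T.picMatrix 3 4 = 1)
    (e_3_5 : T.picMatrix 3 5 = 1)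
    (e_4_0 : T.picMatrix 4 0 = 0)
    (e_4_1 : T.picMatrix 4 1 = 0)
    (e_4_2 : T.picMatrix 4 2 = 0)
    (e_4_3 : T.picMatrix 4 3 = 1)
    (e_4_5 : T.picMatrix 4 5 = 0)
    (e_5_0 : T.picMatrix 5 0 = 0)
    (e_5_1 : T.picMatrix 5 1 = 0)
    (e_5_2 : T.picMatrix 5 2 = 0)
    (e_5_3 : T.picMatrix 5 3 = 1)
    (e_5_4 : T.picMatrix 5 4 = 0)
    (cl : ∀ a b : Fin 7, a.val < 4 → 6 ≤ b.val → T.picMatrix a b = 0) :
    Goal T := by
  by_cases hc : ∀ b : Fin 7, 6 ≤ b.val → T.picMatrix 4 b = 0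
  · exact nd_612 T hG hmax e_0_1 e_0_2 e_0_3 e_0_4 e_0_5 e_1_0 e_1_2 e_1_3 e_1_4 e_1_5 e_2_0 e_2_1 e_2_3 e_2_4 e_2_5 e_3_0 e_3_1 e_3_2 e_3_4 e_3_5 e_4_0 e_4_1 e_4_2 e_4_3 e_4_5 e_5_0 e_5_1 e_5_2 e_5_3 e_5_4 (nt_cl_succ T 6 4 4 rfl cl hc)
  · obtain ⟨τ, hfix, cl', z, hne⟩ := nt_wlog_step T 6 (by norm_num) 4 (by norm_num) 4 (by decide) cl hc
    apply goal_relabel T τ
    refine ex_615 (ntRelabel T τ) (hG.relabel τ) ?_ ?_ ?_ ?_ ?_ ?_ ?_ ?_ ?_ ?_ ?_ ?_ ?_ ?_ ?_ ?_ ?_ ?_ ?_ ?_ ?_ ?_ ?_ ?_ ?_ ?_ ?_ ?_ ?_ ?_ ?_ cl' z hne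
    · intro j
      show T.m (τ j) ≤ T.m (τ 0)
      rw [hfix 0 (by decide)]
      exact hmax _
    · show T.picMatrix (τ 0) (τ 1) = 1
      rw [hfix 0 (by decide), hfix 1 (by decide)]
      exact e_0_1
    · show T.picMatrix (τ 0) (τ 2) = 2
      rw [hfix 0 (by decide), hfix 2 (by decide)]
      exact e_0_2
    · show T.picMatrix (τ 0) (τ 3) = 0
      rw [hfix 0 (by decide), hfix 3 (by decide)]
      exact e_0_3
    · show T.picMatrix (τ 0) (τ 4) = 0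
      rw [hfix 0 (by decide), hfix 4 (by decide)]
      exact e_0_4
    · show T.picMatrix (τ 0) (τ 5) = 0
      rw [hfix 0 (by decide), hfix 5 (by decide)]
      exact e_0_5
    · show T.picMatrix (τ 1) (τ 0) = 1
      rw [hfix 1 (by decide), hfix 0 (by decide)]
      exact e_1_0
    · show T.picMatrix (τ 1) (τ 2) = 0
      rw [hfix 1 (by decide), hfix 2 (by decide)]
      exact e_1_2
    · show T.picMatrix (τ 1) (τ 3) = 1
      rw [hfix 1 (by decide), hfix 3 (by decide)]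
      exact e_1_3
    · show T.picMatrix (τ 1) (τ 4) = 0
      rw [hfix 1 (by decide), hfix 4 (by decide)]
      exact e_1_4
    · show T.picMatrix (τ 1) (τ 5) = 0
      rw [hfix 1 (by decide), hfix 5 (by decide)]
      exact e_1_5
    · show T.picMatrix (τ 2) (τ 0) = 1
      rw [hfix 2 (by decide), hfix 0 (by decide)]
      exact e_2_0
    · show T.picMatrix (τ 2) (τ 1) = 0
      rw [hfix 2 (by decide), hfix 1 (by decide)]
      exact e_2_1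
    · show T.picMatrix (τ 2) (τ 3) = 0
      rw [hfix 2 (by decide), hfix 3 (by decide)]
      exact e_2_3
    · show T.picMatrix (τ 2) (τ 4) = 0
      rw [hfix 2 (by decide), hfix 4 (by decide)]
      exact e_2_4
    · show T.picMatrix (τ 2) (τ 5) = 0
      rw [hfix 2 (by decide), hfix 5 (by decide)]
      exact e_2_5
    · show T.picMatrix (τ 3) (τ 0) = 0
      rw [hfix 3 (by decide), hfix 0 (by decide)]
      exact e_3_0
    · show T.picMatrix (τ 3) (τ 1) = 1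
      rw [hfix 3 (by decide), hfix 1 (by decide)]
      exact e_3_1
    · show T.picMatrix (τ 3) (τ 2) = 0
      rw [hfix 3 (by decide), hfix 2 (by decide)]
      exact e_3_2
    · show T.picMatrix (τ 3) (τ 4) = 1
      rw [hfix 3 (by decide), hfix 4 (by decide)]
      exact e_3_4
    · show T.picMatrix (τ 3) (τ 5) = 1
      rw [hfix 3 (by decide), hfix 5 (by decide)]
      exact e_3_5
    · show T.picMatrix (τ 4) (τ 0) = 0
      rw [hfix 4 (by decide), hfix 0 (by decide)]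
      exact e_4_0
    · show T.picMatrix (τ 4) (τ 1) = 0
      rw [hfix 4 (by decide), hfix 1 (by decide)]
      exact e_4_1
    · show T.picMatrix (τ 4) (τ 2) = 0
      rw [hfix 4 (by decide), hfix 2 (by decide)]
      exact e_4_2
    · show T.picMatrix (τ 4) (τ 3) = 1
      rw [hfix 4 (by decide), hfix 3 (by decide)]
      exact e_4_3
    · show T.picMatrix (τ 4) (τ 5) = 0
      rw [hfix 4 (by decide), hfix 5 (by decide)]
      exact e_4_5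
    · show T.picMatrix (τ 5) (τ 0) = 0
      rw [hfix 5 (by decide), hfix 0 (by decide)]
      exact e_5_0
    · show T.picMatrix (τ 5) (τ 1) = 0
      rw [hfix 5 (by decide), hfix 1 (by decide)]
      exact e_5_1
    · show T.picMatrix (τ 5) (τ 2) = 0
      rw [hfix 5 (by decide), hfix 2 (by decide)]
      exact e_5_2
    · show T.picMatrix (τ 5) (τ 3) = 1
      rw [hfix 5 (by decide), hfix 3 (by decide)]
      exact e_5_3
    · show T.picMatrix (τ 5) (τ 4) = 0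
      rw [hfix 5 (by decide), hfix 4 (by decide)]
      exact e_5_4

theorem ex_616 (T : Models.NumericalType 7)
    (hG : NTGood T)
    (hmax : ∀ j, T.m j ≤ T.m 0)
    (e_0_1 : T.picMatrix 0 1 = 1)
    (e_0_2 : T.picMatrix 0 2 = 2)
    (e_0_3 : T.picMatrix 0 3 = 0)
    (e_0_4 : T.picMatrix 0 4 = 0)
    (e_0_5 : T.picMatrix 0 5 = 0)
    (e_1_0 : T.picMatrix 1 0 = 1)
    (e_1_2 : T.picMatrix 1 2 = 0)
    (e_1_3 : T.picMatrix 1 3 = 1)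
    (e_1_4 : T.picMatrix 1 4 = 0)
    (e_1_5 : T.picMatrix 1 5 = 0)
    (e_2_0 : T.picMatrix 2 0 = 1)
    (e_2_1 : T.picMatrix 2 1 = 0)
    (e_2_3 : T.picMatrix 2 3 = 0)
    (e_2_4 : T.picMatrix 2 4 = 0)
    (e_2_5 : T.picMatrix 2 5 = 0)
    (e_3_0 : T.picMatrix 3 0 = 0)
    (e_3_1 : T.picMatrix 3 1 = 1)
    (e_3_2 : T.picMatrix 3 2 = 0)
    (e_3_4 : T.picMatrix 3 4 = 1)
    (e_3_5 : T.picMatrix 3 5 = 1)
    (e_4_0 : T.picMatrix 4 0 = 0)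
    (e_4_1 : T.picMatrix 4 1 = 0)
    (e_4_2 : T.picMatrix 4 2 = 0)
    (e_4_3 : T.picMatrix 4 3 = 1)
    (e_4_5 : T.picMatrix 4 5 = 0)
    (e_5_0 : T.picMatrix 5 0 = 0)
    (e_5_1 : T.picMatrix 5 1 = 0)
    (e_5_2 : T.picMatrix 5 2 = 0)
    (e_5_3 : T.picMatrix 5 3 = 1)
    (e_5_4 : T.picMatrix 5 4 = 0)
    (cl : ∀ a b : Fin 7, a.val < 3 → 7 ≤ b.val → T.picMatrix a b = 0)
    (z : ∀ a : Fin 7, a.val < 3 → T.picMatrix a 6 = 0)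
    (hne : T.picMatrix 3 6 ≠ 0) :
    Goal T := by
  have e_0_6 : T.picMatrix 0 6 = 0 := z 0 (by decide)
  have e_6_0 : T.picMatrix 6 0 = 0 := nt_pic_zero_symm T 0 6 e_0_6
  have e_1_6 : T.picMatrix 1 6 = 0 := z 1 (by decide)
  have e_6_1 : T.picMatrix 6 1 = 0 := nt_pic_zero_symm T 1 6 e_1_6
  have e_2_6 : T.picMatrix 2 6 = 0 := z 2 (by decide)
  have e_6_2 : T.picMatrix 6 2 = 0 := nt_pic_zero_symm T 2 6 e_2_6
  obtain ⟨hg0, hdA, hdP, hnn, hrow, hsym, hpair⟩ := ntgood_data T (by norm_num) hG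
  have hm_0 := T.m_pos 0
  have hw_0 := T.w_pos 0
  have hm_1 := T.m_pos 1
  have hw_1 := T.w_pos 1
  have hm_2 := T.m_pos 2
  have hw_2 := T.w_pos 2
  have hm_3 := T.m_pos 3
  have hw_3 := T.w_pos 3
  have hm_4 := T.m_pos 4
  have hw_4 := T.w_pos 4
  have hm_5 := T.m_pos 5
  have hw_5 := T.w_pos 5
  have hm_6 := T.m_pos 6
  have hw_6 := T.w_pos 6
  have hx_1 := hmax 1
  have hx_2 := hmax 2
  have hx_3 := hmax 3
  have hx_4 := hmax 4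
  have hx_5 := hmax 5
  have hx_6 := hmax 6
  have N_3_6 := mul_nonneg (hnn 3 6 (by decide)) (T.m_pos 6).le
  have N_6_3 := mul_nonneg (hnn 6 3 (by decide)) (T.m_pos 3).le
  have N_4_6 := mul_nonneg (hnn 4 6 (by decide)) (T.m_pos 6).le
  have N_6_4 := mul_nonneg (hnn 6 4 (by decide)) (T.m_pos 4).le
  have N_5_6 := mul_nonneg (hnn 5 6 (by decide)) (T.m_pos 6).le
  have N_6_5 := mul_nonneg (hnn 6 5 (by decide)) (T.m_pos 5).le
  have R_0 := hrow 0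
  rw [Fin.sum_univ_seven, hdP 0, e_0_1, e_0_2, e_0_3, e_0_4, e_0_5, e_0_6] at R_0
  have R_1 := hrow 1
  rw [Fin.sum_univ_seven, hdP 1, e_1_0, e_1_2, e_1_3, e_1_4, e_1_5, e_1_6] at R_1
  have R_2 := hrow 2
  rw [Fin.sum_univ_seven, hdP 2, e_2_0, e_2_1, e_2_3, e_2_4, e_2_5, e_2_6] at R_2
  have R_3 := hrow 3
  rw [Fin.sum_univ_seven, hdP 3, e_3_0, e_3_1, e_3_2, e_3_4, e_3_5] at R_3
  have R_4 := hrow 4
  rw [Fin.sum_univ_seven, hdP 4, e_4_0, e_4_1, e_4_2, e_4_3, e_4_5] at R_4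
  have R_5 := hrow 5
  rw [Fin.sum_univ_seven, hdP 5, e_5_0, e_5_1, e_5_2, e_5_3, e_5_4] at R_5
  have R_6 := hrow 6
  rw [Fin.sum_univ_seven, hdP 6, e_6_0, e_6_1, e_6_2] at R_6
  have S_0_1 := hsym 0 1
  rw [e_0_1, e_1_0] at S_0_1
  have S_0_2 := hsym 0 2
  rw [e_0_2, e_2_0] at S_0_2
  have S_0_3 := hsym 0 3
  rw [e_0_3, e_3_0] at S_0_3
  have S_0_4 := hsym 0 4
  rw [e_0_4, e_4_0] at S_0_4
  have S_0_5 := hsym 0 5
  rw [e_0_5, e_5_0] at S_0_5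
  have S_0_6 := hsym 0 6
  rw [e_0_6, e_6_0] at S_0_6
  have S_1_2 := hsym 1 2
  rw [e_1_2, e_2_1] at S_1_2
  have S_1_3 := hsym 1 3
  rw [e_1_3, e_3_1] at S_1_3
  have S_1_4 := hsym 1 4
  rw [e_1_4, e_4_1] at S_1_4
  have S_1_5 := hsym 1 5
  rw [e_1_5, e_5_1] at S_1_5
  have S_1_6 := hsym 1 6
  rw [e_1_6, e_6_1] at S_1_6
  have S_2_3 := hsym 2 3
  rw [e_2_3, e_3_2] at S_2_3
  have S_2_4 := hsym 2 4
  rw [e_2_4, e_4_2] at S_2_4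
  have S_2_5 := hsym 2 5
  rw [e_2_5, e_5_2] at S_2_5
  have S_2_6 := hsym 2 6
  rw [e_2_6, e_6_2] at S_2_6
  have S_3_4 := hsym 3 4
  rw [e_3_4, e_4_3] at S_3_4
  have S_3_5 := hsym 3 5
  rw [e_3_5, e_5_3] at S_3_5
  have S_3_6 := hsym 3 6
  have S_4_5 := hsym 4 5
  rw [e_4_5, e_5_4] at S_4_5
  have S_4_6 := hsym 4 6
  have S_5_6 := hsym 5 6
  have Q_3 := hpair 3 6 (by decide)
  have Q_4 := hpair 4 6 (by decide)
  have Q_5 := hpair 5 6 (by decide)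
  generalize e_3_6 : T.picMatrix 3 6 = x_3 at *
  generalize e_6_3 : T.picMatrix 6 3 = y_3 at *
  generalize e_4_6 : T.picMatrix 4 6 = x_4 at *
  generalize e_6_4 : T.picMatrix 6 4 = y_4 at *
  generalize e_5_6 : T.picMatrix 5 6 = x_5 at *
  generalize e_6_5 : T.picMatrix 6 5 = y_5 at *
  rcases Q_3 with ⟨rfl, rfl⟩ | ⟨rfl, rfl⟩ | ⟨rfl, rfl⟩ | ⟨rfl, rfl⟩ | ⟨rfl, rfl⟩ | ⟨rfl, rfl⟩ | ⟨rfl, rfl⟩ | ⟨rfl, rfl⟩ | ⟨rfl, rfl⟩
  · exact absurd rfl hne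
  · omega
  · omega
  · omega
  · omega
  · omega
  · omega
  · omega
  · omega

theorem nd_610 (T : Models.NumericalType 7)
    (hG : NTGood T)
    (hmax : ∀ j, T.m j ≤ T.m 0)
    (e_0_1 : T.picMatrix 0 1 = 1)
    (e_0_2 : T.picMatrix 0 2 = 2)
    (e_0_3 : T.picMatrix 0 3 = 0)
    (e_0_4 : T.picMatrix 0 4 = 0)
    (e_0_5 : T.picMatrix 0 5 = 0)
    (e_1_0 : T.picMatrix 1 0 = 1)
    (e_1_2 : T.picMatrix 1 2 = 0)
    (e_1_3 : T.picMatrix 1 3 = 1)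
    (e_1_4 : T.picMatrix 1 4 = 0)
    (e_1_5 : T.picMatrix 1 5 = 0)
    (e_2_0 : T.picMatrix 2 0 = 1)
    (e_2_1 : T.picMatrix 2 1 = 0)
    (e_2_3 : T.picMatrix 2 3 = 0)
    (e_2_4 : T.picMatrix 2 4 = 0)
    (e_2_5 : T.picMatrix 2 5 = 0)
    (e_3_0 : T.picMatrix 3 0 = 0)
    (e_3_1 : T.picMatrix 3 1 = 1)
    (e_3_2 : T.picMatrix 3 2 = 0)
    (e_3_4 : T.picMatrix 3 4 = 1)
    (e_3_5 : T.picMatrix 3 5 = 1)
    (e_4_0 : T.picMatrix 4 0 = 0)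
    (e_4_1 : T.picMatrix 4 1 = 0)
    (e_4_2 : T.picMatrix 4 2 = 0)
    (e_4_3 : T.picMatrix 4 3 = 1)
    (e_4_5 : T.picMatrix 4 5 = 0)
    (e_5_0 : T.picMatrix 5 0 = 0)
    (e_5_1 : T.picMatrix 5 1 = 0)
    (e_5_2 : T.picMatrix 5 2 = 0)
    (e_5_3 : T.picMatrix 5 3 = 1)
    (e_5_4 : T.picMatrix 5 4 = 0)
    (cl : ∀ a b : Fin 7, a.val < 3 → 6 ≤ b.val → T.picMatrix a b = 0) :
    Goal T := by
  by_cases hc : ∀ b : Fin 7, 6 ≤ b.val → T.picMatrix 3 b = 0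
  · exact nd_611 T hG hmax e_0_1 e_0_2 e_0_3 e_0_4 e_0_5 e_1_0 e_1_2 e_1_3 e_1_4 e_1_5 e_2_0 e_2_1 e_2_3 e_2_4 e_2_5 e_3_0 e_3_1 e_3_2 e_3_4 e_3_5 e_4_0 e_4_1 e_4_2 e_4_3 e_4_5 e_5_0 e_5_1 e_5_2 e_5_3 e_5_4 (nt_cl_succ T 6 3 3 rfl cl hc)
  · obtain ⟨τ, hfix, cl', z, hne⟩ := nt_wlog_step T 6 (by norm_num) 3 (by norm_num) 3 (by decide) cl hc
    apply goal_relabel T τ
    refine ex_616 (ntRelabel T τ) (hG.relabel τ) ?_ ?_ ?_ ?_ ?_ ?_ ?_ ?_ ?_ ?_ ?_ ?_ ?_ ?_ ?_ ?_ ?_ ?_ ?_ ?_ ?_ ?_ ?_ ?_ ?_ ?_ ?_ ?_ ?_ ?_ ?_ cl' z hne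
    · intro j
      show T.m (τ j) ≤ T.m (τ 0)
      rw [hfix 0 (by decide)]
      exact hmax _
    · show T.picMatrix (τ 0) (τ 1) = 1
      rw [hfix 0 (by decide), hfix 1 (by decide)]
      exact e_0_1
    · show T.picMatrix (τ 0) (τ 2) = 2
      rw [hfix 0 (by decide), hfix 2 (by decide)]
      exact e_0_2
    · show T.picMatrix (τ 0) (τ 3) = 0
      rw [hfix 0 (by decide), hfix 3 (by decide)]
      exact e_0_3
    · show T.picMatrix (τ 0) (τ 4) = 0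
      rw [hfix 0 (by decide), hfix 4 (by decide)]
      exact e_0_4
    · show T.picMatrix (τ 0) (τ 5) = 0
      rw [hfix 0 (by decide), hfix 5 (by decide)]
      exact e_0_5
    · show T.picMatrix (τ 1) (τ 0) = 1
      rw [hfix 1 (by decide), hfix 0 (by decide)]
      exact e_1_0
    · show T.picMatrix (τ 1) (τ 2) = 0
      rw [hfix 1 (by decide), hfix 2 (by decide)]
      exact e_1_2
    · show T.picMatrix (τ 1) (τ 3) = 1
      rw [hfix 1 (by decide), hfix 3 (by decide)]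
      exact e_1_3
    · show T.picMatrix (τ 1) (τ 4) = 0
      rw [hfix 1 (by decide), hfix 4 (by decide)]
      exact e_1_4
    · show T.picMatrix (τ 1) (τ 5) = 0
      rw [hfix 1 (by decide), hfix 5 (by decide)]
      exact e_1_5
    · show T.picMatrix (τ 2) (τ 0) = 1
      rw [hfix 2 (by decide), hfix 0 (by decide)]
      exact e_2_0
    · show T.picMatrix (τ 2) (τ 1) = 0
      rw [hfix 2 (by decide), hfix 1 (by decide)]
      exact e_2_1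
    · show T.picMatrix (τ 2) (τ 3) = 0
      rw [hfix 2 (by decide), hfix 3 (by decide)]
      exact e_2_3
    · show T.picMatrix (τ 2) (τ 4) = 0
      rw [hfix 2 (by decide), hfix 4 (by decide)]
      exact e_2_4
    · show T.picMatrix (τ 2) (τ 5) = 0
      rw [hfix 2 (by decide), hfix 5 (by decide)]
      exact e_2_5
    · show T.picMatrix (τ 3) (τ 0) = 0
      rw [hfix 3 (by decide), hfix 0 (by decide)]
      exact e_3_0
    · show T.picMatrix (τ 3) (τ 1) = 1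
      rw [hfix 3 (by decide), hfix 1 (by decide)]
      exact e_3_1
    · show T.picMatrix (τ 3) (τ 2) = 0
      rw [hfix 3 (by decide), hfix 2 (by decide)]
      exact e_3_2
    · show T.picMatrix (τ 3) (τ 4) = 1
      rw [hfix 3 (by decide), hfix 4 (by decide)]
      exact e_3_4
    · show T.picMatrix (τ 3) (τ 5) = 1
      rw [hfix 3 (by decide), hfix 5 (by decide)]
      exact e_3_5
    · show T.picMatrix (τ 4) (τ 0) = 0
      rw [hfix 4 (by decide), hfix 0 (by decide)]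
      exact e_4_0
    · show T.picMatrix (τ 4) (τ 1) = 0
      rw [hfix 4 (by decide), hfix 1 (by decide)]
      exact e_4_1
    · show T.picMatrix (τ 4) (τ 2) = 0
      rw [hfix 4 (by decide), hfix 2 (by decide)]
      exact e_4_2
    · show T.picMatrix (τ 4) (τ 3) = 1
      rw [hfix 4 (by decide), hfix 3 (by decide)]
      exact e_4_3
    · show T.picMatrix (τ 4) (τ 5) = 0
      rw [hfix 4 (by decide), hfix 5 (by decide)]
      exact e_4_5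
    · show T.picMatrix (τ 5) (τ 0) = 0
      rw [hfix 5 (by decide), hfix 0 (by decide)]
      exact e_5_0
    · show T.picMatrix (τ 5) (τ 1) = 0
      rw [hfix 5 (by decide), hfix 1 (by decide)]
      exact e_5_1
    · show T.picMatrix (τ 5) (τ 2) = 0
      rw [hfix 5 (by decide), hfix 2 (by decide)]
      exact e_5_2
    · show T.picMatrix (τ 5) (τ 3) = 1
      rw [hfix 5 (by decide), hfix 3 (by decide)]
      exact e_5_3
    · show T.picMatrix (τ 5) (τ 4) = 0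
      rw [hfix 5 (by decide), hfix 4 (by decide)]
      exact e_5_4

theorem ex_609 (T : Models.NumericalType 7)
    (hG : NTGood T)
    (hmax : ∀ j, T.m j ≤ T.m 0)
    (e_0_1 : T.picMatrix 0 1 = 1)
    (e_0_2 : T.picMatrix 0 2 = 2)
    (e_0_3 : T.picMatrix 0 3 = 0)
    (e_0_4 : T.picMatrix 0 4 = 0)
    (e_1_0 : T.picMatrix 1 0 = 1)
    (e_1_2 : T.picMatrix 1 2 = 0)
    (e_1_3 : T.picMatrix 1 3 = 1)
    (e_1_4 : T.picMatrix 1 4 = 0)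
    (e_2_0 : T.picMatrix 2 0 = 1)
    (e_2_1 : T.picMatrix 2 1 = 0)
    (e_2_3 : T.picMatrix 2 3 = 0)
    (e_2_4 : T.picMatrix 2 4 = 0)
    (e_3_0 : T.picMatrix 3 0 = 0)
    (e_3_1 : T.picMatrix 3 1 = 1)
    (e_3_2 : T.picMatrix 3 2 = 0)
    (e_3_4 : T.picMatrix 3 4 = 1)
    (e_4_0 : T.picMatrix 4 0 = 0)
    (e_4_1 : T.picMatrix 4 1 = 0)
    (e_4_2 : T.picMatrix 4 2 = 0)
    (e_4_3 : T.picMatrix 4 3 = 1)
    (cl : ∀ a b : Fin 7, a.val < 3 → 6 ≤ b.val → T.picMatrix a b = 0)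
    (z : ∀ a : Fin 7, a.val < 3 → T.picMatrix a 5 = 0)
    (hne : T.picMatrix 3 5 ≠ 0) :
    Goal T := by
  have e_0_5 : T.picMatrix 0 5 = 0 := z 0 (by decide)
  have e_5_0 : T.picMatrix 5 0 = 0 := nt_pic_zero_symm T 0 5 e_0_5
  have e_1_5 : T.picMatrix 1 5 = 0 := z 1 (by decide)
  have e_5_1 : T.picMatrix 5 1 = 0 := nt_pic_zero_symm T 1 5 e_1_5
  have e_2_5 : T.picMatrix 2 5 = 0 := z 2 (by decide)
  have e_5_2 : T.picMatrix 5 2 = 0 := nt_pic_zero_symm T 2 5 e_2_5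
  obtain ⟨hg0, hdA, hdP, hnn, hrow, hsym, hpair⟩ := ntgood_data T (by norm_num) hG
  have hm_0 := T.m_pos 0
  have hw_0 := T.w_pos 0
  have hm_1 := T.m_pos 1
  have hw_1 := T.w_pos 1
  have hm_2 := T.m_pos 2
  have hw_2 := T.w_pos 2
  have hm_3 := T.m_pos 3
  have hw_3 := T.w_pos 3
  have hm_4 := T.m_pos 4
  have hw_4 := T.w_pos 4
  have hm_5 := T.m_pos 5
  have hw_5 := T.w_pos 5
  have hx_1 := hmax 1
  have hx_2 := hmax 2
  have hx_3 := hmax 3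
  have hx_4 := hmax 4
  have hx_5 := hmax 5
  have Z_0_6 := cl 0 6 (by decide) (by decide)
  have Z_1_6 := cl 1 6 (by decide) (by decide)
  have Z_2_6 := cl 2 6 (by decide) (by decide)
  have N_3_6 := mul_nonneg (hnn 3 6 (by decide)) (T.m_pos 6).le
  have N_4_6 := mul_nonneg (hnn 4 6 (by decide)) (T.m_pos 6).le
  have N_5_6 := mul_nonneg (hnn 5 6 (by decide)) (T.m_pos 6).le
  have N_3_5 := mul_nonneg (hnn 3 5 (by decide)) (T.m_pos 5).le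
  have N_5_3 := mul_nonneg (hnn 5 3 (by decide)) (T.m_pos 3).le
  have N_4_5 := mul_nonneg (hnn 4 5 (by decide)) (T.m_pos 5).le
  have N_5_4 := mul_nonneg (hnn 5 4 (by decide)) (T.m_pos 4).le
  have R_0 := hrow 0
  rw [Fin.sum_univ_seven, hdP 0, e_0_1, e_0_2, e_0_3, e_0_4, e_0_5, Z_0_6] at R_0
  have R_1 := hrow 1
  rw [Fin.sum_univ_seven, hdP 1, e_1_0, e_1_2, e_1_3, e_1_4, e_1_5, Z_1_6] at R_1
  have R_2 := hrow 2
  rw [Fin.sum_univ_seven, hdP 2, e_2_0, e_2_1, e_2_3, e_2_4, e_2_5, Z_2_6] at R_2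
  have R_3 := hrow 3
  rw [Fin.sum_univ_seven, hdP 3, e_3_0, e_3_1, e_3_2, e_3_4] at R_3
  have R_4 := hrow 4
  rw [Fin.sum_univ_seven, hdP 4, e_4_0, e_4_1, e_4_2, e_4_3] at R_4
  have R_5 := hrow 5
  rw [Fin.sum_univ_seven, hdP 5, e_5_0, e_5_1, e_5_2] at R_5
  have S_0_1 := hsym 0 1
  rw [e_0_1, e_1_0] at S_0_1
  have S_0_2 := hsym 0 2
  rw [e_0_2, e_2_0] at S_0_2
  have S_0_3 := hsym 0 3
  rw [e_0_3, e_3_0] at S_0_3
  have S_0_4 := hsym 0 4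
  rw [e_0_4, e_4_0] at S_0_4
  have S_0_5 := hsym 0 5
  rw [e_0_5, e_5_0] at S_0_5
  have S_1_2 := hsym 1 2
  rw [e_1_2, e_2_1] at S_1_2
  have S_1_3 := hsym 1 3
  rw [e_1_3, e_3_1] at S_1_3
  have S_1_4 := hsym 1 4
  rw [e_1_4, e_4_1] at S_1_4
  have S_1_5 := hsym 1 5
  rw [e_1_5, e_5_1] at S_1_5
  have S_2_3 := hsym 2 3
  rw [e_2_3, e_3_2] at S_2_3
  have S_2_4 := hsym 2 4
  rw [e_2_4, e_4_2] at S_2_4
  have S_2_5 := hsym 2 5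
  rw [e_2_5, e_5_2] at S_2_5
  have S_3_4 := hsym 3 4
  rw [e_3_4, e_4_3] at S_3_4
  have S_3_5 := hsym 3 5
  have S_4_5 := hsym 4 5
  have Q_3 := hpair 3 5 (by decide)
  have Q_4 := hpair 4 5 (by decide)
  generalize e_3_5 : T.picMatrix 3 5 = x_3 at *
  generalize e_5_3 : T.picMatrix 5 3 = y_3 at *
  generalize e_4_5 : T.picMatrix 4 5 = x_4 at *
  generalize e_5_4 : T.picMatrix 5 4 = y_4 at *
  rcases Q_3 with ⟨rfl, rfl⟩ | ⟨rfl, rfl⟩ | ⟨rfl, rfl⟩ | ⟨rfl, rfl⟩ | ⟨rfl, rfl⟩ | ⟨rfl, rfl⟩ | ⟨rfl, rfl⟩ | ⟨rfl, rfl⟩ | ⟨rfl, rfl⟩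
  · exact absurd rfl hne
  · -- (3,5) = (1,1)
    rcases Q_4 with ⟨rfl, rfl⟩ | ⟨rfl, rfl⟩ | ⟨rfl, rfl⟩ | ⟨rfl, rfl⟩ | ⟨rfl, rfl⟩ | ⟨rfl, rfl⟩ | ⟨rfl, rfl⟩ | ⟨rfl, rfl⟩ | ⟨rfl, rfl⟩
    · -- (4,5) = (0,0)
      exact nd_610 T hG hmax e_0_1 e_0_2 e_0_3 e_0_4 e_0_5 e_1_0 e_1_2 e_1_3 e_1_4 e_1_5 e_2_0 e_2_1 e_2_3 e_2_4 e_2_5 e_3_0 e_3_1 e_3_2 e_3_4 e_3_5 e_4_0 e_4_1 e_4_2 e_4_3 e_4_5 e_5_0 e_5_1 e_5_2 e_5_3 e_5_4 cl
    · -- (4,5) = (1,1)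
      omega
    · -- (4,5) = (1,2)
      omega
    · -- (4,5) = (2,1)
      omega
    · -- (4,5) = (1,3)
      omega
    · -- (4,5) = (3,1)
      omega
    · -- (4,5) = (1,4)
      omega
    · -- (4,5) = (4,1)
      omega
    · -- (4,5) = (2,2)
      omega
  · omega
  · omega
  · omega
  · omega
  · omega
  · omega
  · omega

theorem nd_587 (T : Models.NumericalType 7)
    (hG : NTGood T)
    (hmax : ∀ j, T.m j ≤ T.m 0)
    (e_0_1 : T.picMatrix 0 1 = 1)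
    (e_0_2 : T.picMatrix 0 2 = 2)
    (e_0_3 : T.picMatrix 0 3 = 0)
    (e_0_4 : T.picMatrix 0 4 = 0)
    (e_1_0 : T.picMatrix 1 0 = 1)
    (e_1_2 : T.picMatrix 1 2 = 0)
    (e_1_3 : T.picMatrix 1 3 = 1)
    (e_1_4 : T.picMatrix 1 4 = 0)
    (e_2_0 : T.picMatrix 2 0 = 1)
    (e_2_1 : T.picMatrix 2 1 = 0)
    (e_2_3 : T.picMatrix 2 3 = 0)
    (e_2_4 : T.picMatrix 2 4 = 0)
    (e_3_0 : T.picMatrix 3 0 = 0)
    (e_3_1 : T.picMatrix 3 1 = 1)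
    (e_3_2 : T.picMatrix 3 2 = 0)
    (e_3_4 : T.picMatrix 3 4 = 1)
    (e_4_0 : T.picMatrix 4 0 = 0)
    (e_4_1 : T.picMatrix 4 1 = 0)
    (e_4_2 : T.picMatrix 4 2 = 0)
    (e_4_3 : T.picMatrix 4 3 = 1)
    (cl : ∀ a b : Fin 7, a.val < 3 → 5 ≤ b.val → T.picMatrix a b = 0) :
    Goal T := by
  by_cases hc : ∀ b : Fin 7, 5 ≤ b.val → T.picMatrix 3 b = 0
  · exact nd_588 T hG hmax e_0_1 e_0_2 e_0_3 e_0_4 e_1_0 e_1_2 e_1_3 e_1_4 e_2_0 e_2_1 e_2_3 e_2_4 e_3_0 e_3_1 e_3_2 e_3_4 e_4_0 e_4_1 e_4_2 e_4_3 (nt_cl_succ T 5 3 3 rfl cl hc)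
  · obtain ⟨τ, hfix, cl', z, hne⟩ := nt_wlog_step T 5 (by norm_num) 3 (by norm_num) 3 (by decide) cl hc
    apply goal_relabel T τ
    refine ex_609 (ntRelabel T τ) (hG.relabel τ) ?_ ?_ ?_ ?_ ?_ ?_ ?_ ?_ ?_ ?_ ?_ ?_ ?_ ?_ ?_ ?_ ?_ ?_ ?_ ?_ ?_ cl' z hne
    · intro j
      show T.m (τ j) ≤ T.m (τ 0)
      rw [hfix 0 (by decide)]
      exact hmax _
    · show T.picMatrix (τ 0) (τ 1) = 1
      rw [hfix 0 (by decide), hfix 1 (by decide)]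
      exact e_0_1
    · show T.picMatrix (τ 0) (τ 2) = 2
      rw [hfix 0 (by decide), hfix 2 (by decide)]
      exact e_0_2
    · show T.picMatrix (τ 0) (τ 3) = 0
      rw [hfix 0 (by decide), hfix 3 (by decide)]
      exact e_0_3
    · show T.picMatrix (τ 0) (τ 4) = 0
      rw [hfix 0 (by decide), hfix 4 (by decide)]
      exact e_0_4
    · show T.picMatrix (τ 1) (τ 0) = 1
      rw [hfix 1 (by decide), hfix 0 (by decide)]
      exact e_1_0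
    · show T.picMatrix (τ 1) (τ 2) = 0
      rw [hfix 1 (by decide), hfix 2 (by decide)]
      exact e_1_2
    · show T.picMatrix (τ 1) (τ 3) = 1
      rw [hfix 1 (by decide), hfix 3 (by decide)]
      exact e_1_3
    · show T.picMatrix (τ 1) (τ 4) = 0
      rw [hfix 1 (by decide), hfix 4 (by decide)]
      exact e_1_4
    · show T.picMatrix (τ 2) (τ 0) = 1
      rw [hfix 2 (by decide), hfix 0 (by decide)]
      exact e_2_0
    · show T.picMatrix (τ 2) (τ 1) = 0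
      rw [hfix 2 (by decide), hfix 1 (by decide)]
      exact e_2_1
    · show T.picMatrix (τ 2) (τ 3) = 0
      rw [hfix 2 (by decide), hfix 3 (by decide)]
      exact e_2_3
    · show T.picMatrix (τ 2) (τ 4) = 0
      rw [hfix 2 (by decide), hfix 4 (by decide)]
      exact e_2_4
    · show T.picMatrix (τ 3) (τ 0) = 0
      rw [hfix 3 (by decide), hfix 0 (by decide)]
      exact e_3_0
    · show T.picMatrix (τ 3) (τ 1) = 1
      rw [hfix 3 (by decide), hfix 1 (by decide)]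
      exact e_3_1
    · show T.picMatrix (τ 3) (τ 2) = 0
      rw [hfix 3 (by decide), hfix 2 (by decide)]
      exact e_3_2
    · show T.picMatrix (τ 3) (τ 4) = 1
      rw [hfix 3 (by decide), hfix 4 (by decide)]
      exact e_3_4
    · show T.picMatrix (τ 4) (τ 0) = 0
      rw [hfix 4 (by decide), hfix 0 (by decide)]
      exact e_4_0
    · show T.picMatrix (τ 4) (τ 1) = 0
      rw [hfix 4 (by decide), hfix 1 (by decide)]
      exact e_4_1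
    · show T.picMatrix (τ 4) (τ 2) = 0
      rw [hfix 4 (by decide), hfix 2 (by decide)]
      exact e_4_2
    · show T.picMatrix (τ 4) (τ 3) = 1
      rw [hfix 4 (by decide), hfix 3 (by decide)]
      exact e_4_3

theorem nd_871 (T : Models.NumericalType 7)
    (hG : NTGood T)
    (hmax : ∀ j, T.m j ≤ T.m 0)
    (e_0_1 : T.picMatrix 0 1 = 2)
    (e_0_2 : T.picMatrix 0 2 = 1)
    (e_0_3 : T.picMatrix 0 3 = 0)
    (e_0_4 : T.picMatrix 0 4 = 0)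
    (e_1_0 : T.picMatrix 1 0 = 1)
    (e_1_2 : T.picMatrix 1 2 = 0)
    (e_1_3 : T.picMatrix 1 3 = 0)
    (e_1_4 : T.picMatrix 1 4 = 0)
    (e_2_0 : T.picMatrix 2 0 = 1)
    (e_2_1 : T.picMatrix 2 1 = 0)
    (e_2_3 : T.picMatrix 2 3 = 1)
    (e_2_4 : T.picMatrix 2 4 = 0)
    (e_3_0 : T.picMatrix 3 0 = 0)
    (e_3_1 : T.picMatrix 3 1 = 0)
    (e_3_2 : T.picMatrix 3 2 = 1)
    (e_3_4 : T.picMatrix 3 4 = 1)
    (e_4_0 : T.picMatrix 4 0 = 0)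
    (e_4_1 : T.picMatrix 4 1 = 0)
    (e_4_2 : T.picMatrix 4 2 = 0)
    (e_4_3 : T.picMatrix 4 3 = 1)
    (cl : ∀ a b : Fin 7, a.val < 5 → 5 ≤ b.val → T.picMatrix a b = 0) :
    Goal T := by
  obtain ⟨hg0, hdA, hdP, hnn, hrow, hsym, hpair⟩ := ntgood_data T (by norm_num) hG
  have hm_0 := T.m_pos 0
  have hw_0 := T.w_pos 0
  have hm_1 := T.m_pos 1
  have hw_1 := T.w_pos 1
  have hm_2 := T.m_pos 2
  have hw_2 := T.w_pos 2
  have hm_3 := T.m_pos 3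
  have hw_3 := T.w_pos 3
  have hm_4 := T.m_pos 4
  have hw_4 := T.w_pos 4
  have hx_1 := hmax 1
  have hx_2 := hmax 2
  have hx_3 := hmax 3
  have hx_4 := hmax 4
  have Z_0_5 := cl 0 5 (by decide) (by decide)
  have Z_0_6 := cl 0 6 (by decide) (by decide)
  have Z_1_5 := cl 1 5 (by decide) (by decide)
  have Z_1_6 := cl 1 6 (by decide) (by decide)
  have Z_2_5 := cl 2 5 (by decide) (by decide)
  have Z_2_6 := cl 2 6 (by decide) (by decide)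
  have Z_3_5 := cl 3 5 (by decide) (by decide)
  have Z_3_6 := cl 3 6 (by decide) (by decide)
  have Z_4_5 := cl 4 5 (by decide) (by decide)
  have Z_4_6 := cl 4 6 (by decide) (by decide)
  have R_0 := hrow 0
  rw [Fin.sum_univ_seven, hdP 0, e_0_1, e_0_2, e_0_3, e_0_4, Z_0_5, Z_0_6] at R_0
  have R_1 := hrow 1
  rw [Fin.sum_univ_seven, hdP 1, e_1_0, e_1_2, e_1_3, e_1_4, Z_1_5, Z_1_6] at R_1
  have R_2 := hrow 2
  rw [Fin.sum_univ_seven, hdP 2, e_2_0, e_2_1, e_2_3, e_2_4, Z_2_5, Z_2_6] at R_2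
  have R_3 := hrow 3
  rw [Fin.sum_univ_seven, hdP 3, e_3_0, e_3_1, e_3_2, e_3_4, Z_3_5, Z_3_6] at R_3
  have R_4 := hrow 4
  rw [Fin.sum_univ_seven, hdP 4, e_4_0, e_4_1, e_4_2, e_4_3, Z_4_5, Z_4_6] at R_4
  have S_0_1 := hsym 0 1
  rw [e_0_1, e_1_0] at S_0_1
  have S_0_2 := hsym 0 2
  rw [e_0_2, e_2_0] at S_0_2
  have S_0_3 := hsym 0 3
  rw [e_0_3, e_3_0] at S_0_3
  have S_0_4 := hsym 0 4
  rw [e_0_4, e_4_0] at S_0_4
  have S_1_2 := hsym 1 2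
  rw [e_1_2, e_2_1] at S_1_2
  have S_1_3 := hsym 1 3
  rw [e_1_3, e_3_1] at S_1_3
  have S_1_4 := hsym 1 4
  rw [e_1_4, e_4_1] at S_1_4
  have S_2_3 := hsym 2 3
  rw [e_2_3, e_3_2] at S_2_3
  have S_2_4 := hsym 2 4
  rw [e_2_4, e_4_2] at S_2_4
  have S_3_4 := hsym 3 4
  rw [e_3_4, e_4_3] at S_3_4
  exfalso
  omega

theorem nd_875 (T : Models.NumericalType 7)
    (hG : NTGood T)
    (hmax : ∀ j, T.m j ≤ T.m 0)
    (e_0_1 : T.picMatrix 0 1 = 2)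
    (e_0_2 : T.picMatrix 0 2 = 1)
    (e_0_3 : T.picMatrix 0 3 = 0)
    (e_0_4 : T.picMatrix 0 4 = 0)
    (e_0_5 : T.picMatrix 0 5 = 0)
    (e_1_0 : T.picMatrix 1 0 = 1)
    (e_1_2 : T.picMatrix 1 2 = 0)
    (e_1_3 : T.picMatrix 1 3 = 0)
    (e_1_4 : T.picMatrix 1 4 = 0)
    (e_1_5 : T.picMatrix 1 5 = 0)
    (e_2_0 : T.picMatrix 2 0 = 1)
    (e_2_1 : T.picMatrix 2 1 = 0)
    (e_2_3 : T.picMatrix 2 3 = 1)
    (e_2_4 : T.picMatrix 2 4 = 0)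
    (e_2_5 : T.picMatrix 2 5 = 0)
    (e_3_0 : T.picMatrix 3 0 = 0)
    (e_3_1 : T.picMatrix 3 1 = 0)
    (e_3_2 : T.picMatrix 3 2 = 1)
    (e_3_4 : T.picMatrix 3 4 = 1)
    (e_3_5 : T.picMatrix 3 5 = 0)
    (e_4_0 : T.picMatrix 4 0 = 0)
    (e_4_1 : T.picMatrix 4 1 = 0)
    (e_4_2 : T.picMatrix 4 2 = 0)
    (e_4_3 : T.picMatrix 4 3 = 1)
    (e_4_5 : T.picMatrix 4 5 = 1)
    (e_5_0 : T.picMatrix 5 0 = 0)
    (e_5_1 : T.picMatrix 5 1 = 0)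
    (e_5_2 : T.picMatrix 5 2 = 0)
    (e_5_3 : T.picMatrix 5 3 = 0)
    (e_5_4 : T.picMatrix 5 4 = 1)
    (cl : ∀ a b : Fin 7, a.val < 6 → 6 ≤ b.val → T.picMatrix a b = 0) :
    Goal T := by
  obtain ⟨hg0, hdA, hdP, hnn, hrow, hsym, hpair⟩ := ntgood_data T (by norm_num) hG
  have hm_0 := T.m_pos 0
  have hw_0 := T.w_pos 0
  have hm_1 := T.m_pos 1
  have hw_1 := T.w_pos 1
  have hm_2 := T.m_pos 2
  have hw_2 := T.w_pos 2
  have hm_3 := T.m_pos 3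
  have hw_3 := T.w_pos 3
  have hm_4 := T.m_pos 4
  have hw_4 := T.w_pos 4
  have hm_5 := T.m_pos 5
  have hw_5 := T.w_pos 5
  have hx_1 := hmax 1
  have hx_2 := hmax 2
  have hx_3 := hmax 3
  have hx_4 := hmax 4
  have hx_5 := hmax 5
  have Z_0_6 := cl 0 6 (by decide) (by decide)
  have Z_1_6 := cl 1 6 (by decide) (by decide)
  have Z_2_6 := cl 2 6 (by decide) (by decide)
  have Z_3_6 := cl 3 6 (by decide) (by decide)
  have Z_4_6 := cl 4 6 (by decide) (by decide)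
  have Z_5_6 := cl 5 6 (by decide) (by decide)
  have R_0 := hrow 0
  rw [Fin.sum_univ_seven, hdP 0, e_0_1, e_0_2, e_0_3, e_0_4, e_0_5, Z_0_6] at R_0
  have R_1 := hrow 1
  rw [Fin.sum_univ_seven, hdP 1, e_1_0, e_1_2, e_1_3, e_1_4, e_1_5, Z_1_6] at R_1
  have R_2 := hrow 2
  rw [Fin.sum_univ_seven, hdP 2, e_2_0, e_2_1, e_2_3, e_2_4, e_2_5, Z_2_6] at R_2
  have R_3 := hrow 3
  rw [Fin.sum_univ_seven, hdP 3, e_3_0, e_3_1, e_3_2, e_3_4, e_3_5, Z_3_6] at R_3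
  have R_4 := hrow 4
  rw [Fin.sum_univ_seven, hdP 4, e_4_0, e_4_1, e_4_2, e_4_3, e_4_5, Z_4_6] at R_4
  have R_5 := hrow 5
  rw [Fin.sum_univ_seven, hdP 5, e_5_0, e_5_1, e_5_2, e_5_3, e_5_4, Z_5_6] at R_5
  have S_0_1 := hsym 0 1
  rw [e_0_1, e_1_0] at S_0_1
  have S_0_2 := hsym 0 2
  rw [e_0_2, e_2_0] at S_0_2
  have S_0_3 := hsym 0 3
  rw [e_0_3, e_3_0] at S_0_3
  have S_0_4 := hsym 0 4
  rw [e_0_4, e_4_0] at S_0_4
  have S_0_5 := hsym 0 5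
  rw [e_0_5, e_5_0] at S_0_5
  have S_1_2 := hsym 1 2
  rw [e_1_2, e_2_1] at S_1_2
  have S_1_3 := hsym 1 3
  rw [e_1_3, e_3_1] at S_1_3
  have S_1_4 := hsym 1 4
  rw [e_1_4, e_4_1] at S_1_4
  have S_1_5 := hsym 1 5
  rw [e_1_5, e_5_1] at S_1_5
  have S_2_3 := hsym 2 3
  rw [e_2_3, e_3_2] at S_2_3
  have S_2_4 := hsym 2 4
  rw [e_2_4, e_4_2] at S_2_4
  have S_2_5 := hsym 2 5
  rw [e_2_5, e_5_2] at S_2_5
  have S_3_4 := hsym 3 4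
  rw [e_3_4, e_4_3] at S_3_4
  have S_3_5 := hsym 3 5
  rw [e_3_5, e_5_3] at S_3_5
  have S_4_5 := hsym 4 5
  rw [e_4_5, e_5_4] at S_4_5
  exfalso
  omega

theorem nd_877 (T : Models.NumericalType 7)
    (hG : NTGood T)
    (hmax : ∀ j, T.m j ≤ T.m 0)
    (e_0_1 : T.picMatrix 0 1 = 2)
    (e_0_2 : T.picMatrix 0 2 = 1)
    (e_0_3 : T.picMatrix 0 3 = 0)
    (e_0_4 : T.picMatrix 0 4 = 0)
    (e_0_5 : T.picMatrix 0 5 = 0)
    (e_0_6 : T.picMatrix 0 6 = 0)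
    (e_1_0 : T.picMatrix 1 0 = 1)
    (e_1_2 : T.picMatrix 1 2 = 0)
    (e_1_3 : T.picMatrix 1 3 = 0)
    (e_1_4 : T.picMatrix 1 4 = 0)
    (e_1_5 : T.picMatrix 1 5 = 0)
    (e_1_6 : T.picMatrix 1 6 = 0)
    (e_2_0 : T.picMatrix 2 0 = 1)
    (e_2_1 : T.picMatrix 2 1 = 0)
    (e_2_3 : T.picMatrix 2 3 = 1)
    (e_2_4 : T.picMatrix 2 4 = 0)
    (e_2_5 : T.picMatrix 2 5 = 0)
    (e_2_6 : T.picMatrix 2 6 = 0)
    (e_3_0 : T.picMatrix 3 0 = 0)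
    (e_3_1 : T.picMatrix 3 1 = 0)
    (e_3_2 : T.picMatrix 3 2 = 1)
    (e_3_4 : T.picMatrix 3 4 = 1)
    (e_3_5 : T.picMatrix 3 5 = 0)
    (e_3_6 : T.picMatrix 3 6 = 0)
    (e_4_0 : T.picMatrix 4 0 = 0)
    (e_4_1 : T.picMatrix 4 1 = 0)
    (e_4_2 : T.picMatrix 4 2 = 0)
    (e_4_3 : T.picMatrix 4 3 = 1)
    (e_4_5 : T.picMatrix 4 5 = 1)
    (e_4_6 : T.picMatrix 4 6 = 0)
    (e_5_0 : T.picMatrix 5 0 = 0)
    (e_5_1 : T.picMatrix 5 1 = 0)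
    (e_5_2 : T.picMatrix 5 2 = 0)
    (e_5_3 : T.picMatrix 5 3 = 0)
    (e_5_4 : T.picMatrix 5 4 = 1)
    (e_5_6 : T.picMatrix 5 6 = 1)
    (e_6_0 : T.picMatrix 6 0 = 0)
    (e_6_1 : T.picMatrix 6 1 = 0)
    (e_6_2 : T.picMatrix 6 2 = 0)
    (e_6_3 : T.picMatrix 6 3 = 0)
    (e_6_4 : T.picMatrix 6 4 = 0)
    (e_6_5 : T.picMatrix 6 5 = 2)
    (cl : ∀ a b : Fin 7, a.val < 5 → 7 ≤ b.val → T.picMatrix a b = 0) :
    Goal T := by
  obtain ⟨hg0, hdA, hdP, hnn, hrow, hsym, hpair⟩ := ntgood_data T (by norm_num) hG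
  have hm_0 := T.m_pos 0
  have hw_0 := T.w_pos 0
  have hm_1 := T.m_pos 1
  have hw_1 := T.w_pos 1
  have hm_2 := T.m_pos 2
  have hw_2 := T.w_pos 2
  have hm_3 := T.m_pos 3
  have hw_3 := T.w_pos 3
  have hm_4 := T.m_pos 4
  have hw_4 := T.w_pos 4
  have hm_5 := T.m_pos 5
  have hw_5 := T.w_pos 5
  have hm_6 := T.m_pos 6
  have hw_6 := T.w_pos 6
  have hx_1 := hmax 1
  have hx_2 := hmax 2
  have hx_3 := hmax 3
  have hx_4 := hmax 4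
  have hx_5 := hmax 5
  have hx_6 := hmax 6
  have R_0 := hrow 0
  rw [Fin.sum_univ_seven, hdP 0, e_0_1, e_0_2, e_0_3, e_0_4, e_0_5, e_0_6] at R_0
  have R_1 := hrow 1
  rw [Fin.sum_univ_seven, hdP 1, e_1_0, e_1_2, e_1_3, e_1_4, e_1_5, e_1_6] at R_1
  have R_2 := hrow 2
  rw [Fin.sum_univ_seven, hdP 2, e_2_0, e_2_1, e_2_3, e_2_4, e_2_5, e_2_6] at R_2
  have R_3 := hrow 3
  rw [Fin.sum_univ_seven, hdP 3, e_3_0, e_3_1, e_3_2, e_3_4, e_3_5, e_3_6] at R_3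
  have R_4 := hrow 4
  rw [Fin.sum_univ_seven, hdP 4, e_4_0, e_4_1, e_4_2, e_4_3, e_4_5, e_4_6] at R_4
  have R_5 := hrow 5
  rw [Fin.sum_univ_seven, hdP 5, e_5_0, e_5_1, e_5_2, e_5_3, e_5_4, e_5_6] at R_5
  have R_6 := hrow 6
  rw [Fin.sum_univ_seven, hdP 6, e_6_0, e_6_1, e_6_2, e_6_3, e_6_4, e_6_5] at R_6
  have S_0_1 := hsym 0 1
  rw [e_0_1, e_1_0] at S_0_1
  have S_0_2 := hsym 0 2
  rw [e_0_2, e_2_0] at S_0_2
  have S_0_3 := hsym 0 3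
  rw [e_0_3, e_3_0] at S_0_3
  have S_0_4 := hsym 0 4
  rw [e_0_4, e_4_0] at S_0_4
  have S_0_5 := hsym 0 5
  rw [e_0_5, e_5_0] at S_0_5
  have S_0_6 := hsym 0 6
  rw [e_0_6, e_6_0] at S_0_6
  have S_1_2 := hsym 1 2
  rw [e_1_2, e_2_1] at S_1_2
  have S_1_3 := hsym 1 3
  rw [e_1_3, e_3_1] at S_1_3
  have S_1_4 := hsym 1 4
  rw [e_1_4, e_4_1] at S_1_4
  have S_1_5 := hsym 1 5
  rw [e_1_5, e_5_1] at S_1_5
  have S_1_6 := hsym 1 6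
  rw [e_1_6, e_6_1] at S_1_6
  have S_2_3 := hsym 2 3
  rw [e_2_3, e_3_2] at S_2_3
  have S_2_4 := hsym 2 4
  rw [e_2_4, e_4_2] at S_2_4
  have S_2_5 := hsym 2 5
  rw [e_2_5, e_5_2] at S_2_5
  have S_2_6 := hsym 2 6
  rw [e_2_6, e_6_2] at S_2_6
  have S_3_4 := hsym 3 4
  rw [e_3_4, e_4_3] at S_3_4
  have S_3_5 := hsym 3 5
  rw [e_3_5, e_5_3] at S_3_5
  have S_3_6 := hsym 3 6
  rw [e_3_6, e_6_3] at S_3_6
  have S_4_5 := hsym 4 5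
  rw [e_4_5, e_5_4] at S_4_5
  have S_4_6 := hsym 4 6
  rw [e_4_6, e_6_4] at S_4_6
  have S_5_6 := hsym 5 6
  rw [e_5_6, e_6_5] at S_5_6
  have D_0 := hdA 0
  have A_0_1 := nt_a_eq T 0 1
  rw [e_0_1] at A_0_1
  have A_0_2 := nt_a_eq T 0 2
  rw [e_0_2] at A_0_2
  have A_0_3 := nt_a_eq T 0 3
  rw [e_0_3] at A_0_3
  have A_0_4 := nt_a_eq T 0 4
  rw [e_0_4] at A_0_4
  have A_0_5 := nt_a_eq T 0 5
  rw [e_0_5] at A_0_5
  have A_0_6 := nt_a_eq T 0 6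
  rw [e_0_6] at A_0_6
  have D_1 := hdA 1
  have A_1_0 := nt_a_eq T 1 0
  rw [e_1_0] at A_1_0
  have A_1_2 := nt_a_eq T 1 2
  rw [e_1_2] at A_1_2
  have A_1_3 := nt_a_eq T 1 3
  rw [e_1_3] at A_1_3
  have A_1_4 := nt_a_eq T 1 4
  rw [e_1_4] at A_1_4
  have A_1_5 := nt_a_eq T 1 5
  rw [e_1_5] at A_1_5
  have A_1_6 := nt_a_eq T 1 6
  rw [e_1_6] at A_1_6
  have D_2 := hdA 2
  have A_2_0 := nt_a_eq T 2 0
  rw [e_2_0] at A_2_0
  have A_2_1 := nt_a_eq T 2 1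
  rw [e_2_1] at A_2_1
  have A_2_3 := nt_a_eq T 2 3
  rw [e_2_3] at A_2_3
  have A_2_4 := nt_a_eq T 2 4
  rw [e_2_4] at A_2_4
  have A_2_5 := nt_a_eq T 2 5
  rw [e_2_5] at A_2_5
  have A_2_6 := nt_a_eq T 2 6
  rw [e_2_6] at A_2_6
  have D_3 := hdA 3
  have A_3_0 := nt_a_eq T 3 0
  rw [e_3_0] at A_3_0
  have A_3_1 := nt_a_eq T 3 1
  rw [e_3_1] at A_3_1
  have A_3_2 := nt_a_eq T 3 2
  rw [e_3_2] at A_3_2
  have A_3_4 := nt_a_eq T 3 4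
  rw [e_3_4] at A_3_4
  have A_3_5 := nt_a_eq T 3 5
  rw [e_3_5] at A_3_5
  have A_3_6 := nt_a_eq T 3 6
  rw [e_3_6] at A_3_6
  have D_4 := hdA 4
  have A_4_0 := nt_a_eq T 4 0
  rw [e_4_0] at A_4_0
  have A_4_1 := nt_a_eq T 4 1
  rw [e_4_1] at A_4_1
  have A_4_2 := nt_a_eq T 4 2
  rw [e_4_2] at A_4_2
  have A_4_3 := nt_a_eq T 4 3
  rw [e_4_3] at A_4_3
  have A_4_5 := nt_a_eq T 4 5
  rw [e_4_5] at A_4_5
  have A_4_6 := nt_a_eq T 4 6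
  rw [e_4_6] at A_4_6
  have D_5 := hdA 5
  have A_5_0 := nt_a_eq T 5 0
  rw [e_5_0] at A_5_0
  have A_5_1 := nt_a_eq T 5 1
  rw [e_5_1] at A_5_1
  have A_5_2 := nt_a_eq T 5 2
  rw [e_5_2] at A_5_2
  have A_5_3 := nt_a_eq T 5 3
  rw [e_5_3] at A_5_3
  have A_5_4 := nt_a_eq T 5 4
  rw [e_5_4] at A_5_4
  have A_5_6 := nt_a_eq T 5 6
  rw [e_5_6] at A_5_6
  have D_6 := hdA 6
  have A_6_0 := nt_a_eq T 6 0
  rw [e_6_0] at A_6_0
  have A_6_1 := nt_a_eq T 6 1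
  rw [e_6_1] at A_6_1
  have A_6_2 := nt_a_eq T 6 2
  rw [e_6_2] at A_6_2
  have A_6_3 := nt_a_eq T 6 3
  rw [e_6_3] at A_6_3
  have A_6_4 := nt_a_eq T 6 4
  rw [e_6_4] at A_6_4
  have A_6_5 := nt_a_eq T 6 5
  rw [e_6_5] at A_6_5
  refine goal_of_indices T hg0 6 5 4 3 2 0 1 (by decide) (T.m 1) (T.w 6) ?_
  unfold Goali
  exact Or.inr (Or.inl ⟨(by linear_combination (5) * R_0 + (6) * R_1 + (4) * R_2 + (3) * R_3 + (2) * R_4 + (1) * R_5),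
      (by linear_combination (4) * R_0 + (5) * R_1 + (3) * R_2 + (2) * R_3 + (1) * R_4),
      (by linear_combination (3) * R_0 + (4) * R_1 + (2) * R_2 + (1) * R_3),
      (by linear_combination (2) * R_0 + (3) * R_1 + (1) * R_2),
      (by linear_combination (1) * R_0 + (2) * R_1),
      (by linear_combination (1) * R_1),
      rfl,
      rfl,
      (by linear_combination (1) * S_5_6),
      (by linear_combination (1) * S_4_5 + (1) * S_5_6),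
      (by linear_combination (1) * S_3_4 + (1) * S_4_5 + (1) * S_5_6),
      (by linear_combination (1) * S_2_3 + (1) * S_3_4 + (1) * S_4_5 + (1) * S_5_6),
      (by linear_combination (1) * S_0_2 + (1) * S_2_3 + (1) * S_3_4 + (1) * S_4_5 + (1) * S_5_6),
      (by linear_combination (-1) * S_0_1 + (2) * S_0_2 + (2) * S_2_3 + (2) * S_3_4 + (2) * S_4_5 + (2) * S_5_6),
      (by linear_combination (1) * D_6),
      (by linear_combination (1) * A_6_5),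
      (by linear_combination (1) * A_6_4),
      (by linear_combination (1) * A_6_3),
      (by linear_combination (1) * A_6_2),
      (by linear_combination (1) * A_6_0),
      (by linear_combination (1) * A_6_1),
      (by linear_combination (-2) * S_5_6 + (1) * D_5),
      (by linear_combination (1) * S_5_6 + (1) * A_5_4),
      (by linear_combination (1) * A_5_3),
      (by linear_combination (1) * A_5_2),
      (by linear_combination (1) * A_5_0),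
      (by linear_combination (1) * A_5_1),
      (by linear_combination (-2) * S_4_5 + (-2) * S_5_6 + (1) * D_4),
      (by linear_combination (1) * S_4_5 + (1) * S_5_6 + (1) * A_4_3),
      (by linear_combination (1) * A_4_2),
      (by linear_combination (1) * A_4_0),
      (by linear_combination (1) * A_4_1),
      (by linear_combination (-2) * S_3_4 + (-2) * S_4_5 + (-2) * S_5_6 + (1) * D_3),
      (by linear_combination (1) * S_3_4 + (1) * S_4_5 + (1) * S_5_6 + (1) * A_3_2),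
      (by linear_combination (1) * A_3_0),
      (by linear_combination (1) * A_3_1),
      (by linear_combination (-2) * S_2_3 + (-2) * S_3_4 + (-2) * S_4_5 + (-2) * S_5_6 + (1) * D_2),
      (by linear_combination (1) * S_2_3 + (1) * S_3_4 + (1) * S_4_5 + (1) * S_5_6 + (1) * A_2_0),
      (by linear_combination (1) * A_2_1),
      (by linear_combination (-2) * S_0_2 + (-2) * S_2_3 + (-2) * S_3_4 + (-2) * S_4_5 + (-2) * S_5_6 + (1) * D_0),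
      (by linear_combination (2) * S_0_2 + (2) * S_2_3 + (2) * S_3_4 + (2) * S_4_5 + (2) * S_5_6 + (1) * A_0_1),
      (by linear_combination (2) * S_0_1 + (-4) * S_0_2 + (-4) * S_2_3 + (-4) * S_3_4 + (-4) * S_4_5 + (-4) * S_5_6 + (1) * D_1)⟩)

theorem nd_878 (T : Models.NumericalType 7)
    (hG : NTGood T)
    (hmax : ∀ j, T.m j ≤ T.m 0)
    (e_0_1 : T.picMatrix 0 1 = 2)
    (e_0_2 : T.picMatrix 0 2 = 1)
    (e_0_3 : T.picMatrix 0 3 = 0)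
    (e_0_4 : T.picMatrix 0 4 = 0)
    (e_0_5 : T.picMatrix 0 5 = 0)
    (e_0_6 : T.picMatrix 0 6 = 0)
    (e_1_0 : T.picMatrix 1 0 = 1)
    (e_1_2 : T.picMatrix 1 2 = 0)
    (e_1_3 : T.picMatrix 1 3 = 0)
    (e_1_4 : T.picMatrix 1 4 = 0)
    (e_1_5 : T.picMatrix 1 5 = 0)
    (e_1_6 : T.picMatrix 1 6 = 0)
    (e_2_0 : T.picMatrix 2 0 = 1)
    (e_2_1 : T.picMatrix 2 1 = 0)
    (e_2_3 : T.picMatrix 2 3 = 1)
    (e_2_4 : T.picMatrix 2 4 = 0)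
    (e_2_5 : T.picMatrix 2 5 = 0)
    (e_2_6 : T.picMatrix 2 6 = 0)
    (e_3_0 : T.picMatrix 3 0 = 0)
    (e_3_1 : T.picMatrix 3 1 = 0)
    (e_3_2 : T.picMatrix 3 2 = 1)
    (e_3_4 : T.picMatrix 3 4 = 1)
    (e_3_5 : T.picMatrix 3 5 = 0)
    (e_3_6 : T.picMatrix 3 6 = 0)
    (e_4_0 : T.picMatrix 4 0 = 0)
    (e_4_1 : T.picMatrix 4 1 = 0)
    (e_4_2 : T.picMatrix 4 2 = 0)
    (e_4_3 : T.picMatrix 4 3 = 1)
    (e_4_5 : T.picMatrix 4 5 = 1)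
    (e_4_6 : T.picMatrix 4 6 = 0)
    (e_5_0 : T.picMatrix 5 0 = 0)
    (e_5_1 : T.picMatrix 5 1 = 0)
    (e_5_2 : T.picMatrix 5 2 = 0)
    (e_5_3 : T.picMatrix 5 3 = 0)
    (e_5_4 : T.picMatrix 5 4 = 1)
    (e_5_6 : T.picMatrix 5 6 = 2)
    (e_6_0 : T.picMatrix 6 0 = 0)
    (e_6_1 : T.picMatrix 6 1 = 0)
    (e_6_2 : T.picMatrix 6 2 = 0)
    (e_6_3 : T.picMatrix 6 3 = 0)
    (e_6_4 : T.picMatrix 6 4 = 0)
    (e_6_5 : T.picMatrix 6 5 = 1)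
    (cl : ∀ a b : Fin 7, a.val < 5 → 7 ≤ b.val → T.picMatrix a b = 0) :
    Goal T := by
  obtain ⟨hg0, hdA, hdP, hnn, hrow, hsym, hpair⟩ := ntgood_data T (by norm_num) hG
  have hm_0 := T.m_pos 0
  have hw_0 := T.w_pos 0
  have hm_1 := T.m_pos 1
  have hw_1 := T.w_pos 1
  have hm_2 := T.m_pos 2
  have hw_2 := T.w_pos 2
  have hm_3 := T.m_pos 3
  have hw_3 := T.w_pos 3
  have hm_4 := T.m_pos 4
  have hw_4 := T.w_pos 4
  have hm_5 := T.m_pos 5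
  have hw_5 := T.w_pos 5
  have hm_6 := T.m_pos 6
  have hw_6 := T.w_pos 6
  have hx_1 := hmax 1
  have hx_2 := hmax 2
  have hx_3 := hmax 3
  have hx_4 := hmax 4
  have hx_5 := hmax 5
  have hx_6 := hmax 6
  have R_0 := hrow 0
  rw [Fin.sum_univ_seven, hdP 0, e_0_1, e_0_2, e_0_3, e_0_4, e_0_5, e_0_6] at R_0
  have R_1 := hrow 1
  rw [Fin.sum_univ_seven, hdP 1, e_1_0, e_1_2, e_1_3, e_1_4, e_1_5, e_1_6] at R_1
  have R_2 := hrow 2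
  rw [Fin.sum_univ_seven, hdP 2, e_2_0, e_2_1, e_2_3, e_2_4, e_2_5, e_2_6] at R_2
  have R_3 := hrow 3
  rw [Fin.sum_univ_seven, hdP 3, e_3_0, e_3_1, e_3_2, e_3_4, e_3_5, e_3_6] at R_3
  have R_4 := hrow 4
  rw [Fin.sum_univ_seven, hdP 4, e_4_0, e_4_1, e_4_2, e_4_3, e_4_5, e_4_6] at R_4
  have R_5 := hrow 5
  rw [Fin.sum_univ_seven, hdP 5, e_5_0, e_5_1, e_5_2, e_5_3, e_5_4, e_5_6] at R_5
  have R_6 := hrow 6
  rw [Fin.sum_univ_seven, hdP 6, e_6_0, e_6_1, e_6_2, e_6_3, e_6_4, e_6_5] at R_6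
  have S_0_1 := hsym 0 1
  rw [e_0_1, e_1_0] at S_0_1
  have S_0_2 := hsym 0 2
  rw [e_0_2, e_2_0] at S_0_2
  have S_0_3 := hsym 0 3
  rw [e_0_3, e_3_0] at S_0_3
  have S_0_4 := hsym 0 4
  rw [e_0_4, e_4_0] at S_0_4
  have S_0_5 := hsym 0 5
  rw [e_0_5, e_5_0] at S_0_5
  have S_0_6 := hsym 0 6
  rw [e_0_6, e_6_0] at S_0_6
  have S_1_2 := hsym 1 2
  rw [e_1_2, e_2_1] at S_1_2
  have S_1_3 := hsym 1 3
  rw [e_1_3, e_3_1] at S_1_3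
  have S_1_4 := hsym 1 4
  rw [e_1_4, e_4_1] at S_1_4
  have S_1_5 := hsym 1 5
  rw [e_1_5, e_5_1] at S_1_5
  have S_1_6 := hsym 1 6
  rw [e_1_6, e_6_1] at S_1_6
  have S_2_3 := hsym 2 3
  rw [e_2_3, e_3_2] at S_2_3
  have S_2_4 := hsym 2 4
  rw [e_2_4, e_4_2] at S_2_4
  have S_2_5 := hsym 2 5
  rw [e_2_5, e_5_2] at S_2_5
  have S_2_6 := hsym 2 6
  rw [e_2_6, e_6_2] at S_2_6
  have S_3_4 := hsym 3 4
  rw [e_3_4, e_4_3] at S_3_4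
  have S_3_5 := hsym 3 5
  rw [e_3_5, e_5_3] at S_3_5
  have S_3_6 := hsym 3 6
  rw [e_3_6, e_6_3] at S_3_6
  have S_4_5 := hsym 4 5
  rw [e_4_5, e_5_4] at S_4_5
  have S_4_6 := hsym 4 6
  rw [e_4_6, e_6_4] at S_4_6
  have S_5_6 := hsym 5 6
  rw [e_5_6, e_6_5] at S_5_6
  have D_0 := hdA 0
  have A_0_1 := nt_a_eq T 0 1
  rw [e_0_1] at A_0_1
  have A_0_2 := nt_a_eq T 0 2
  rw [e_0_2] at A_0_2
  have A_0_3 := nt_a_eq T 0 3
  rw [e_0_3] at A_0_3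
  have A_0_4 := nt_a_eq T 0 4
  rw [e_0_4] at A_0_4
  have A_0_5 := nt_a_eq T 0 5
  rw [e_0_5] at A_0_5
  have A_0_6 := nt_a_eq T 0 6
  rw [e_0_6] at A_0_6
  have D_1 := hdA 1
  have A_1_0 := nt_a_eq T 1 0
  rw [e_1_0] at A_1_0
  have A_1_2 := nt_a_eq T 1 2
  rw [e_1_2] at A_1_2
  have A_1_3 := nt_a_eq T 1 3
  rw [e_1_3] at A_1_3
  have A_1_4 := nt_a_eq T 1 4
  rw [e_1_4] at A_1_4
  have A_1_5 := nt_a_eq T 1 5
  rw [e_1_5] at A_1_5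
  have A_1_6 := nt_a_eq T 1 6
  rw [e_1_6] at A_1_6
  have D_2 := hdA 2
  have A_2_0 := nt_a_eq T 2 0
  rw [e_2_0] at A_2_0
  have A_2_1 := nt_a_eq T 2 1
  rw [e_2_1] at A_2_1
  have A_2_3 := nt_a_eq T 2 3
  rw [e_2_3] at A_2_3
  have A_2_4 := nt_a_eq T 2 4
  rw [e_2_4] at A_2_4
  have A_2_5 := nt_a_eq T 2 5
  rw [e_2_5] at A_2_5
  have A_2_6 := nt_a_eq T 2 6
  rw [e_2_6] at A_2_6
  have D_3 := hdA 3
  have A_3_0 := nt_a_eq T 3 0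
  rw [e_3_0] at A_3_0
  have A_3_1 := nt_a_eq T 3 1
  rw [e_3_1] at A_3_1
  have A_3_2 := nt_a_eq T 3 2
  rw [e_3_2] at A_3_2
  have A_3_4 := nt_a_eq T 3 4
  rw [e_3_4] at A_3_4
  have A_3_5 := nt_a_eq T 3 5
  rw [e_3_5] at A_3_5
  have A_3_6 := nt_a_eq T 3 6
  rw [e_3_6] at A_3_6
  have D_4 := hdA 4
  have A_4_0 := nt_a_eq T 4 0
  rw [e_4_0] at A_4_0
  have A_4_1 := nt_a_eq T 4 1
  rw [e_4_1] at A_4_1
  have A_4_2 := nt_a_eq T 4 2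
  rw [e_4_2] at A_4_2
  have A_4_3 := nt_a_eq T 4 3
  rw [e_4_3] at A_4_3
  have A_4_5 := nt_a_eq T 4 5
  rw [e_4_5] at A_4_5
  have A_4_6 := nt_a_eq T 4 6
  rw [e_4_6] at A_4_6
  have D_5 := hdA 5
  have A_5_0 := nt_a_eq T 5 0
  rw [e_5_0] at A_5_0
  have A_5_1 := nt_a_eq T 5 1
  rw [e_5_1] at A_5_1
  have A_5_2 := nt_a_eq T 5 2
  rw [e_5_2] at A_5_2
  have A_5_3 := nt_a_eq T 5 3
  rw [e_5_3] at A_5_3
  have A_5_4 := nt_a_eq T 5 4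
  rw [e_5_4] at A_5_4
  have A_5_6 := nt_a_eq T 5 6
  rw [e_5_6] at A_5_6
  have D_6 := hdA 6
  have A_6_0 := nt_a_eq T 6 0
  rw [e_6_0] at A_6_0
  have A_6_1 := nt_a_eq T 6 1
  rw [e_6_1] at A_6_1
  have A_6_2 := nt_a_eq T 6 2
  rw [e_6_2] at A_6_2
  have A_6_3 := nt_a_eq T 6 3
  rw [e_6_3] at A_6_3
  have A_6_4 := nt_a_eq T 6 4
  rw [e_6_4] at A_6_4
  have A_6_5 := nt_a_eq T 6 5
  rw [e_6_5] at A_6_5
  refine goal_of_indices T hg0 1 0 2 3 4 5 6 (by decide) (T.m 1) (T.w 0) ?_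
  unfold Goali
  exact Or.inr (Or.inr (Or.inr (Or.inl ⟨rfl,
      (by linear_combination (1) * R_1),
      (by linear_combination (1) * R_0 + (2) * R_1),
      (by linear_combination (2) * R_0 + (3) * R_1 + (1) * R_2),
      (by linear_combination (3) * R_0 + (4) * R_1 + (2) * R_2 + (1) * R_3),
      (by linear_combination (4) * R_0 + (5) * R_1 + (3) * R_2 + (2) * R_3 + (1) * R_4),
      (by have h : (2 : ℤ) * (T.m 6 - (T.m 1)) = 0 := (by linear_combination (5) * R_0 + (6) * R_1 + (4) * R_2 + (3) * R_3 + (2) * R_4 + (1) * R_5); exact eq_of_sub_eq_zero ((mul_eq_zero.mp h).resolve_left (by norm_num))),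
      (by linear_combination (-1) * S_0_1),
      rfl,
      (by linear_combination (-1) * S_0_2),
      (by linear_combination (-1) * S_0_2 + (-1) * S_2_3),
      (by linear_combination (-1) * S_0_2 + (-1) * S_2_3 + (-1) * S_3_4),
      (by linear_combination (-1) * S_0_2 + (-1) * S_2_3 + (-1) * S_3_4 + (-1) * S_4_5),
      (by linear_combination (-2) * S_0_2 + (-2) * S_2_3 + (-2) * S_3_4 + (-2) * S_4_5 + (-1) * S_5_6),
      (by linear_combination (2) * S_0_1 + (1) * D_1),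
      (by linear_combination (-1) * S_0_1 + (1) * A_1_0),
      (by linear_combination (1) * A_1_2),
      (by linear_combination (1) * A_1_3),
      (by linear_combination (1) * A_1_4),
      (by linear_combination (1) * A_1_5),
      (by linear_combination (1) * A_1_6),
      (by linear_combination (1) * D_0),
      (by linear_combination (1) * A_0_2),
      (by linear_combination (1) * A_0_3),
      (by linear_combination (1) * A_0_4),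
      (by linear_combination (1) * A_0_5),
      (by linear_combination (1) * A_0_6),
      (by linear_combination (2) * S_0_2 + (1) * D_2),
      (by linear_combination (-1) * S_0_2 + (1) * A_2_3),
      (by linear_combination (1) * A_2_4),
      (by linear_combination (1) * A_2_5),
      (by linear_combination (1) * A_2_6),
      (by linear_combination (2) * S_0_2 + (2) * S_2_3 + (1) * D_3),
      (by linear_combination (-1) * S_0_2 + (-1) * S_2_3 + (1) * A_3_4),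
      (by linear_combination (1) * A_3_5),
      (by linear_combination (1) * A_3_6),
      (by linear_combination (2) * S_0_2 + (2) * S_2_3 + (2) * S_3_4 + (1) * D_4),
      (by linear_combination (-1) * S_0_2 + (-1) * S_2_3 + (-1) * S_3_4 + (1) * A_4_5),
      (by linear_combination (1) * A_4_6),
      (by linear_combination (2) * S_0_2 + (2) * S_2_3 + (2) * S_3_4 + (2) * S_4_5 + (1) * D_5),
      (by linear_combination (-2) * S_0_2 + (-2) * S_2_3 + (-2) * S_3_4 + (-2) * S_4_5 + (1) * A_5_6),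
      (by linear_combination (4) * S_0_2 + (4) * S_2_3 + (4) * S_3_4 + (4) * S_4_5 + (2) * S_5_6 + (1) * D_6)⟩)))

theorem ex_876 (T : Models.NumericalType 7)
    (hG : NTGood T)
    (hmax : ∀ j, T.m j ≤ T.m 0)
    (e_0_1 : T.picMatrix 0 1 = 2)
    (e_0_2 : T.picMatrix 0 2 = 1)
    (e_0_3 : T.picMatrix 0 3 = 0)
    (e_0_4 : T.picMatrix 0 4 = 0)
    (e_0_5 : T.picMatrix 0 5 = 0)
    (e_1_0 : T.picMatrix 1 0 = 1)
    (e_1_2 : T.picMatrix 1 2 = 0)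
    (e_1_3 : T.picMatrix 1 3 = 0)
    (e_1_4 : T.picMatrix 1 4 = 0)
    (e_1_5 : T.picMatrix 1 5 = 0)
    (e_2_0 : T.picMatrix 2 0 = 1)
    (e_2_1 : T.picMatrix 2 1 = 0)
    (e_2_3 : T.picMatrix 2 3 = 1)
    (e_2_4 : T.picMatrix 2 4 = 0)
    (e_2_5 : T.picMatrix 2 5 = 0)
    (e_3_0 : T.picMatrix 3 0 = 0)
    (e_3_1 : T.picMatrix 3 1 = 0)
    (e_3_2 : T.picMatrix 3 2 = 1)
    (e_3_4 : T.picMatrix 3 4 = 1)
    (e_3_5 : T.picMatrix 3 5 = 0)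
    (e_4_0 : T.picMatrix 4 0 = 0)
    (e_4_1 : T.picMatrix 4 1 = 0)
    (e_4_2 : T.picMatrix 4 2 = 0)
    (e_4_3 : T.picMatrix 4 3 = 1)
    (e_4_5 : T.picMatrix 4 5 = 1)
    (e_5_0 : T.picMatrix 5 0 = 0)
    (e_5_1 : T.picMatrix 5 1 = 0)
    (e_5_2 : T.picMatrix 5 2 = 0)
    (e_5_3 : T.picMatrix 5 3 = 0)
    (e_5_4 : T.picMatrix 5 4 = 1)
    (cl : ∀ a b : Fin 7, a.val < 5 → 7 ≤ b.val → T.picMatrix a b = 0)
    (z : ∀ a : Fin 7, a.val < 5 → T.picMatrix a 6 = 0)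
    (hne : T.picMatrix 5 6 ≠ 0) :
    Goal T := by
  have e_0_6 : T.picMatrix 0 6 = 0 := z 0 (by decide)
  have e_6_0 : T.picMatrix 6 0 = 0 := nt_pic_zero_symm T 0 6 e_0_6
  have e_1_6 : T.picMatrix 1 6 = 0 := z 1 (by decide)
  have e_6_1 : T.picMatrix 6 1 = 0 := nt_pic_zero_symm T 1 6 e_1_6
  have e_2_6 : T.picMatrix 2 6 = 0 := z 2 (by decide)
  have e_6_2 : T.picMatrix 6 2 = 0 := nt_pic_zero_symm T 2 6 e_2_6
  have e_3_6 : T.picMatrix 3 6 = 0 := z 3 (by decide)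
  have e_6_3 : T.picMatrix 6 3 = 0 := nt_pic_zero_symm T 3 6 e_3_6
  have e_4_6 : T.picMatrix 4 6 = 0 := z 4 (by decide)
  have e_6_4 : T.picMatrix 6 4 = 0 := nt_pic_zero_symm T 4 6 e_4_6
  obtain ⟨hg0, hdA, hdP, hnn, hrow, hsym, hpair⟩ := ntgood_data T (by norm_num) hG
  have hm_0 := T.m_pos 0
  have hw_0 := T.w_pos 0
  have hm_1 := T.m_pos 1
  have hw_1 := T.w_pos 1
  have hm_2 := T.m_pos 2
  have hw_2 := T.w_pos 2
  have hm_3 := T.m_pos 3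
  have hw_3 := T.w_pos 3
  have hm_4 := T.m_pos 4
  have hw_4 := T.w_pos 4
  have hm_5 := T.m_pos 5
  have hw_5 := T.w_pos 5
  have hm_6 := T.m_pos 6
  have hw_6 := T.w_pos 6
  have hx_1 := hmax 1
  have hx_2 := hmax 2
  have hx_3 := hmax 3
  have hx_4 := hmax 4
  have hx_5 := hmax 5
  have hx_6 := hmax 6
  have N_5_6 := mul_nonneg (hnn 5 6 (by decide)) (T.m_pos 6).le
  have N_6_5 := mul_nonneg (hnn 6 5 (by decide)) (T.m_pos 5).le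
  have R_0 := hrow 0
  rw [Fin.sum_univ_seven, hdP 0, e_0_1, e_0_2, e_0_3, e_0_4, e_0_5, e_0_6] at R_0
  have R_1 := hrow 1
  rw [Fin.sum_univ_seven, hdP 1, e_1_0, e_1_2, e_1_3, e_1_4, e_1_5, e_1_6] at R_1
  have R_2 := hrow 2
  rw [Fin.sum_univ_seven, hdP 2, e_2_0, e_2_1, e_2_3, e_2_4, e_2_5, e_2_6] at R_2
  have R_3 := hrow 3
  rw [Fin.sum_univ_seven, hdP 3, e_3_0, e_3_1, e_3_2, e_3_4, e_3_5, e_3_6] at R_3
  have R_4 := hrow 4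
  rw [Fin.sum_univ_seven, hdP 4, e_4_0, e_4_1, e_4_2, e_4_3, e_4_5, e_4_6] at R_4
  have R_5 := hrow 5
  rw [Fin.sum_univ_seven, hdP 5, e_5_0, e_5_1, e_5_2, e_5_3, e_5_4] at R_5
  have R_6 := hrow 6
  rw [Fin.sum_univ_seven, hdP 6, e_6_0, e_6_1, e_6_2, e_6_3, e_6_4] at R_6
  have S_0_1 := hsym 0 1
  rw [e_0_1, e_1_0] at S_0_1
  have S_0_2 := hsym 0 2
  rw [e_0_2, e_2_0] at S_0_2
  have S_0_3 := hsym 0 3
  rw [e_0_3, e_3_0] at S_0_3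
  have S_0_4 := hsym 0 4
  rw [e_0_4, e_4_0] at S_0_4
  have S_0_5 := hsym 0 5
  rw [e_0_5, e_5_0] at S_0_5
  have S_0_6 := hsym 0 6
  rw [e_0_6, e_6_0] at S_0_6
  have S_1_2 := hsym 1 2
  rw [e_1_2, e_2_1] at S_1_2
  have S_1_3 := hsym 1 3
  rw [e_1_3, e_3_1] at S_1_3
  have S_1_4 := hsym 1 4
  rw [e_1_4, e_4_1] at S_1_4
  have S_1_5 := hsym 1 5
  rw [e_1_5, e_5_1] at S_1_5
  have S_1_6 := hsym 1 6
  rw [e_1_6, e_6_1] at S_1_6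
  have S_2_3 := hsym 2 3
  rw [e_2_3, e_3_2] at S_2_3
  have S_2_4 := hsym 2 4
  rw [e_2_4, e_4_2] at S_2_4
  have S_2_5 := hsym 2 5
  rw [e_2_5, e_5_2] at S_2_5
  have S_2_6 := hsym 2 6
  rw [e_2_6, e_6_2] at S_2_6
  have S_3_4 := hsym 3 4
  rw [e_3_4, e_4_3] at S_3_4
  have S_3_5 := hsym 3 5
  rw [e_3_5, e_5_3] at S_3_5
  have S_3_6 := hsym 3 6
  rw [e_3_6, e_6_3] at S_3_6
  have S_4_5 := hsym 4 5
  rw [e_4_5, e_5_4] at S_4_5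
  have S_4_6 := hsym 4 6
  rw [e_4_6, e_6_4] at S_4_6
  have S_5_6 := hsym 5 6
  have Q_5 := hpair 5 6 (by decide)
  generalize e_5_6 : T.picMatrix 5 6 = x_5 at *
  generalize e_6_5 : T.picMatrix 6 5 = y_5 at *
  rcases Q_5 with ⟨rfl, rfl⟩ | ⟨rfl, rfl⟩ | ⟨rfl, rfl⟩ | ⟨rfl, rfl⟩ | ⟨rfl, rfl⟩ | ⟨rfl, rfl⟩ | ⟨rfl, rfl⟩ | ⟨rfl, rfl⟩ | ⟨rfl, rfl⟩
  · exact absurd rfl hne
  · -- (5,6) = (1,1)
    omega
  · -- (5,6) = (1,2)
    exact nd_877 T hG hmax e_0_1 e_0_2 e_0_3 e_0_4 e_0_5 e_0_6 e_1_0 e_1_2 e_1_3 e_1_4 e_1_5 e_1_6 e_2_0 e_2_1 e_2_3 e_2_4 e_2_5 e_2_6 e_3_0 e_3_1 e_3_2 e_3_4 e_3_5 e_3_6 e_4_0 e_4_1 e_4_2 e_4_3 e_4_5 e_4_6 e_5_0 e_5_1 e_5_2 e_5_3 e_5_4 e_5_6 e_6_0 e_6_1 e_6_2 e_6_3 e_6_4 e_6_5 cl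
  · -- (5,6) = (2,1)
    exact nd_878 T hG hmax e_0_1 e_0_2 e_0_3 e_0_4 e_0_5 e_0_6 e_1_0 e_1_2 e_1_3 e_1_4 e_1_5 e_1_6 e_2_0 e_2_1 e_2_3 e_2_4 e_2_5 e_2_6 e_3_0 e_3_1 e_3_2 e_3_4 e_3_5 e_3_6 e_4_0 e_4_1 e_4_2 e_4_3 e_4_5 e_4_6 e_5_0 e_5_1 e_5_2 e_5_3 e_5_4 e_5_6 e_6_0 e_6_1 e_6_2 e_6_3 e_6_4 e_6_5 cl
  · -- (5,6) = (1,3)
    omega
  · -- (5,6) = (3,1)
    omega
  · -- (5,6) = (1,4)
    omega
  · -- (5,6) = (4,1)
    omega
  · -- (5,6) = (2,2)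
    omega

theorem nd_874 (T : Models.NumericalType 7)
    (hG : NTGood T)
    (hmax : ∀ j, T.m j ≤ T.m 0)
    (e_0_1 : T.picMatrix 0 1 = 2)
    (e_0_2 : T.picMatrix 0 2 = 1)
    (e_0_3 : T.picMatrix 0 3 = 0)
    (e_0_4 : T.picMatrix 0 4 = 0)
    (e_0_5 : T.picMatrix 0 5 = 0)
    (e_1_0 : T.picMatrix 1 0 = 1)
    (e_1_2 : T.picMatrix 1 2 = 0)
    (e_1_3 : T.picMatrix 1 3 = 0)
    (e_1_4 : T.picMatrix 1 4 = 0)
    (e_1_5 : T.picMatrix 1 5 = 0)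
    (e_2_0 : T.picMatrix 2 0 = 1)
    (e_2_1 : T.picMatrix 2 1 = 0)
    (e_2_3 : T.picMatrix 2 3 = 1)
    (e_2_4 : T.picMatrix 2 4 = 0)
    (e_2_5 : T.picMatrix 2 5 = 0)
    (e_3_0 : T.picMatrix 3 0 = 0)
    (e_3_1 : T.picMatrix 3 1 = 0)
    (e_3_2 : T.picMatrix 3 2 = 1)
    (e_3_4 : T.picMatrix 3 4 = 1)
    (e_3_5 : T.picMatrix 3 5 = 0)
    (e_4_0 : T.picMatrix 4 0 = 0)
    (e_4_1 : T.picMatrix 4 1 = 0)
    (e_4_2 : T.picMatrix 4 2 = 0)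
    (e_4_3 : T.picMatrix 4 3 = 1)
    (e_4_5 : T.picMatrix 4 5 = 1)
    (e_5_0 : T.picMatrix 5 0 = 0)
    (e_5_1 : T.picMatrix 5 1 = 0)
    (e_5_2 : T.picMatrix 5 2 = 0)
    (e_5_3 : T.picMatrix 5 3 = 0)
    (e_5_4 : T.picMatrix 5 4 = 1)
    (cl : ∀ a b : Fin 7, a.val < 5 → 6 ≤ b.val → T.picMatrix a b = 0) :
    Goal T := by
  by_cases hc : ∀ b : Fin 7, 6 ≤ b.val → T.picMatrix 5 b = 0
  · exact nd_875 T hG hmax e_0_1 e_0_2 e_0_3 e_0_4 e_0_5 e_1_0 e_1_2 e_1_3 e_1_4 e_1_5 e_2_0 e_2_1 e_2_3 e_2_4 e_2_5 e_3_0 e_3_1 e_3_2 e_3_4 e_3_5 e_4_0 e_4_1 e_4_2 e_4_3 e_4_5 e_5_0 e_5_1 e_5_2 e_5_3 e_5_4 (nt_cl_succ T 6 5 5 rfl cl hc)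
  · obtain ⟨τ, hfix, cl', z, hne⟩ := nt_wlog_step T 6 (by norm_num) 5 (by norm_num) 5 (by decide) cl hc
    apply goal_relabel T τ
    refine ex_876 (ntRelabel T τ) (hG.relabel τ) ?_ ?_ ?_ ?_ ?_ ?_ ?_ ?_ ?_ ?_ ?_ ?_ ?_ ?_ ?_ ?_ ?_ ?_ ?_ ?_ ?_ ?_ ?_ ?_ ?_ ?_ ?_ ?_ ?_ ?_ ?_ cl' z hne
    · intro j
      show T.m (τ j) ≤ T.m (τ 0)
      rw [hfix 0 (by decide)]
      exact hmax _
    · show T.picMatrix (τ 0) (τ 1) = 2
      rw [hfix 0 (by decide), hfix 1 (by decide)]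
      exact e_0_1
    · show T.picMatrix (τ 0) (τ 2) = 1
      rw [hfix 0 (by decide), hfix 2 (by decide)]
      exact e_0_2
    · show T.picMatrix (τ 0) (τ 3) = 0
      rw [hfix 0 (by decide), hfix 3 (by decide)]
      exact e_0_3
    · show T.picMatrix (τ 0) (τ 4) = 0
      rw [hfix 0 (by decide), hfix 4 (by decide)]
      exact e_0_4
    · show T.picMatrix (τ 0) (τ 5) = 0
      rw [hfix 0 (by decide), hfix 5 (by decide)]
      exact e_0_5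
    · show T.picMatrix (τ 1) (τ 0) = 1
      rw [hfix 1 (by decide), hfix 0 (by decide)]
      exact e_1_0
    · show T.picMatrix (τ 1) (τ 2) = 0
      rw [hfix 1 (by decide), hfix 2 (by decide)]
      exact e_1_2
    · show T.picMatrix (τ 1) (τ 3) = 0
      rw [hfix 1 (by decide), hfix 3 (by decide)]
      exact e_1_3
    · show T.picMatrix (τ 1) (τ 4) = 0
      rw [hfix 1 (by decide), hfix 4 (by decide)]
      exact e_1_4
    · show T.picMatrix (τ 1) (τ 5) = 0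
      rw [hfix 1 (by decide), hfix 5 (by decide)]
      exact e_1_5
    · show T.picMatrix (τ 2) (τ 0) = 1
      rw [hfix 2 (by decide), hfix 0 (by decide)]
      exact e_2_0
    · show T.picMatrix (τ 2) (τ 1) = 0
      rw [hfix 2 (by decide), hfix 1 (by decide)]
      exact e_2_1
    · show T.picMatrix (τ 2) (τ 3) = 1
      rw [hfix 2 (by decide), hfix 3 (by decide)]
      exact e_2_3
    · show T.picMatrix (τ 2) (τ 4) = 0
      rw [hfix 2 (by decide), hfix 4 (by decide)]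
      exact e_2_4
    · show T.picMatrix (τ 2) (τ 5) = 0
      rw [hfix 2 (by decide), hfix 5 (by decide)]
      exact e_2_5
    · show T.picMatrix (τ 3) (τ 0) = 0
      rw [hfix 3 (by decide), hfix 0 (by decide)]
      exact e_3_0
    · show T.picMatrix (τ 3) (τ 1) = 0
      rw [hfix 3 (by decide), hfix 1 (by decide)]
      exact e_3_1
    · show T.picMatrix (τ 3) (τ 2) = 1
      rw [hfix 3 (by decide), hfix 2 (by decide)]
      exact e_3_2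
    · show T.picMatrix (τ 3) (τ 4) = 1
      rw [hfix 3 (by decide), hfix 4 (by decide)]
      exact e_3_4
    · show T.picMatrix (τ 3) (τ 5) = 0
      rw [hfix 3 (by decide), hfix 5 (by decide)]
      exact e_3_5
    · show T.picMatrix (τ 4) (τ 0) = 0
      rw [hfix 4 (by decide), hfix 0 (by decide)]
      exact e_4_0
    · show T.picMatrix (τ 4) (τ 1) = 0
      rw [hfix 4 (by decide), hfix 1 (by decide)]
      exact e_4_1
    · show T.picMatrix (τ 4) (τ 2) = 0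
      rw [hfix 4 (by decide), hfix 2 (by decide)]
      exact e_4_2
    · show T.picMatrix (τ 4) (τ 3) = 1
      rw [hfix 4 (by decide), hfix 3 (by decide)]
      exact e_4_3
    · show T.picMatrix (τ 4) (τ 5) = 1
      rw [hfix 4 (by decide), hfix 5 (by decide)]
      exact e_4_5
    · show T.picMatrix (τ 5) (τ 0) = 0
      rw [hfix 5 (by decide), hfix 0 (by decide)]
      exact e_5_0
    · show T.picMatrix (τ 5) (τ 1) = 0
      rw [hfix 5 (by decide), hfix 1 (by decide)]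
      exact e_5_1
    · show T.picMatrix (τ 5) (τ 2) = 0
      rw [hfix 5 (by decide), hfix 2 (by decide)]
      exact e_5_2
    · show T.picMatrix (τ 5) (τ 3) = 0
      rw [hfix 5 (by decide), hfix 3 (by decide)]
      exact e_5_3
    · show T.picMatrix (τ 5) (τ 4) = 1
      rw [hfix 5 (by decide), hfix 4 (by decide)]
      exact e_5_4

theorem nd_880 (T : Models.NumericalType 7)
    (hG : NTGood T)
    (hmax : ∀ j, T.m j ≤ T.m 0)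
    (e_0_1 : T.picMatrix 0 1 = 2)
    (e_0_2 : T.picMatrix 0 2 = 1)
    (e_0_3 : T.picMatrix 0 3 = 0)
    (e_0_4 : T.picMatrix 0 4 = 0)
    (e_0_5 : T.picMatrix 0 5 = 0)
    (e_0_6 : T.picMatrix 0 6 = 0)
    (e_1_0 : T.picMatrix 1 0 = 1)
    (e_1_2 : T.picMatrix 1 2 = 0)
    (e_1_3 : T.picMatrix 1 3 = 0)
    (e_1_4 : T.picMatrix 1 4 = 0)
    (e_1_5 : T.picMatrix 1 5 = 0)
    (e_1_6 : T.picMatrix 1 6 = 0)
    (e_2_0 : T.picMatrix 2 0 = 1)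
    (e_2_1 : T.picMatrix 2 1 = 0)
    (e_2_3 : T.picMatrix 2 3 = 1)
    (e_2_4 : T.picMatrix 2 4 = 0)
    (e_2_5 : T.picMatrix 2 5 = 0)
    (e_2_6 : T.picMatrix 2 6 = 0)
    (e_3_0 : T.picMatrix 3 0 = 0)
    (e_3_1 : T.picMatrix 3 1 = 0)
    (e_3_2 : T.picMatrix 3 2 = 1)
    (e_3_4 : T.picMatrix 3 4 = 1)
    (e_3_5 : T.picMatrix 3 5 = 0)
    (e_3_6 : T.picMatrix 3 6 = 0)
    (e_4_0 : T.picMatrix 4 0 = 0)
    (e_4_1 : T.picMatrix 4 1 = 0)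
    (e_4_2 : T.picMatrix 4 2 = 0)
    (e_4_3 : T.picMatrix 4 3 = 1)
    (e_4_5 : T.picMatrix 4 5 = 1)
    (e_4_6 : T.picMatrix 4 6 = 1)
    (e_5_0 : T.picMatrix 5 0 = 0)
    (e_5_1 : T.picMatrix 5 1 = 0)
    (e_5_2 : T.picMatrix 5 2 = 0)
    (e_5_3 : T.picMatrix 5 3 = 0)
    (e_5_4 : T.picMatrix 5 4 = 1)
    (e_5_6 : T.picMatrix 5 6 = 0)
    (e_6_0 : T.picMatrix 6 0 = 0)
    (e_6_1 : T.picMatrix 6 1 = 0)
    (e_6_2 : T.picMatrix 6 2 = 0)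
    (e_6_3 : T.picMatrix 6 3 = 0)
    (e_6_4 : T.picMatrix 6 4 = 1)
    (e_6_5 : T.picMatrix 6 5 = 0)
    (cl : ∀ a b : Fin 7, a.val < 4 → 7 ≤ b.val → T.picMatrix a b = 0) :
    Goal T := by
  obtain ⟨hg0, hdA, hdP, hnn, hrow, hsym, hpair⟩ := ntgood_data T (by norm_num) hG
  have hm_0 := T.m_pos 0
  have hw_0 := T.w_pos 0
  have hm_1 := T.m_pos 1
  have hw_1 := T.w_pos 1
  have hm_2 := T.m_pos 2
  have hw_2 := T.w_pos 2
  have hm_3 := T.m_pos 3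
  have hw_3 := T.w_pos 3
  have hm_4 := T.m_pos 4
  have hw_4 := T.w_pos 4
  have hm_5 := T.m_pos 5
  have hw_5 := T.w_pos 5
  have hm_6 := T.m_pos 6
  have hw_6 := T.w_pos 6
  have hx_1 := hmax 1
  have hx_2 := hmax 2
  have hx_3 := hmax 3
  have hx_4 := hmax 4
  have hx_5 := hmax 5
  have hx_6 := hmax 6
  have R_0 := hrow 0
  rw [Fin.sum_univ_seven, hdP 0, e_0_1, e_0_2, e_0_3, e_0_4, e_0_5, e_0_6] at R_0
  have R_1 := hrow 1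
  rw [Fin.sum_univ_seven, hdP 1, e_1_0, e_1_2, e_1_3, e_1_4, e_1_5, e_1_6] at R_1
  have R_2 := hrow 2
  rw [Fin.sum_univ_seven, hdP 2, e_2_0, e_2_1, e_2_3, e_2_4, e_2_5, e_2_6] at R_2
  have R_3 := hrow 3
  rw [Fin.sum_univ_seven, hdP 3, e_3_0, e_3_1, e_3_2, e_3_4, e_3_5, e_3_6] at R_3
  have R_4 := hrow 4
  rw [Fin.sum_univ_seven, hdP 4, e_4_0, e_4_1, e_4_2, e_4_3, e_4_5, e_4_6] at R_4
  have R_5 := hrow 5
  rw [Fin.sum_univ_seven, hdP 5, e_5_0, e_5_1, e_5_2, e_5_3, e_5_4, e_5_6] at R_5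
  have R_6 := hrow 6
  rw [Fin.sum_univ_seven, hdP 6, e_6_0, e_6_1, e_6_2, e_6_3, e_6_4, e_6_5] at R_6
  have S_0_1 := hsym 0 1
  rw [e_0_1, e_1_0] at S_0_1
  have S_0_2 := hsym 0 2
  rw [e_0_2, e_2_0] at S_0_2
  have S_0_3 := hsym 0 3
  rw [e_0_3, e_3_0] at S_0_3
  have S_0_4 := hsym 0 4
  rw [e_0_4, e_4_0] at S_0_4
  have S_0_5 := hsym 0 5
  rw [e_0_5, e_5_0] at S_0_5
  have S_0_6 := hsym 0 6
  rw [e_0_6, e_6_0] at S_0_6
  have S_1_2 := hsym 1 2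
  rw [e_1_2, e_2_1] at S_1_2
  have S_1_3 := hsym 1 3
  rw [e_1_3, e_3_1] at S_1_3
  have S_1_4 := hsym 1 4
  rw [e_1_4, e_4_1] at S_1_4
  have S_1_5 := hsym 1 5
  rw [e_1_5, e_5_1] at S_1_5
  have S_1_6 := hsym 1 6
  rw [e_1_6, e_6_1] at S_1_6
  have S_2_3 := hsym 2 3
  rw [e_2_3, e_3_2] at S_2_3
  have S_2_4 := hsym 2 4
  rw [e_2_4, e_4_2] at S_2_4
  have S_2_5 := hsym 2 5
  rw [e_2_5, e_5_2] at S_2_5
  have S_2_6 := hsym 2 6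
  rw [e_2_6, e_6_2] at S_2_6
  have S_3_4 := hsym 3 4
  rw [e_3_4, e_4_3] at S_3_4
  have S_3_5 := hsym 3 5
  rw [e_3_5, e_5_3] at S_3_5
  have S_3_6 := hsym 3 6
  rw [e_3_6, e_6_3] at S_3_6
  have S_4_5 := hsym 4 5
  rw [e_4_5, e_5_4] at S_4_5
  have S_4_6 := hsym 4 6
  rw [e_4_6, e_6_4] at S_4_6
  have S_5_6 := hsym 5 6
  rw [e_5_6, e_6_5] at S_5_6
  have D_0 := hdA 0
  have A_0_1 := nt_a_eq T 0 1
  rw [e_0_1] at A_0_1
  have A_0_2 := nt_a_eq T 0 2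
  rw [e_0_2] at A_0_2
  have A_0_3 := nt_a_eq T 0 3
  rw [e_0_3] at A_0_3
  have A_0_4 := nt_a_eq T 0 4
  rw [e_0_4] at A_0_4
  have A_0_5 := nt_a_eq T 0 5
  rw [e_0_5] at A_0_5
  have A_0_6 := nt_a_eq T 0 6
  rw [e_0_6] at A_0_6
  have D_1 := hdA 1
  have A_1_0 := nt_a_eq T 1 0
  rw [e_1_0] at A_1_0
  have A_1_2 := nt_a_eq T 1 2
  rw [e_1_2] at A_1_2
  have A_1_3 := nt_a_eq T 1 3
  rw [e_1_3] at A_1_3
  have A_1_4 := nt_a_eq T 1 4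
  rw [e_1_4] at A_1_4
  have A_1_5 := nt_a_eq T 1 5
  rw [e_1_5] at A_1_5
  have A_1_6 := nt_a_eq T 1 6
  rw [e_1_6] at A_1_6
  have D_2 := hdA 2
  have A_2_0 := nt_a_eq T 2 0
  rw [e_2_0] at A_2_0
  have A_2_1 := nt_a_eq T 2 1
  rw [e_2_1] at A_2_1
  have A_2_3 := nt_a_eq T 2 3
  rw [e_2_3] at A_2_3
  have A_2_4 := nt_a_eq T 2 4
  rw [e_2_4] at A_2_4
  have A_2_5 := nt_a_eq T 2 5
  rw [e_2_5] at A_2_5
  have A_2_6 := nt_a_eq T 2 6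
  rw [e_2_6] at A_2_6
  have D_3 := hdA 3
  have A_3_0 := nt_a_eq T 3 0
  rw [e_3_0] at A_3_0
  have A_3_1 := nt_a_eq T 3 1
  rw [e_3_1] at A_3_1
  have A_3_2 := nt_a_eq T 3 2
  rw [e_3_2] at A_3_2
  have A_3_4 := nt_a_eq T 3 4
  rw [e_3_4] at A_3_4
  have A_3_5 := nt_a_eq T 3 5
  rw [e_3_5] at A_3_5
  have A_3_6 := nt_a_eq T 3 6
  rw [e_3_6] at A_3_6
  have D_4 := hdA 4
  have A_4_0 := nt_a_eq T 4 0
  rw [e_4_0] at A_4_0
  have A_4_1 := nt_a_eq T 4 1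
  rw [e_4_1] at A_4_1
  have A_4_2 := nt_a_eq T 4 2
  rw [e_4_2] at A_4_2
  have A_4_3 := nt_a_eq T 4 3
  rw [e_4_3] at A_4_3
  have A_4_5 := nt_a_eq T 4 5
  rw [e_4_5] at A_4_5
  have A_4_6 := nt_a_eq T 4 6
  rw [e_4_6] at A_4_6
  have D_5 := hdA 5
  have A_5_0 := nt_a_eq T 5 0
  rw [e_5_0] at A_5_0
  have A_5_1 := nt_a_eq T 5 1
  rw [e_5_1] at A_5_1
  have A_5_2 := nt_a_eq T 5 2
  rw [e_5_2] at A_5_2
  have A_5_3 := nt_a_eq T 5 3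
  rw [e_5_3] at A_5_3
  have A_5_4 := nt_a_eq T 5 4
  rw [e_5_4] at A_5_4
  have A_5_6 := nt_a_eq T 5 6
  rw [e_5_6] at A_5_6
  have D_6 := hdA 6
  have A_6_0 := nt_a_eq T 6 0
  rw [e_6_0] at A_6_0
  have A_6_1 := nt_a_eq T 6 1
  rw [e_6_1] at A_6_1
  have A_6_2 := nt_a_eq T 6 2
  rw [e_6_2] at A_6_2
  have A_6_3 := nt_a_eq T 6 3
  rw [e_6_3] at A_6_3
  have A_6_4 := nt_a_eq T 6 4
  rw [e_6_4] at A_6_4
  have A_6_5 := nt_a_eq T 6 5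
  rw [e_6_5] at A_6_5
  refine goal_of_indices T hg0 1 0 2 3 4 5 6 (by decide) (T.m 1) (T.w 0) ?_
  unfold Goali
  exact Or.inr (Or.inr (Or.inr (Or.inr (Or.inl ⟨rfl,
      (by linear_combination (1) * R_1),
      (by linear_combination (1) * R_0 + (2) * R_1),
      (by linear_combination (2) * R_0 + (3) * R_1 + (1) * R_2),
      (by linear_combination (3) * R_0 + (4) * R_1 + (2) * R_2 + (1) * R_3),
      (by have h : (2 : ℤ) * (T.m 5 - (T.m 1)) = 0 := (by linear_combination (3) * R_0 + (4) * R_1 + (2) * R_2 + (1) * R_3 + (-1) * R_5); exact eq_of_sub_eq_zero ((mul_eq_zero.mp h).resolve_left (by norm_num))),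
      (by have h : (2 : ℤ) * (T.m 6 - (T.m 1)) = 0 := (by linear_combination (5) * R_0 + (6) * R_1 + (4) * R_2 + (3) * R_3 + (2) * R_4 + (1) * R_5); exact eq_of_sub_eq_zero ((mul_eq_zero.mp h).resolve_left (by norm_num))),
      (by linear_combination (-1) * S_0_1),
      rfl,
      (by linear_combination (-1) * S_0_2),
      (by linear_combination (-1) * S_0_2 + (-1) * S_2_3),
      (by linear_combination (-1) * S_0_2 + (-1) * S_2_3 + (-1) * S_3_4),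
      (by linear_combination (-1) * S_0_2 + (-1) * S_2_3 + (-1) * S_3_4 + (-1) * S_4_5),
      (by linear_combination (-1) * S_0_2 + (-1) * S_2_3 + (-1) * S_3_4 + (-1) * S_4_6),
      (by linear_combination (2) * S_0_1 + (1) * D_1),
      (by linear_combination (-1) * S_0_1 + (1) * A_1_0),
      (by linear_combination (1) * A_1_2),
      (by linear_combination (1) * A_1_3),
      (by linear_combination (1) * A_1_4),
      (by linear_combination (1) * A_1_5),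
      (by linear_combination (1) * A_1_6),
      (by linear_combination (1) * D_0),
      (by linear_combination (1) * A_0_2),
      (by linear_combination (1) * A_0_3),
      (by linear_combination (1) * A_0_4),
      (by linear_combination (1) * A_0_5),
      (by linear_combination (1) * A_0_6),
      (by linear_combination (2) * S_0_2 + (1) * D_2),
      (by linear_combination (-1) * S_0_2 + (1) * A_2_3),
      (by linear_combination (1) * A_2_4),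
      (by linear_combination (1) * A_2_5),
      (by linear_combination (1) * A_2_6),
      (by linear_combination (2) * S_0_2 + (2) * S_2_3 + (1) * D_3),
      (by linear_combination (-1) * S_0_2 + (-1) * S_2_3 + (1) * A_3_4),
      (by linear_combination (1) * A_3_5),
      (by linear_combination (1) * A_3_6),
      (by linear_combination (2) * S_0_2 + (2) * S_2_3 + (2) * S_3_4 + (1) * D_4),
      (by linear_combination (-1) * S_0_2 + (-1) * S_2_3 + (-1) * S_3_4 + (1) * A_4_5),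
      (by linear_combination (-1) * S_0_2 + (-1) * S_2_3 + (-1) * S_3_4 + (1) * A_4_6),
      (by linear_combination (2) * S_0_2 + (2) * S_2_3 + (2) * S_3_4 + (2) * S_4_5 + (1) * D_5),
      (by linear_combination (1) * A_5_6),
      (by linear_combination (2) * S_0_2 + (2) * S_2_3 + (2) * S_3_4 + (2) * S_4_6 + (1) * D_6)⟩))))

theorem ex_879 (T : Models.NumericalType 7)
    (hG : NTGood T)
    (hmax : ∀ j, T.m j ≤ T.m 0)
    (e_0_1 : T.picMatrix 0 1 = 2)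
    (e_0_2 : T.picMatrix 0 2 = 1)
    (e_0_3 : T.picMatrix 0 3 = 0)
    (e_0_4 : T.picMatrix 0 4 = 0)
    (e_0_5 : T.picMatrix 0 5 = 0)
    (e_1_0 : T.picMatrix 1 0 = 1)
    (e_1_2 : T.picMatrix 1 2 = 0)
    (e_1_3 : T.picMatrix 1 3 = 0)
    (e_1_4 : T.picMatrix 1 4 = 0)
    (e_1_5 : T.picMatrix 1 5 = 0)
    (e_2_0 : T.picMatrix 2 0 = 1)
    (e_2_1 : T.picMatrix 2 1 = 0)
    (e_2_3 : T.picMatrix 2 3 = 1)
    (e_2_4 : T.picMatrix 2 4 = 0)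
    (e_2_5 : T.picMatrix 2 5 = 0)
    (e_3_0 : T.picMatrix 3 0 = 0)
    (e_3_1 : T.picMatrix 3 1 = 0)
    (e_3_2 : T.picMatrix 3 2 = 1)
    (e_3_4 : T.picMatrix 3 4 = 1)
    (e_3_5 : T.picMatrix 3 5 = 0)
    (e_4_0 : T.picMatrix 4 0 = 0)
    (e_4_1 : T.picMatrix 4 1 = 0)
    (e_4_2 : T.picMatrix 4 2 = 0)
    (e_4_3 : T.picMatrix 4 3 = 1)
    (e_4_5 : T.picMatrix 4 5 = 1)
    (e_5_0 : T.picMatrix 5 0 = 0)
    (e_5_1 : T.picMatrix 5 1 = 0)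
    (e_5_2 : T.picMatrix 5 2 = 0)
    (e_5_3 : T.picMatrix 5 3 = 0)
    (e_5_4 : T.picMatrix 5 4 = 1)
    (cl : ∀ a b : Fin 7, a.val < 4 → 7 ≤ b.val → T.picMatrix a b = 0)
    (z : ∀ a : Fin 7, a.val < 4 → T.picMatrix a 6 = 0)
    (hne : T.picMatrix 4 6 ≠ 0) :
    Goal T := by
  have e_0_6 : T.picMatrix 0 6 = 0 := z 0 (by decide)
  have e_6_0 : T.picMatrix 6 0 = 0 := nt_pic_zero_symm T 0 6 e_0_6
  have e_1_6 : T.picMatrix 1 6 = 0 := z 1 (by decide)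
  have e_6_1 : T.picMatrix 6 1 = 0 := nt_pic_zero_symm T 1 6 e_1_6
  have e_2_6 : T.picMatrix 2 6 = 0 := z 2 (by decide)
  have e_6_2 : T.picMatrix 6 2 = 0 := nt_pic_zero_symm T 2 6 e_2_6
  have e_3_6 : T.picMatrix 3 6 = 0 := z 3 (by decide)
  have e_6_3 : T.picMatrix 6 3 = 0 := nt_pic_zero_symm T 3 6 e_3_6
  obtain ⟨hg0, hdA, hdP, hnn, hrow, hsym, hpair⟩ := ntgood_data T (by norm_num) hG
  have hm_0 := T.m_pos 0
  have hw_0 := T.w_pos 0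
  have hm_1 := T.m_pos 1
  have hw_1 := T.w_pos 1
  have hm_2 := T.m_pos 2
  have hw_2 := T.w_pos 2
  have hm_3 := T.m_pos 3
  have hw_3 := T.w_pos 3
  have hm_4 := T.m_pos 4
  have hw_4 := T.w_pos 4
  have hm_5 := T.m_pos 5
  have hw_5 := T.w_pos 5
  have hm_6 := T.m_pos 6
  have hw_6 := T.w_pos 6
  have hx_1 := hmax 1
  have hx_2 := hmax 2
  have hx_3 := hmax 3
  have hx_4 := hmax 4
  have hx_5 := hmax 5
  have hx_6 := hmax 6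
  have N_4_6 := mul_nonneg (hnn 4 6 (by decide)) (T.m_pos 6).le
  have N_6_4 := mul_nonneg (hnn 6 4 (by decide)) (T.m_pos 4).le
  have N_5_6 := mul_nonneg (hnn 5 6 (by decide)) (T.m_pos 6).le
  have N_6_5 := mul_nonneg (hnn 6 5 (by decide)) (T.m_pos 5).le
  have R_0 := hrow 0
  rw [Fin.sum_univ_seven, hdP 0, e_0_1, e_0_2, e_0_3, e_0_4, e_0_5, e_0_6] at R_0
  have R_1 := hrow 1
  rw [Fin.sum_univ_seven, hdP 1, e_1_0, e_1_2, e_1_3, e_1_4, e_1_5, e_1_6] at R_1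
  have R_2 := hrow 2
  rw [Fin.sum_univ_seven, hdP 2, e_2_0, e_2_1, e_2_3, e_2_4, e_2_5, e_2_6] at R_2
  have R_3 := hrow 3
  rw [Fin.sum_univ_seven, hdP 3, e_3_0, e_3_1, e_3_2, e_3_4, e_3_5, e_3_6] at R_3
  have R_4 := hrow 4
  rw [Fin.sum_univ_seven, hdP 4, e_4_0, e_4_1, e_4_2, e_4_3, e_4_5] at R_4
  have R_5 := hrow 5
  rw [Fin.sum_univ_seven, hdP 5, e_5_0, e_5_1, e_5_2, e_5_3, e_5_4] at R_5
  have R_6 := hrow 6
  rw [Fin.sum_univ_seven, hdP 6, e_6_0, e_6_1, e_6_2, e_6_3] at R_6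
  have S_0_1 := hsym 0 1
  rw [e_0_1, e_1_0] at S_0_1
  have S_0_2 := hsym 0 2
  rw [e_0_2, e_2_0] at S_0_2
  have S_0_3 := hsym 0 3
  rw [e_0_3, e_3_0] at S_0_3
  have S_0_4 := hsym 0 4
  rw [e_0_4, e_4_0] at S_0_4
  have S_0_5 := hsym 0 5
  rw [e_0_5, e_5_0] at S_0_5
  have S_0_6 := hsym 0 6
  rw [e_0_6, e_6_0] at S_0_6
  have S_1_2 := hsym 1 2
  rw [e_1_2, e_2_1] at S_1_2
  have S_1_3 := hsym 1 3
  rw [e_1_3, e_3_1] at S_1_3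
  have S_1_4 := hsym 1 4
  rw [e_1_4, e_4_1] at S_1_4
  have S_1_5 := hsym 1 5
  rw [e_1_5, e_5_1] at S_1_5
  have S_1_6 := hsym 1 6
  rw [e_1_6, e_6_1] at S_1_6
  have S_2_3 := hsym 2 3
  rw [e_2_3, e_3_2] at S_2_3
  have S_2_4 := hsym 2 4
  rw [e_2_4, e_4_2] at S_2_4
  have S_2_5 := hsym 2 5
  rw [e_2_5, e_5_2] at S_2_5
  have S_2_6 := hsym 2 6
  rw [e_2_6, e_6_2] at S_2_6
  have S_3_4 := hsym 3 4
  rw [e_3_4, e_4_3] at S_3_4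
  have S_3_5 := hsym 3 5
  rw [e_3_5, e_5_3] at S_3_5
  have S_3_6 := hsym 3 6
  rw [e_3_6, e_6_3] at S_3_6
  have S_4_5 := hsym 4 5
  rw [e_4_5, e_5_4] at S_4_5
  have S_4_6 := hsym 4 6
  have S_5_6 := hsym 5 6
  have Q_4 := hpair 4 6 (by decide)
  have Q_5 := hpair 5 6 (by decide)
  generalize e_4_6 : T.picMatrix 4 6 = x_4 at *
  generalize e_6_4 : T.picMatrix 6 4 = y_4 at *
  generalize e_5_6 : T.picMatrix 5 6 = x_5 at *
  generalize e_6_5 : T.picMatrix 6 5 = y_5 at *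
  rcases Q_4 with ⟨rfl, rfl⟩ | ⟨rfl, rfl⟩ | ⟨rfl, rfl⟩ | ⟨rfl, rfl⟩ | ⟨rfl, rfl⟩ | ⟨rfl, rfl⟩ | ⟨rfl, rfl⟩ | ⟨rfl, rfl⟩ | ⟨rfl, rfl⟩
  · exact absurd rfl hne
  · -- (4,6) = (1,1)
    rcases Q_5 with ⟨rfl, rfl⟩ | ⟨rfl, rfl⟩ | ⟨rfl, rfl⟩ | ⟨rfl, rfl⟩ | ⟨rfl, rfl⟩ | ⟨rfl, rfl⟩ | ⟨rfl, rfl⟩ | ⟨rfl, rfl⟩ | ⟨rfl, rfl⟩
    · -- (5,6) = (0,0)
      exact nd_880 T hG hmax e_0_1 e_0_2 e_0_3 e_0_4 e_0_5 e_0_6 e_1_0 e_1_2 e_1_3 e_1_4 e_1_5 e_1_6 e_2_0 e_2_1 e_2_3 e_2_4 e_2_5 e_2_6 e_3_0 e_3_1 e_3_2 e_3_4 e_3_5 e_3_6 e_4_0 e_4_1 e_4_2 e_4_3 e_4_5 e_4_6 e_5_0 e_5_1 e_5_2 e_5_3 e_5_4 e_5_6 e_6_0 e_6_1 e_6_2 e_6_3 e_6_4 e_6_5 cl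
    · -- (5,6) = (1,1)
      omega
    · -- (5,6) = (1,2)
      omega
    · -- (5,6) = (2,1)
      omega
    · -- (5,6) = (1,3)
      omega
    · -- (5,6) = (3,1)
      omega
    · -- (5,6) = (1,4)
      omega
    · -- (5,6) = (4,1)
      omega
    · -- (5,6) = (2,2)
      omega
  · omega
  · omega
  · omega
  · omega
  · omega
  · omega
  · omega

theorem nd_873 (T : Models.NumericalType 7)
    (hG : NTGood T)
    (hmax : ∀ j, T.m j ≤ T.m 0)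
    (e_0_1 : T.picMatrix 0 1 = 2)
    (e_0_2 : T.picMatrix 0 2 = 1)
    (e_0_3 : T.picMatrix 0 3 = 0)
    (e_0_4 : T.picMatrix 0 4 = 0)
    (e_0_5 : T.picMatrix 0 5 = 0)
    (e_1_0 : T.picMatrix 1 0 = 1)
    (e_1_2 : T.picMatrix 1 2 = 0)
    (e_1_3 : T.picMatrix 1 3 = 0)
    (e_1_4 : T.picMatrix 1 4 = 0)
    (e_1_5 : T.picMatrix 1 5 = 0)
    (e_2_0 : T.picMatrix 2 0 = 1)
    (e_2_1 : T.picMatrix 2 1 = 0)
    (e_2_3 : T.picMatrix 2 3 = 1)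
    (e_2_4 : T.picMatrix 2 4 = 0)
    (e_2_5 : T.picMatrix 2 5 = 0)
    (e_3_0 : T.picMatrix 3 0 = 0)
    (e_3_1 : T.picMatrix 3 1 = 0)
    (e_3_2 : T.picMatrix 3 2 = 1)
    (e_3_4 : T.picMatrix 3 4 = 1)
    (e_3_5 : T.picMatrix 3 5 = 0)
    (e_4_0 : T.picMatrix 4 0 = 0)
    (e_4_1 : T.picMatrix 4 1 = 0)
    (e_4_2 : T.picMatrix 4 2 = 0)
    (e_4_3 : T.picMatrix 4 3 = 1)
    (e_4_5 : T.picMatrix 4 5 = 1)
    (e_5_0 : T.picMatrix 5 0 = 0)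
    (e_5_1 : T.picMatrix 5 1 = 0)
    (e_5_2 : T.picMatrix 5 2 = 0)
    (e_5_3 : T.picMatrix 5 3 = 0)
    (e_5_4 : T.picMatrix 5 4 = 1)
    (cl : ∀ a b : Fin 7, a.val < 4 → 6 ≤ b.val → T.picMatrix a b = 0) :
    Goal T := by
  by_cases hc : ∀ b : Fin 7, 6 ≤ b.val → T.picMatrix 4 b = 0
  · exact nd_874 T hG hmax e_0_1 e_0_2 e_0_3 e_0_4 e_0_5 e_1_0 e_1_2 e_1_3 e_1_4 e_1_5 e_2_0 e_2_1 e_2_3 e_2_4 e_2_5 e_3_0 e_3_1 e_3_2 e_3_4 e_3_5 e_4_0 e_4_1 e_4_2 e_4_3 e_4_5 e_5_0 e_5_1 e_5_2 e_5_3 e_5_4 (nt_cl_succ T 6 4 4 rfl cl hc)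
  · obtain ⟨τ, hfix, cl', z, hne⟩ := nt_wlog_step T 6 (by norm_num) 4 (by norm_num) 4 (by decide) cl hc
    apply goal_relabel T τ
    refine ex_879 (ntRelabel T τ) (hG.relabel τ) ?_ ?_ ?_ ?_ ?_ ?_ ?_ ?_ ?_ ?_ ?_ ?_ ?_ ?_ ?_ ?_ ?_ ?_ ?_ ?_ ?_ ?_ ?_ ?_ ?_ ?_ ?_ ?_ ?_ ?_ ?_ cl' z hne
    · intro j
      show T.m (τ j) ≤ T.m (τ 0)
      rw [hfix 0 (by decide)]
      exact hmax _
    · show T.picMatrix (τ 0) (τ 1) = 2
      rw [hfix 0 (by decide), hfix 1 (by decide)]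
      exact e_0_1
    · show T.picMatrix (τ 0) (τ 2) = 1
      rw [hfix 0 (by decide), hfix 2 (by decide)]
      exact e_0_2
    · show T.picMatrix (τ 0) (τ 3) = 0
      rw [hfix 0 (by decide), hfix 3 (by decide)]
      exact e_0_3
    · show T.picMatrix (τ 0) (τ 4) = 0
      rw [hfix 0 (by decide), hfix 4 (by decide)]
      exact e_0_4
    · show T.picMatrix (τ 0) (τ 5) = 0
      rw [hfix 0 (by decide), hfix 5 (by decide)]
      exact e_0_5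
    · show T.picMatrix (τ 1) (τ 0) = 1
      rw [hfix 1 (by decide), hfix 0 (by decide)]
      exact e_1_0
    · show T.picMatrix (τ 1) (τ 2) = 0
      rw [hfix 1 (by decide), hfix 2 (by decide)]
      exact e_1_2
    · show T.picMatrix (τ 1) (τ 3) = 0
      rw [hfix 1 (by decide), hfix 3 (by decide)]
      exact e_1_3
    · show T.picMatrix (τ 1) (τ 4) = 0
      rw [hfix 1 (by decide), hfix 4 (by decide)]
      exact e_1_4
    · show T.picMatrix (τ 1) (τ 5) = 0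
      rw [hfix 1 (by decide), hfix 5 (by decide)]
      exact e_1_5
    · show T.picMatrix (τ 2) (τ 0) = 1
      rw [hfix 2 (by decide), hfix 0 (by decide)]
      exact e_2_0
    · show T.picMatrix (τ 2) (τ 1) = 0
      rw [hfix 2 (by decide), hfix 1 (by decide)]
      exact e_2_1
    · show T.picMatrix (τ 2) (τ 3) = 1
      rw [hfix 2 (by decide), hfix 3 (by decide)]
      exact e_2_3
    · show T.picMatrix (τ 2) (τ 4) = 0
      rw [hfix 2 (by decide), hfix 4 (by decide)]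
      exact e_2_4
    · show T.picMatrix (τ 2) (τ 5) = 0
      rw [hfix 2 (by decide), hfix 5 (by decide)]
      exact e_2_5
    · show T.picMatrix (τ 3) (τ 0) = 0
      rw [hfix 3 (by decide), hfix 0 (by decide)]
      exact e_3_0
    · show T.picMatrix (τ 3) (τ 1) = 0
      rw [hfix 3 (by decide), hfix 1 (by decide)]
      exact e_3_1
    · show T.picMatrix (τ 3) (τ 2) = 1
      rw [hfix 3 (by decide), hfix 2 (by decide)]
      exact e_3_2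
    · show T.picMatrix (τ 3) (τ 4) = 1
      rw [hfix 3 (by decide), hfix 4 (by decide)]
      exact e_3_4
    · show T.picMatrix (τ 3) (τ 5) = 0
      rw [hfix 3 (by decide), hfix 5 (by decide)]
      exact e_3_5
    · show T.picMatrix (τ 4) (τ 0) = 0
      rw [hfix 4 (by decide), hfix 0 (by decide)]
      exact e_4_0
    · show T.picMatrix (τ 4) (τ 1) = 0
      rw [hfix 4 (by decide), hfix 1 (by decide)]
      exact e_4_1
    · show T.picMatrix (τ 4) (τ 2) = 0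
      rw [hfix 4 (by decide), hfix 2 (by decide)]
      exact e_4_2
    · show T.picMatrix (τ 4) (τ 3) = 1
      rw [hfix 4 (by decide), hfix 3 (by decide)]
      exact e_4_3
    · show T.picMatrix (τ 4) (τ 5) = 1
      rw [hfix 4 (by decide), hfix 5 (by decide)]
      exact e_4_5
    · show T.picMatrix (τ 5) (τ 0) = 0
      rw [hfix 5 (by decide), hfix 0 (by decide)]
      exact e_5_0
    · show T.picMatrix (τ 5) (τ 1) = 0
      rw [hfix 5 (by decide), hfix 1 (by decide)]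
      exact e_5_1
    · show T.picMatrix (τ 5) (τ 2) = 0
      rw [hfix 5 (by decide), hfix 2 (by decide)]
      exact e_5_2
    · show T.picMatrix (τ 5) (τ 3) = 0
      rw [hfix 5 (by decide), hfix 3 (by decide)]
      exact e_5_3
    · show T.picMatrix (τ 5) (τ 4) = 1
      rw [hfix 5 (by decide), hfix 4 (by decide)]
      exact e_5_4

theorem nd_883 (T : Models.NumericalType 7)
    (hG : NTGood T)
    (hmax : ∀ j, T.m j ≤ T.m 0)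
    (e_0_1 : T.picMatrix 0 1 = 2)
    (e_0_2 : T.picMatrix 0 2 = 1)
    (e_0_3 : T.picMatrix 0 3 = 0)
    (e_0_4 : T.picMatrix 0 4 = 0)
    (e_0_5 : T.picMatrix 0 5 = 0)
    (e_1_0 : T.picMatrix 1 0 = 1)
    (e_1_2 : T.picMatrix 1 2 = 0)
    (e_1_3 : T.picMatrix 1 3 = 0)
    (e_1_4 : T.picMatrix 1 4 = 0)
    (e_1_5 : T.picMatrix 1 5 = 0)
    (e_2_0 : T.picMatrix 2 0 = 1)
    (e_2_1 : T.picMatrix 2 1 = 0)
    (e_2_3 : T.picMatrix 2 3 = 1)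
    (e_2_4 : T.picMatrix 2 4 = 0)
    (e_2_5 : T.picMatrix 2 5 = 0)
    (e_3_0 : T.picMatrix 3 0 = 0)
    (e_3_1 : T.picMatrix 3 1 = 0)
    (e_3_2 : T.picMatrix 3 2 = 1)
    (e_3_4 : T.picMatrix 3 4 = 1)
    (e_3_5 : T.picMatrix 3 5 = 0)
    (e_4_0 : T.picMatrix 4 0 = 0)
    (e_4_1 : T.picMatrix 4 1 = 0)
    (e_4_2 : T.picMatrix 4 2 = 0)
    (e_4_3 : T.picMatrix 4 3 = 1)
    (e_4_5 : T.picMatrix 4 5 = 1)
    (e_5_0 : T.picMatrix 5 0 = 0)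
    (e_5_1 : T.picMatrix 5 1 = 0)
    (e_5_2 : T.picMatrix 5 2 = 0)
    (e_5_3 : T.picMatrix 5 3 = 0)
    (e_5_4 : T.picMatrix 5 4 = 2)
    (cl : ∀ a b : Fin 7, a.val < 6 → 6 ≤ b.val → T.picMatrix a b = 0) :
    Goal T := by
  exact (nt_closed_false T 6 (by norm_num) (by norm_num) cl).elim

theorem ex_884 (T : Models.NumericalType 7)
    (hG : NTGood T)
    (hmax : ∀ j, T.m j ≤ T.m 0)
    (e_0_1 : T.picMatrix 0 1 = 2)
    (e_0_2 : T.picMatrix 0 2 = 1)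
    (e_0_3 : T.picMatrix 0 3 = 0)
    (e_0_4 : T.picMatrix 0 4 = 0)
    (e_0_5 : T.picMatrix 0 5 = 0)
    (e_1_0 : T.picMatrix 1 0 = 1)
    (e_1_2 : T.picMatrix 1 2 = 0)
    (e_1_3 : T.picMatrix 1 3 = 0)
    (e_1_4 : T.picMatrix 1 4 = 0)
    (e_1_5 : T.picMatrix 1 5 = 0)
    (e_2_0 : T.picMatrix 2 0 = 1)
    (e_2_1 : T.picMatrix 2 1 = 0)
    (e_2_3 : T.picMatrix 2 3 = 1)
    (e_2_4 : T.picMatrix 2 4 = 0)
    (e_2_5 : T.picMatrix 2 5 = 0)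
    (e_3_0 : T.picMatrix 3 0 = 0)
    (e_3_1 : T.picMatrix 3 1 = 0)
    (e_3_2 : T.picMatrix 3 2 = 1)
    (e_3_4 : T.picMatrix 3 4 = 1)
    (e_3_5 : T.picMatrix 3 5 = 0)
    (e_4_0 : T.picMatrix 4 0 = 0)
    (e_4_1 : T.picMatrix 4 1 = 0)
    (e_4_2 : T.picMatrix 4 2 = 0)
    (e_4_3 : T.picMatrix 4 3 = 1)
    (e_4_5 : T.picMatrix 4 5 = 1)
    (e_5_0 : T.picMatrix 5 0 = 0)
    (e_5_1 : T.picMatrix 5 1 = 0)
    (e_5_2 : T.picMatrix 5 2 = 0)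
    (e_5_3 : T.picMatrix 5 3 = 0)
    (e_5_4 : T.picMatrix 5 4 = 2)
    (cl : ∀ a b : Fin 7, a.val < 5 → 7 ≤ b.val → T.picMatrix a b = 0)
    (z : ∀ a : Fin 7, a.val < 5 → T.picMatrix a 6 = 0)
    (hne : T.picMatrix 5 6 ≠ 0) :
    Goal T := by
  have e_0_6 : T.picMatrix 0 6 = 0 := z 0 (by decide)
  have e_6_0 : T.picMatrix 6 0 = 0 := nt_pic_zero_symm T 0 6 e_0_6
  have e_1_6 : T.picMatrix 1 6 = 0 := z 1 (by decide)
  have e_6_1 : T.picMatrix 6 1 = 0 := nt_pic_zero_symm T 1 6 e_1_6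
  have e_2_6 : T.picMatrix 2 6 = 0 := z 2 (by decide)
  have e_6_2 : T.picMatrix 6 2 = 0 := nt_pic_zero_symm T 2 6 e_2_6
  have e_3_6 : T.picMatrix 3 6 = 0 := z 3 (by decide)
  have e_6_3 : T.picMatrix 6 3 = 0 := nt_pic_zero_symm T 3 6 e_3_6
  have e_4_6 : T.picMatrix 4 6 = 0 := z 4 (by decide)
  have e_6_4 : T.picMatrix 6 4 = 0 := nt_pic_zero_symm T 4 6 e_4_6
  obtain ⟨hg0, hdA, hdP, hnn, hrow, hsym, hpair⟩ := ntgood_data T (by norm_num) hG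
  have hm_0 := T.m_pos 0
  have hw_0 := T.w_pos 0
  have hm_1 := T.m_pos 1
  have hw_1 := T.w_pos 1
  have hm_2 := T.m_pos 2
  have hw_2 := T.w_pos 2
  have hm_3 := T.m_pos 3
  have hw_3 := T.w_pos 3
  have hm_4 := T.m_pos 4
  have hw_4 := T.w_pos 4
  have hm_5 := T.m_pos 5
  have hw_5 := T.w_pos 5
  have hm_6 := T.m_pos 6
  have hw_6 := T.w_pos 6
  have hx_1 := hmax 1
  have hx_2 := hmax 2
  have hx_3 := hmax 3
  have hx_4 := hmax 4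
  have hx_5 := hmax 5
  have hx_6 := hmax 6
  have N_5_6 := mul_nonneg (hnn 5 6 (by decide)) (T.m_pos 6).le
  have N_6_5 := mul_nonneg (hnn 6 5 (by decide)) (T.m_pos 5).le
  have R_0 := hrow 0
  rw [Fin.sum_univ_seven, hdP 0, e_0_1, e_0_2, e_0_3, e_0_4, e_0_5, e_0_6] at R_0
  have R_1 := hrow 1
  rw [Fin.sum_univ_seven, hdP 1, e_1_0, e_1_2, e_1_3, e_1_4, e_1_5, e_1_6] at R_1
  have R_2 := hrow 2
  rw [Fin.sum_univ_seven, hdP 2, e_2_0, e_2_1, e_2_3, e_2_4, e_2_5, e_2_6] at R_2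
  have R_3 := hrow 3
  rw [Fin.sum_univ_seven, hdP 3, e_3_0, e_3_1, e_3_2, e_3_4, e_3_5, e_3_6] at R_3
  have R_4 := hrow 4
  rw [Fin.sum_univ_seven, hdP 4, e_4_0, e_4_1, e_4_2, e_4_3, e_4_5, e_4_6] at R_4
  have R_5 := hrow 5
  rw [Fin.sum_univ_seven, hdP 5, e_5_0, e_5_1, e_5_2, e_5_3, e_5_4] at R_5
  have R_6 := hrow 6
  rw [Fin.sum_univ_seven, hdP 6, e_6_0, e_6_1, e_6_2, e_6_3, e_6_4] at R_6
  have S_0_1 := hsym 0 1
  rw [e_0_1, e_1_0] at S_0_1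
  have S_0_2 := hsym 0 2
  rw [e_0_2, e_2_0] at S_0_2
  have S_0_3 := hsym 0 3
  rw [e_0_3, e_3_0] at S_0_3
  have S_0_4 := hsym 0 4
  rw [e_0_4, e_4_0] at S_0_4
  have S_0_5 := hsym 0 5
  rw [e_0_5, e_5_0] at S_0_5
  have S_0_6 := hsym 0 6
  rw [e_0_6, e_6_0] at S_0_6
  have S_1_2 := hsym 1 2
  rw [e_1_2, e_2_1] at S_1_2
  have S_1_3 := hsym 1 3
  rw [e_1_3, e_3_1] at S_1_3
  have S_1_4 := hsym 1 4
  rw [e_1_4, e_4_1] at S_1_4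
  have S_1_5 := hsym 1 5
  rw [e_1_5, e_5_1] at S_1_5
  have S_1_6 := hsym 1 6
  rw [e_1_6, e_6_1] at S_1_6
  have S_2_3 := hsym 2 3
  rw [e_2_3, e_3_2] at S_2_3
  have S_2_4 := hsym 2 4
  rw [e_2_4, e_4_2] at S_2_4
  have S_2_5 := hsym 2 5
  rw [e_2_5, e_5_2] at S_2_5
  have S_2_6 := hsym 2 6
  rw [e_2_6, e_6_2] at S_2_6
  have S_3_4 := hsym 3 4
  rw [e_3_4, e_4_3] at S_3_4
  have S_3_5 := hsym 3 5
  rw [e_3_5, e_5_3] at S_3_5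
  have S_3_6 := hsym 3 6
  rw [e_3_6, e_6_3] at S_3_6
  have S_4_5 := hsym 4 5
  rw [e_4_5, e_5_4] at S_4_5
  have S_4_6 := hsym 4 6
  rw [e_4_6, e_6_4] at S_4_6
  have S_5_6 := hsym 5 6
  have Q_5 := hpair 5 6 (by decide)
  generalize e_5_6 : T.picMatrix 5 6 = x_5 at *
  generalize e_6_5 : T.picMatrix 6 5 = y_5 at *
  rcases Q_5 with ⟨rfl, rfl⟩ | ⟨rfl, rfl⟩ | ⟨rfl, rfl⟩ | ⟨rfl, rfl⟩ | ⟨rfl, rfl⟩ | ⟨rfl, rfl⟩ | ⟨rfl, rfl⟩ | ⟨rfl, rfl⟩ | ⟨rfl, rfl⟩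
  · exact absurd rfl hne
  · -- (5,6) = (1,1)
    omega
  · -- (5,6) = (1,2)
    omega
  · -- (5,6) = (2,1)
    omega
  · -- (5,6) = (1,3)
    omega
  · -- (5,6) = (3,1)
    omega
  · -- (5,6) = (1,4)
    omega
  · -- (5,6) = (4,1)
    omega
  · -- (5,6) = (2,2)
    omega

theorem nd_882 (T : Models.NumericalType 7)
    (hG : NTGood T)
    (hmax : ∀ j, T.m j ≤ T.m 0)
    (e_0_1 : T.picMatrix 0 1 = 2)
    (e_0_2 : T.picMatrix 0 2 = 1)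
    (e_0_3 : T.picMatrix 0 3 = 0)
    (e_0_4 : T.picMatrix 0 4 = 0)
    (e_0_5 : T.picMatrix 0 5 = 0)
    (e_1_0 : T.picMatrix 1 0 = 1)
    (e_1_2 : T.picMatrix 1 2 = 0)
    (e_1_3 : T.picMatrix 1 3 = 0)
    (e_1_4 : T.picMatrix 1 4 = 0)
    (e_1_5 : T.picMatrix 1 5 = 0)
    (e_2_0 : T.picMatrix 2 0 = 1)
    (e_2_1 : T.picMatrix 2 1 = 0)
    (e_2_3 : T.picMatrix 2 3 = 1)
    (e_2_4 : T.picMatrix 2 4 = 0)
    (e_2_5 : T.picMatrix 2 5 = 0)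
    (e_3_0 : T.picMatrix 3 0 = 0)
    (e_3_1 : T.picMatrix 3 1 = 0)
    (e_3_2 : T.picMatrix 3 2 = 1)
    (e_3_4 : T.picMatrix 3 4 = 1)
    (e_3_5 : T.picMatrix 3 5 = 0)
    (e_4_0 : T.picMatrix 4 0 = 0)
    (e_4_1 : T.picMatrix 4 1 = 0)
    (e_4_2 : T.picMatrix 4 2 = 0)
    (e_4_3 : T.picMatrix 4 3 = 1)
    (e_4_5 : T.picMatrix 4 5 = 1)
    (e_5_0 : T.picMatrix 5 0 = 0)
    (e_5_1 : T.picMatrix 5 1 = 0)
    (e_5_2 : T.picMatrix 5 2 = 0)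
    (e_5_3 : T.picMatrix 5 3 = 0)
    (e_5_4 : T.picMatrix 5 4 = 2)
    (cl : ∀ a b : Fin 7, a.val < 5 → 6 ≤ b.val → T.picMatrix a b = 0) :
    Goal T := by
  by_cases hc : ∀ b : Fin 7, 6 ≤ b.val → T.picMatrix 5 b = 0
  · exact nd_883 T hG hmax e_0_1 e_0_2 e_0_3 e_0_4 e_0_5 e_1_0 e_1_2 e_1_3 e_1_4 e_1_5 e_2_0 e_2_1 e_2_3 e_2_4 e_2_5 e_3_0 e_3_1 e_3_2 e_3_4 e_3_5 e_4_0 e_4_1 e_4_2 e_4_3 e_4_5 e_5_0 e_5_1 e_5_2 e_5_3 e_5_4 (nt_cl_succ T 6 5 5 rfl cl hc)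
  · obtain ⟨τ, hfix, cl', z, hne⟩ := nt_wlog_step T 6 (by norm_num) 5 (by norm_num) 5 (by decide) cl hc
    apply goal_relabel T τ
    refine ex_884 (ntRelabel T τ) (hG.relabel τ) ?_ ?_ ?_ ?_ ?_ ?_ ?_ ?_ ?_ ?_ ?_ ?_ ?_ ?_ ?_ ?_ ?_ ?_ ?_ ?_ ?_ ?_ ?_ ?_ ?_ ?_ ?_ ?_ ?_ ?_ ?_ cl' z hne
    · intro j
      show T.m (τ j) ≤ T.m (τ 0)
      rw [hfix 0 (by decide)]
      exact hmax _
    · show T.picMatrix (τ 0) (τ 1) = 2
      rw [hfix 0 (by decide), hfix 1 (by decide)]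
      exact e_0_1
    · show T.picMatrix (τ 0) (τ 2) = 1
      rw [hfix 0 (by decide), hfix 2 (by decide)]
      exact e_0_2
    · show T.picMatrix (τ 0) (τ 3) = 0
      rw [hfix 0 (by decide), hfix 3 (by decide)]
      exact e_0_3
    · show T.picMatrix (τ 0) (τ 4) = 0
      rw [hfix 0 (by decide), hfix 4 (by decide)]
      exact e_0_4
    · show T.picMatrix (τ 0) (τ 5) = 0
      rw [hfix 0 (by decide), hfix 5 (by decide)]
      exact e_0_5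
    · show T.picMatrix (τ 1) (τ 0) = 1
      rw [hfix 1 (by decide), hfix 0 (by decide)]
      exact e_1_0
    · show T.picMatrix (τ 1) (τ 2) = 0
      rw [hfix 1 (by decide), hfix 2 (by decide)]
      exact e_1_2
    · show T.picMatrix (τ 1) (τ 3) = 0
      rw [hfix 1 (by decide), hfix 3 (by decide)]
      exact e_1_3
    · show T.picMatrix (τ 1) (τ 4) = 0
      rw [hfix 1 (by decide), hfix 4 (by decide)]
      exact e_1_4
    · show T.picMatrix (τ 1) (τ 5) = 0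
      rw [hfix 1 (by decide), hfix 5 (by decide)]
      exact e_1_5
    · show T.picMatrix (τ 2) (τ 0) = 1
      rw [hfix 2 (by decide), hfix 0 (by decide)]
      exact e_2_0
    · show T.picMatrix (τ 2) (τ 1) = 0
      rw [hfix 2 (by decide), hfix 1 (by decide)]
      exact e_2_1
    · show T.picMatrix (τ 2) (τ 3) = 1
      rw [hfix 2 (by decide), hfix 3 (by decide)]
      exact e_2_3
    · show T.picMatrix (τ 2) (τ 4) = 0
      rw [hfix 2 (by decide), hfix 4 (by decide)]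
      exact e_2_4
    · show T.picMatrix (τ 2) (τ 5) = 0
      rw [hfix 2 (by decide), hfix 5 (by decide)]
      exact e_2_5
    · show T.picMatrix (τ 3) (τ 0) = 0
      rw [hfix 3 (by decide), hfix 0 (by decide)]
      exact e_3_0
    · show T.picMatrix (τ 3) (τ 1) = 0
      rw [hfix 3 (by decide), hfix 1 (by decide)]
      exact e_3_1
    · show T.picMatrix (τ 3) (τ 2) = 1
      rw [hfix 3 (by decide), hfix 2 (by decide)]
      exact e_3_2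
    · show T.picMatrix (τ 3) (τ 4) = 1
      rw [hfix 3 (by decide), hfix 4 (by decide)]
      exact e_3_4
    · show T.picMatrix (τ 3) (τ 5) = 0
      rw [hfix 3 (by decide), hfix 5 (by decide)]
      exact e_3_5
    · show T.picMatrix (τ 4) (τ 0) = 0
      rw [hfix 4 (by decide), hfix 0 (by decide)]
      exact e_4_0
    · show T.picMatrix (τ 4) (τ 1) = 0
      rw [hfix 4 (by decide), hfix 1 (by decide)]
      exact e_4_1
    · show T.picMatrix (τ 4) (τ 2) = 0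
      rw [hfix 4 (by decide), hfix 2 (by decide)]
      exact e_4_2
    · show T.picMatrix (τ 4) (τ 3) = 1
      rw [hfix 4 (by decide), hfix 3 (by decide)]
      exact e_4_3
    · show T.picMatrix (τ 4) (τ 5) = 1
      rw [hfix 4 (by decide), hfix 5 (by decide)]
      exact e_4_5
    · show T.picMatrix (τ 5) (τ 0) = 0
      rw [hfix 5 (by decide), hfix 0 (by decide)]
      exact e_5_0
    · show T.picMatrix (τ 5) (τ 1) = 0
      rw [hfix 5 (by decide), hfix 1 (by decide)]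
      exact e_5_1
    · show T.picMatrix (τ 5) (τ 2) = 0
      rw [hfix 5 (by decide), hfix 2 (by decide)]
      exact e_5_2
    · show T.picMatrix (τ 5) (τ 3) = 0
      rw [hfix 5 (by decide), hfix 3 (by decide)]
      exact e_5_3
    · show T.picMatrix (τ 5) (τ 4) = 2
      rw [hfix 5 (by decide), hfix 4 (by decide)]
      exact e_5_4

theorem ex_885 (T : Models.NumericalType 7)
    (hG : NTGood T)
    (hmax : ∀ j, T.m j ≤ T.m 0)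
    (e_0_1 : T.picMatrix 0 1 = 2)
    (e_0_2 : T.picMatrix 0 2 = 1)
    (e_0_3 : T.picMatrix 0 3 = 0)
    (e_0_4 : T.picMatrix 0 4 = 0)
    (e_0_5 : T.picMatrix 0 5 = 0)
    (e_1_0 : T.picMatrix 1 0 = 1)
    (e_1_2 : T.picMatrix 1 2 = 0)
    (e_1_3 : T.picMatrix 1 3 = 0)
    (e_1_4 : T.picMatrix 1 4 = 0)
    (e_1_5 : T.picMatrix 1 5 = 0)
    (e_2_0 : T.picMatrix 2 0 = 1)
    (e_2_1 : T.picMatrix 2 1 = 0)
    (e_2_3 : T.picMatrix 2 3 = 1)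
    (e_2_4 : T.picMatrix 2 4 = 0)
    (e_2_5 : T.picMatrix 2 5 = 0)
    (e_3_0 : T.picMatrix 3 0 = 0)
    (e_3_1 : T.picMatrix 3 1 = 0)
    (e_3_2 : T.picMatrix 3 2 = 1)
    (e_3_4 : T.picMatrix 3 4 = 1)
    (e_3_5 : T.picMatrix 3 5 = 0)
    (e_4_0 : T.picMatrix 4 0 = 0)
    (e_4_1 : T.picMatrix 4 1 = 0)
    (e_4_2 : T.picMatrix 4 2 = 0)
    (e_4_3 : T.picMatrix 4 3 = 1)
    (e_4_5 : T.picMatrix 4 5 = 1)
    (e_5_0 : T.picMatrix 5 0 = 0)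
    (e_5_1 : T.picMatrix 5 1 = 0)
    (e_5_2 : T.picMatrix 5 2 = 0)
    (e_5_3 : T.picMatrix 5 3 = 0)
    (e_5_4 : T.picMatrix 5 4 = 2)
    (cl : ∀ a b : Fin 7, a.val < 4 → 7 ≤ b.val → T.picMatrix a b = 0)
    (z : ∀ a : Fin 7, a.val < 4 → T.picMatrix a 6 = 0)
    (hne : T.picMatrix 4 6 ≠ 0) :
    Goal T := by
  have e_0_6 : T.picMatrix 0 6 = 0 := z 0 (by decide)
  have e_6_0 : T.picMatrix 6 0 = 0 := nt_pic_zero_symm T 0 6 e_0_6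
  have e_1_6 : T.picMatrix 1 6 = 0 := z 1 (by decide)
  have e_6_1 : T.picMatrix 6 1 = 0 := nt_pic_zero_symm T 1 6 e_1_6
  have e_2_6 : T.picMatrix 2 6 = 0 := z 2 (by decide)
  have e_6_2 : T.picMatrix 6 2 = 0 := nt_pic_zero_symm T 2 6 e_2_6
  have e_3_6 : T.picMatrix 3 6 = 0 := z 3 (by decide)
  have e_6_3 : T.picMatrix 6 3 = 0 := nt_pic_zero_symm T 3 6 e_3_6
  obtain ⟨hg0, hdA, hdP, hnn, hrow, hsym, hpair⟩ := ntgood_data T (by norm_num) hG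
  have hm_0 := T.m_pos 0
  have hw_0 := T.w_pos 0
  have hm_1 := T.m_pos 1
  have hw_1 := T.w_pos 1
  have hm_2 := T.m_pos 2
  have hw_2 := T.w_pos 2
  have hm_3 := T.m_pos 3
  have hw_3 := T.w_pos 3
  have hm_4 := T.m_pos 4
  have hw_4 := T.w_pos 4
  have hm_5 := T.m_pos 5
  have hw_5 := T.w_pos 5
  have hm_6 := T.m_pos 6
  have hw_6 := T.w_pos 6
  have hx_1 := hmax 1
  have hx_2 := hmax 2
  have hx_3 := hmax 3
  have hx_4 := hmax 4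
  have hx_5 := hmax 5
  have hx_6 := hmax 6
  have N_4_6 := mul_nonneg (hnn 4 6 (by decide)) (T.m_pos 6).le
  have N_6_4 := mul_nonneg (hnn 6 4 (by decide)) (T.m_pos 4).le
  have N_5_6 := mul_nonneg (hnn 5 6 (by decide)) (T.m_pos 6).le
  have N_6_5 := mul_nonneg (hnn 6 5 (by decide)) (T.m_pos 5).le
  have R_0 := hrow 0
  rw [Fin.sum_univ_seven, hdP 0, e_0_1, e_0_2, e_0_3, e_0_4, e_0_5, e_0_6] at R_0
  have R_1 := hrow 1
  rw [Fin.sum_univ_seven, hdP 1, e_1_0, e_1_2, e_1_3, e_1_4, e_1_5, e_1_6] at R_1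
  have R_2 := hrow 2
  rw [Fin.sum_univ_seven, hdP 2, e_2_0, e_2_1, e_2_3, e_2_4, e_2_5, e_2_6] at R_2
  have R_3 := hrow 3
  rw [Fin.sum_univ_seven, hdP 3, e_3_0, e_3_1, e_3_2, e_3_4, e_3_5, e_3_6] at R_3
  have R_4 := hrow 4
  rw [Fin.sum_univ_seven, hdP 4, e_4_0, e_4_1, e_4_2, e_4_3, e_4_5] at R_4
  have R_5 := hrow 5
  rw [Fin.sum_univ_seven, hdP 5, e_5_0, e_5_1, e_5_2, e_5_3, e_5_4] at R_5
  have R_6 := hrow 6
  rw [Fin.sum_univ_seven, hdP 6, e_6_0, e_6_1, e_6_2, e_6_3] at R_6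
  have S_0_1 := hsym 0 1
  rw [e_0_1, e_1_0] at S_0_1
  have S_0_2 := hsym 0 2
  rw [e_0_2, e_2_0] at S_0_2
  have S_0_3 := hsym 0 3
  rw [e_0_3, e_3_0] at S_0_3
  have S_0_4 := hsym 0 4
  rw [e_0_4, e_4_0] at S_0_4
  have S_0_5 := hsym 0 5
  rw [e_0_5, e_5_0] at S_0_5
  have S_0_6 := hsym 0 6
  rw [e_0_6, e_6_0] at S_0_6
  have S_1_2 := hsym 1 2
  rw [e_1_2, e_2_1] at S_1_2
  have S_1_3 := hsym 1 3
  rw [e_1_3, e_3_1] at S_1_3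
  have S_1_4 := hsym 1 4
  rw [e_1_4, e_4_1] at S_1_4
  have S_1_5 := hsym 1 5
  rw [e_1_5, e_5_1] at S_1_5
  have S_1_6 := hsym 1 6
  rw [e_1_6, e_6_1] at S_1_6
  have S_2_3 := hsym 2 3
  rw [e_2_3, e_3_2] at S_2_3
  have S_2_4 := hsym 2 4
  rw [e_2_4, e_4_2] at S_2_4
  have S_2_5 := hsym 2 5
  rw [e_2_5, e_5_2] at S_2_5
  have S_2_6 := hsym 2 6
  rw [e_2_6, e_6_2] at S_2_6
  have S_3_4 := hsym 3 4
  rw [e_3_4, e_4_3] at S_3_4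
  have S_3_5 := hsym 3 5
  rw [e_3_5, e_5_3] at S_3_5
  have S_3_6 := hsym 3 6
  rw [e_3_6, e_6_3] at S_3_6
  have S_4_5 := hsym 4 5
  rw [e_4_5, e_5_4] at S_4_5
  have S_4_6 := hsym 4 6
  have S_5_6 := hsym 5 6
  have Q_4 := hpair 4 6 (by decide)
  have Q_5 := hpair 5 6 (by decide)
  generalize e_4_6 : T.picMatrix 4 6 = x_4 at *
  generalize e_6_4 : T.picMatrix 6 4 = y_4 at *
  generalize e_5_6 : T.picMatrix 5 6 = x_5 at *
  generalize e_6_5 : T.picMatrix 6 5 = y_5 at *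
  rcases Q_4 with ⟨rfl, rfl⟩ | ⟨rfl, rfl⟩ | ⟨rfl, rfl⟩ | ⟨rfl, rfl⟩ | ⟨rfl, rfl⟩ | ⟨rfl, rfl⟩ | ⟨rfl, rfl⟩ | ⟨rfl, rfl⟩ | ⟨rfl, rfl⟩
  · exact absurd rfl hne
  · omega
  · omega
  · omega
  · omega
  · omega
  · omega
  · omega
  · omega

theorem nd_881 (T : Models.NumericalType 7)
    (hG : NTGood T)
    (hmax : ∀ j, T.m j ≤ T.m 0)
    (e_0_1 : T.picMatrix 0 1 = 2)
    (e_0_2 : T.picMatrix 0 2 = 1)
    (e_0_3 : T.picMatrix 0 3 = 0)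
    (e_0_4 : T.picMatrix 0 4 = 0)
    (e_0_5 : T.picMatrix 0 5 = 0)
    (e_1_0 : T.picMatrix 1 0 = 1)
    (e_1_2 : T.picMatrix 1 2 = 0)
    (e_1_3 : T.picMatrix 1 3 = 0)
    (e_1_4 : T.picMatrix 1 4 = 0)
    (e_1_5 : T.picMatrix 1 5 = 0)
    (e_2_0 : T.picMatrix 2 0 = 1)
    (e_2_1 : T.picMatrix 2 1 = 0)
    (e_2_3 : T.picMatrix 2 3 = 1)
    (e_2_4 : T.picMatrix 2 4 = 0)
    (e_2_5 : T.picMatrix 2 5 = 0)
    (e_3_0 : T.picMatrix 3 0 = 0)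
    (e_3_1 : T.picMatrix 3 1 = 0)
    (e_3_2 : T.picMatrix 3 2 = 1)
    (e_3_4 : T.picMatrix 3 4 = 1)
    (e_3_5 : T.picMatrix 3 5 = 0)
    (e_4_0 : T.picMatrix 4 0 = 0)
    (e_4_1 : T.picMatrix 4 1 = 0)
    (e_4_2 : T.picMatrix 4 2 = 0)
    (e_4_3 : T.picMatrix 4 3 = 1)
    (e_4_5 : T.picMatrix 4 5 = 1)
    (e_5_0 : T.picMatrix 5 0 = 0)
    (e_5_1 : T.picMatrix 5 1 = 0)
    (e_5_2 : T.picMatrix 5 2 = 0)
    (e_5_3 : T.picMatrix 5 3 = 0)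
    (e_5_4 : T.picMatrix 5 4 = 2)
    (cl : ∀ a b : Fin 7, a.val < 4 → 6 ≤ b.val → T.picMatrix a b = 0) :
    Goal T := by
  by_cases hc : ∀ b : Fin 7, 6 ≤ b.val → T.picMatrix 4 b = 0
  · exact nd_882 T hG hmax e_0_1 e_0_2 e_0_3 e_0_4 e_0_5 e_1_0 e_1_2 e_1_3 e_1_4 e_1_5 e_2_0 e_2_1 e_2_3 e_2_4 e_2_5 e_3_0 e_3_1 e_3_2 e_3_4 e_3_5 e_4_0 e_4_1 e_4_2 e_4_3 e_4_5 e_5_0 e_5_1 e_5_2 e_5_3 e_5_4 (nt_cl_succ T 6 4 4 rfl cl hc)
  · obtain ⟨τ, hfix, cl', z, hne⟩ := nt_wlog_step T 6 (by norm_num) 4 (by norm_num) 4 (by decide) cl hc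
    apply goal_relabel T τ
    refine ex_885 (ntRelabel T τ) (hG.relabel τ) ?_ ?_ ?_ ?_ ?_ ?_ ?_ ?_ ?_ ?_ ?_ ?_ ?_ ?_ ?_ ?_ ?_ ?_ ?_ ?_ ?_ ?_ ?_ ?_ ?_ ?_ ?_ ?_ ?_ ?_ ?_ cl' z hne
    · intro j
      show T.m (τ j) ≤ T.m (τ 0)
      rw [hfix 0 (by decide)]
      exact hmax _
    · show T.picMatrix (τ 0) (τ 1) = 2
      rw [hfix 0 (by decide), hfix 1 (by decide)]
      exact e_0_1
    · show T.picMatrix (τ 0) (τ 2) = 1
      rw [hfix 0 (by decide), hfix 2 (by decide)]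
      exact e_0_2
    · show T.picMatrix (τ 0) (τ 3) = 0
      rw [hfix 0 (by decide), hfix 3 (by decide)]
      exact e_0_3
    · show T.picMatrix (τ 0) (τ 4) = 0
      rw [hfix 0 (by decide), hfix 4 (by decide)]
      exact e_0_4
    · show T.picMatrix (τ 0) (τ 5) = 0
      rw [hfix 0 (by decide), hfix 5 (by decide)]
      exact e_0_5
    · show T.picMatrix (τ 1) (τ 0) = 1
      rw [hfix 1 (by decide), hfix 0 (by decide)]
      exact e_1_0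
    · show T.picMatrix (τ 1) (τ 2) = 0
      rw [hfix 1 (by decide), hfix 2 (by decide)]
      exact e_1_2
    · show T.picMatrix (τ 1) (τ 3) = 0
      rw [hfix 1 (by decide), hfix 3 (by decide)]
      exact e_1_3
    · show T.picMatrix (τ 1) (τ 4) = 0
      rw [hfix 1 (by decide), hfix 4 (by decide)]
      exact e_1_4
    · show T.picMatrix (τ 1) (τ 5) = 0
      rw [hfix 1 (by decide), hfix 5 (by decide)]
      exact e_1_5
    · show T.picMatrix (τ 2) (τ 0) = 1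
      rw [hfix 2 (by decide), hfix 0 (by decide)]
      exact e_2_0
    · show T.picMatrix (τ 2) (τ 1) = 0
      rw [hfix 2 (by decide), hfix 1 (by decide)]
      exact e_2_1
    · show T.picMatrix (τ 2) (τ 3) = 1
      rw [hfix 2 (by decide), hfix 3 (by decide)]
      exact e_2_3
    · show T.picMatrix (τ 2) (τ 4) = 0
      rw [hfix 2 (by decide), hfix 4 (by decide)]
      exact e_2_4
    · show T.picMatrix (τ 2) (τ 5) = 0
      rw [hfix 2 (by decide), hfix 5 (by decide)]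
      exact e_2_5
    · show T.picMatrix (τ 3) (τ 0) = 0
      rw [hfix 3 (by decide), hfix 0 (by decide)]
      exact e_3_0
    · show T.picMatrix (τ 3) (τ 1) = 0
      rw [hfix 3 (by decide), hfix 1 (by decide)]
      exact e_3_1
    · show T.picMatrix (τ 3) (τ 2) = 1
      rw [hfix 3 (by decide), hfix 2 (by decide)]
      exact e_3_2
    · show T.picMatrix (τ 3) (τ 4) = 1
      rw [hfix 3 (by decide), hfix 4 (by decide)]
      exact e_3_4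
    · show T.picMatrix (τ 3) (τ 5) = 0
      rw [hfix 3 (by decide), hfix 5 (by decide)]
      exact e_3_5
    · show T.picMatrix (τ 4) (τ 0) = 0
      rw [hfix 4 (by decide), hfix 0 (by decide)]
      exact e_4_0
    · show T.picMatrix (τ 4) (τ 1) = 0
      rw [hfix 4 (by decide), hfix 1 (by decide)]
      exact e_4_1
    · show T.picMatrix (τ 4) (τ 2) = 0
      rw [hfix 4 (by decide), hfix 2 (by decide)]
      exact e_4_2
    · show T.picMatrix (τ 4) (τ 3) = 1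
      rw [hfix 4 (by decide), hfix 3 (by decide)]
      exact e_4_3
    · show T.picMatrix (τ 4) (τ 5) = 1
      rw [hfix 4 (by decide), hfix 5 (by decide)]
      exact e_4_5
    · show T.picMatrix (τ 5) (τ 0) = 0
      rw [hfix 5 (by decide), hfix 0 (by decide)]
      exact e_5_0
    · show T.picMatrix (τ 5) (τ 1) = 0
      rw [hfix 5 (by decide), hfix 1 (by decide)]
      exact e_5_1
    · show T.picMatrix (τ 5) (τ 2) = 0
      rw [hfix 5 (by decide), hfix 2 (by decide)]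
      exact e_5_2
    · show T.picMatrix (τ 5) (τ 3) = 0
      rw [hfix 5 (by decide), hfix 3 (by decide)]
      exact e_5_3
    · show T.picMatrix (τ 5) (τ 4) = 2
      rw [hfix 5 (by decide), hfix 4 (by decide)]
      exact e_5_4

theorem nd_888 (T : Models.NumericalType 7)
    (hG : NTGood T)
    (hmax : ∀ j, T.m j ≤ T.m 0)
    (e_0_1 : T.picMatrix 0 1 = 2)
    (e_0_2 : T.picMatrix 0 2 = 1)
    (e_0_3 : T.picMatrix 0 3 = 0)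
    (e_0_4 : T.picMatrix 0 4 = 0)
    (e_0_5 : T.picMatrix 0 5 = 0)
    (e_1_0 : T.picMatrix 1 0 = 1)
    (e_1_2 : T.picMatrix 1 2 = 0)
    (e_1_3 : T.picMatrix 1 3 = 0)
    (e_1_4 : T.picMatrix 1 4 = 0)
    (e_1_5 : T.picMatrix 1 5 = 0)
    (e_2_0 : T.picMatrix 2 0 = 1)
    (e_2_1 : T.picMatrix 2 1 = 0)
    (e_2_3 : T.picMatrix 2 3 = 1)
    (e_2_4 : T.picMatrix 2 4 = 0)
    (e_2_5 : T.picMatrix 2 5 = 0)
    (e_3_0 : T.picMatrix 3 0 = 0)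
    (e_3_1 : T.picMatrix 3 1 = 0)
    (e_3_2 : T.picMatrix 3 2 = 1)
    (e_3_4 : T.picMatrix 3 4 = 1)
    (e_3_5 : T.picMatrix 3 5 = 0)
    (e_4_0 : T.picMatrix 4 0 = 0)
    (e_4_1 : T.picMatrix 4 1 = 0)
    (e_4_2 : T.picMatrix 4 2 = 0)
    (e_4_3 : T.picMatrix 4 3 = 1)
    (e_4_5 : T.picMatrix 4 5 = 2)
    (e_5_0 : T.picMatrix 5 0 = 0)
    (e_5_1 : T.picMatrix 5 1 = 0)
    (e_5_2 : T.picMatrix 5 2 = 0)
    (e_5_3 : T.picMatrix 5 3 = 0)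
    (e_5_4 : T.picMatrix 5 4 = 1)
    (cl : ∀ a b : Fin 7, a.val < 6 → 6 ≤ b.val → T.picMatrix a b = 0) :
    Goal T := by
  exact (nt_closed_false T 6 (by norm_num) (by norm_num) cl).elim

theorem ex_889 (T : Models.NumericalType 7)
    (hG : NTGood T)
    (hmax : ∀ j, T.m j ≤ T.m 0)
    (e_0_1 : T.picMatrix 0 1 = 2)
    (e_0_2 : T.picMatrix 0 2 = 1)
    (e_0_3 : T.picMatrix 0 3 = 0)
    (e_0_4 : T.picMatrix 0 4 = 0)
    (e_0_5 : T.picMatrix 0 5 = 0)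
    (e_1_0 : T.picMatrix 1 0 = 1)
    (e_1_2 : T.picMatrix 1 2 = 0)
    (e_1_3 : T.picMatrix 1 3 = 0)
    (e_1_4 : T.picMatrix 1 4 = 0)
    (e_1_5 : T.picMatrix 1 5 = 0)
    (e_2_0 : T.picMatrix 2 0 = 1)
    (e_2_1 : T.picMatrix 2 1 = 0)
    (e_2_3 : T.picMatrix 2 3 = 1)
    (e_2_4 : T.picMatrix 2 4 = 0)
    (e_2_5 : T.picMatrix 2 5 = 0)
    (e_3_0 : T.picMatrix 3 0 = 0)
    (e_3_1 : T.picMatrix 3 1 = 0)
    (e_3_2 : T.picMatrix 3 2 = 1)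
    (e_3_4 : T.picMatrix 3 4 = 1)
    (e_3_5 : T.picMatrix 3 5 = 0)
    (e_4_0 : T.picMatrix 4 0 = 0)
    (e_4_1 : T.picMatrix 4 1 = 0)
    (e_4_2 : T.picMatrix 4 2 = 0)
    (e_4_3 : T.picMatrix 4 3 = 1)
    (e_4_5 : T.picMatrix 4 5 = 2)
    (e_5_0 : T.picMatrix 5 0 = 0)
    (e_5_1 : T.picMatrix 5 1 = 0)
    (e_5_2 : T.picMatrix 5 2 = 0)
    (e_5_3 : T.picMatrix 5 3 = 0)
    (e_5_4 : T.picMatrix 5 4 = 1)
    (cl : ∀ a b : Fin 7, a.val < 5 → 7 ≤ b.val → T.picMatrix a b = 0)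
    (z : ∀ a : Fin 7, a.val < 5 → T.picMatrix a 6 = 0)
    (hne : T.picMatrix 5 6 ≠ 0) :
    Goal T := by
  have e_0_6 : T.picMatrix 0 6 = 0 := z 0 (by decide)
  have e_6_0 : T.picMatrix 6 0 = 0 := nt_pic_zero_symm T 0 6 e_0_6
  have e_1_6 : T.picMatrix 1 6 = 0 := z 1 (by decide)
  have e_6_1 : T.picMatrix 6 1 = 0 := nt_pic_zero_symm T 1 6 e_1_6
  have e_2_6 : T.picMatrix 2 6 = 0 := z 2 (by decide)
  have e_6_2 : T.picMatrix 6 2 = 0 := nt_pic_zero_symm T 2 6 e_2_6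
  have e_3_6 : T.picMatrix 3 6 = 0 := z 3 (by decide)
  have e_6_3 : T.picMatrix 6 3 = 0 := nt_pic_zero_symm T 3 6 e_3_6
  have e_4_6 : T.picMatrix 4 6 = 0 := z 4 (by decide)
  have e_6_4 : T.picMatrix 6 4 = 0 := nt_pic_zero_symm T 4 6 e_4_6
  obtain ⟨hg0, hdA, hdP, hnn, hrow, hsym, hpair⟩ := ntgood_data T (by norm_num) hG
  have hm_0 := T.m_pos 0
  have hw_0 := T.w_pos 0
  have hm_1 := T.m_pos 1
  have hw_1 := T.w_pos 1
  have hm_2 := T.m_pos 2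
  have hw_2 := T.w_pos 2
  have hm_3 := T.m_pos 3
  have hw_3 := T.w_pos 3
  have hm_4 := T.m_pos 4
  have hw_4 := T.w_pos 4
  have hm_5 := T.m_pos 5
  have hw_5 := T.w_pos 5
  have hm_6 := T.m_pos 6
  have hw_6 := T.w_pos 6
  have hx_1 := hmax 1
  have hx_2 := hmax 2
  have hx_3 := hmax 3
  have hx_4 := hmax 4
  have hx_5 := hmax 5
  have hx_6 := hmax 6
  have N_5_6 := mul_nonneg (hnn 5 6 (by decide)) (T.m_pos 6).le
  have N_6_5 := mul_nonneg (hnn 6 5 (by decide)) (T.m_pos 5).le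
  have R_0 := hrow 0
  rw [Fin.sum_univ_seven, hdP 0, e_0_1, e_0_2, e_0_3, e_0_4, e_0_5, e_0_6] at R_0
  have R_1 := hrow 1
  rw [Fin.sum_univ_seven, hdP 1, e_1_0, e_1_2, e_1_3, e_1_4, e_1_5, e_1_6] at R_1
  have R_2 := hrow 2
  rw [Fin.sum_univ_seven, hdP 2, e_2_0, e_2_1, e_2_3, e_2_4, e_2_5, e_2_6] at R_2
  have R_3 := hrow 3
  rw [Fin.sum_univ_seven, hdP 3, e_3_0, e_3_1, e_3_2, e_3_4, e_3_5, e_3_6] at R_3
  have R_4 := hrow 4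
  rw [Fin.sum_univ_seven, hdP 4, e_4_0, e_4_1, e_4_2, e_4_3, e_4_5, e_4_6] at R_4
  have R_5 := hrow 5
  rw [Fin.sum_univ_seven, hdP 5, e_5_0, e_5_1, e_5_2, e_5_3, e_5_4] at R_5
  have R_6 := hrow 6
  rw [Fin.sum_univ_seven, hdP 6, e_6_0, e_6_1, e_6_2, e_6_3, e_6_4] at R_6
  have S_0_1 := hsym 0 1
  rw [e_0_1, e_1_0] at S_0_1
  have S_0_2 := hsym 0 2
  rw [e_0_2, e_2_0] at S_0_2
  have S_0_3 := hsym 0 3
  rw [e_0_3, e_3_0] at S_0_3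
  have S_0_4 := hsym 0 4
  rw [e_0_4, e_4_0] at S_0_4
  have S_0_5 := hsym 0 5
  rw [e_0_5, e_5_0] at S_0_5
  have S_0_6 := hsym 0 6
  rw [e_0_6, e_6_0] at S_0_6
  have S_1_2 := hsym 1 2
  rw [e_1_2, e_2_1] at S_1_2
  have S_1_3 := hsym 1 3
  rw [e_1_3, e_3_1] at S_1_3
  have S_1_4 := hsym 1 4
  rw [e_1_4, e_4_1] at S_1_4
  have S_1_5 := hsym 1 5
  rw [e_1_5, e_5_1] at S_1_5
  have S_1_6 := hsym 1 6
  rw [e_1_6, e_6_1] at S_1_6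
  have S_2_3 := hsym 2 3
  rw [e_2_3, e_3_2] at S_2_3
  have S_2_4 := hsym 2 4
  rw [e_2_4, e_4_2] at S_2_4
  have S_2_5 := hsym 2 5
  rw [e_2_5, e_5_2] at S_2_5
  have S_2_6 := hsym 2 6
  rw [e_2_6, e_6_2] at S_2_6
  have S_3_4 := hsym 3 4
  rw [e_3_4, e_4_3] at S_3_4
  have S_3_5 := hsym 3 5
  rw [e_3_5, e_5_3] at S_3_5
  have S_3_6 := hsym 3 6
  rw [e_3_6, e_6_3] at S_3_6
  have S_4_5 := hsym 4 5
  rw [e_4_5, e_5_4] at S_4_5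
  have S_4_6 := hsym 4 6
  rw [e_4_6, e_6_4] at S_4_6
  have S_5_6 := hsym 5 6
  have Q_5 := hpair 5 6 (by decide)
  generalize e_5_6 : T.picMatrix 5 6 = x_5 at *
  generalize e_6_5 : T.picMatrix 6 5 = y_5 at *
  rcases Q_5 with ⟨rfl, rfl⟩ | ⟨rfl, rfl⟩ | ⟨rfl, rfl⟩ | ⟨rfl, rfl⟩ | ⟨rfl, rfl⟩ | ⟨rfl, rfl⟩ | ⟨rfl, rfl⟩ | ⟨rfl, rfl⟩ | ⟨rfl, rfl⟩
  · exact absurd rfl hne
  · -- (5,6) = (1,1)
    omega
  · -- (5,6) = (1,2)
    omega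
  · -- (5,6) = (2,1)
    omega
  · -- (5,6) = (1,3)
    omega
  · -- (5,6) = (3,1)
    omega
  · -- (5,6) = (1,4)
    omega
  · -- (5,6) = (4,1)
    omega
  · -- (5,6) = (2,2)
    omega

theorem nd_887 (T : Models.NumericalType 7)
    (hG : NTGood T)
    (hmax : ∀ j, T.m j ≤ T.m 0)
    (e_0_1 : T.picMatrix 0 1 = 2)
    (e_0_2 : T.picMatrix 0 2 = 1)
    (e_0_3 : T.picMatrix 0 3 = 0)
    (e_0_4 : T.picMatrix 0 4 = 0)
    (e_0_5 : T.picMatrix 0 5 = 0)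
    (e_1_0 : T.picMatrix 1 0 = 1)
    (e_1_2 : T.picMatrix 1 2 = 0)
    (e_1_3 : T.picMatrix 1 3 = 0)
    (e_1_4 : T.picMatrix 1 4 = 0)
    (e_1_5 : T.picMatrix 1 5 = 0)
    (e_2_0 : T.picMatrix 2 0 = 1)
    (e_2_1 : T.picMatrix 2 1 = 0)
    (e_2_3 : T.picMatrix 2 3 = 1)
    (e_2_4 : T.picMatrix 2 4 = 0)
    (e_2_5 : T.picMatrix 2 5 = 0)
    (e_3_0 : T.picMatrix 3 0 = 0)
    (e_3_1 : T.picMatrix 3 1 = 0)
    (e_3_2 : T.picMatrix 3 2 = 1)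
    (e_3_4 : T.picMatrix 3 4 = 1)
    (e_3_5 : T.picMatrix 3 5 = 0)
    (e_4_0 : T.picMatrix 4 0 = 0)
    (e_4_1 : T.picMatrix 4 1 = 0)
    (e_4_2 : T.picMatrix 4 2 = 0)
    (e_4_3 : T.picMatrix 4 3 = 1)
    (e_4_5 : T.picMatrix 4 5 = 2)
    (e_5_0 : T.picMatrix 5 0 = 0)
    (e_5_1 : T.picMatrix 5 1 = 0)
    (e_5_2 : T.picMatrix 5 2 = 0)
    (e_5_3 : T.picMatrix 5 3 = 0)
    (e_5_4 : T.picMatrix 5 4 = 1)
    (cl : ∀ a b : Fin 7, a.val < 5 → 6 ≤ b.val → T.picMatrix a b = 0) :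
    Goal T := by
  by_cases hc : ∀ b : Fin 7, 6 ≤ b.val → T.picMatrix 5 b = 0
  · exact nd_888 T hG hmax e_0_1 e_0_2 e_0_3 e_0_4 e_0_5 e_1_0 e_1_2 e_1_3 e_1_4 e_1_5 e_2_0 e_2_1 e_2_3 e_2_4 e_2_5 e_3_0 e_3_1 e_3_2 e_3_4 e_3_5 e_4_0 e_4_1 e_4_2 e_4_3 e_4_5 e_5_0 e_5_1 e_5_2 e_5_3 e_5_4 (nt_cl_succ T 6 5 5 rfl cl hc)
  · obtain ⟨τ, hfix, cl', z, hne⟩ := nt_wlog_step T 6 (by norm_num) 5 (by norm_num) 5 (by decide) cl hc
    apply goal_relabel T τ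
    refine ex_889 (ntRelabel T τ) (hG.relabel τ) ?_ ?_ ?_ ?_ ?_ ?_ ?_ ?_ ?_ ?_ ?_ ?_ ?_ ?_ ?_ ?_ ?_ ?_ ?_ ?_ ?_ ?_ ?_ ?_ ?_ ?_ ?_ ?_ ?_ ?_ ?_ cl' z hne
    · intro j
      show T.m (τ j) ≤ T.m (τ 0)
      rw [hfix 0 (by decide)]
      exact hmax _
    · show T.picMatrix (τ 0) (τ 1) = 2
      rw [hfix 0 (by decide), hfix 1 (by decide)]
      exact e_0_1
    · show T.picMatrix (τ 0) (τ 2) = 1
      rw [hfix 0 (by decide), hfix 2 (by decide)]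
      exact e_0_2
    · show T.picMatrix (τ 0) (τ 3) = 0
      rw [hfix 0 (by decide), hfix 3 (by decide)]
      exact e_0_3
    · show T.picMatrix (τ 0) (τ 4) = 0
      rw [hfix 0 (by decide), hfix 4 (by decide)]
      exact e_0_4
    · show T.picMatrix (τ 0) (τ 5) = 0
      rw [hfix 0 (by decide), hfix 5 (by decide)]
      exact e_0_5
    · show T.picMatrix (τ 1) (τ 0) = 1
      rw [hfix 1 (by decide), hfix 0 (by decide)]
      exact e_1_0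
    · show T.picMatrix (τ 1) (τ 2) = 0
      rw [hfix 1 (by decide), hfix 2 (by decide)]
      exact e_1_2
    · show T.picMatrix (τ 1) (τ 3) = 0
      rw [hfix 1 (by decide), hfix 3 (by decide)]
      exact e_1_3
    · show T.picMatrix (τ 1) (τ 4) = 0
      rw [hfix 1 (by decide), hfix 4 (by decide)]
      exact e_1_4
    · show T.picMatrix (τ 1) (τ 5) = 0
      rw [hfix 1 (by decide), hfix 5 (by decide)]
      exact e_1_5
    · show T.picMatrix (τ 2) (τ 0) = 1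
      rw [hfix 2 (by decide), hfix 0 (by decide)]
      exact e_2_0
    · show T.picMatrix (τ 2) (τ 1) = 0
      rw [hfix 2 (by decide), hfix 1 (by decide)]
      exact e_2_1
    · show T.picMatrix (τ 2) (τ 3) = 1
      rw [hfix 2 (by decide), hfix 3 (by decide)]
      exact e_2_3
    · show T.picMatrix (τ 2) (τ 4) = 0
      rw [hfix 2 (by decide), hfix 4 (by decide)]
      exact e_2_4
    · show T.picMatrix (τ 2) (τ 5) = 0
      rw [hfix 2 (by decide), hfix 5 (by decide)]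
      exact e_2_5
    · show T.picMatrix (τ 3) (τ 0) = 0
      rw [hfix 3 (by decide), hfix 0 (by decide)]
      exact e_3_0
    · show T.picMatrix (τ 3) (τ 1) = 0
      rw [hfix 3 (by decide), hfix 1 (by decide)]
      exact e_3_1
    · show T.picMatrix (τ 3) (τ 2) = 1
      rw [hfix 3 (by decide), hfix 2 (by decide)]
      exact e_3_2
    · show T.picMatrix (τ 3) (τ 4) = 1
      rw [hfix 3 (by decide), hfix 4 (by decide)]
      exact e_3_4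
    · show T.picMatrix (τ 3) (τ 5) = 0
      rw [hfix 3 (by decide), hfix 5 (by decide)]
      exact e_3_5
    · show T.picMatrix (τ 4) (τ 0) = 0
      rw [hfix 4 (by decide), hfix 0 (by decide)]
      exact e_4_0
    · show T.picMatrix (τ 4) (τ 1) = 0
      rw [hfix 4 (by decide), hfix 1 (by decide)]
      exact e_4_1
    · show T.picMatrix (τ 4) (τ 2) = 0
      rw [hfix 4 (by decide), hfix 2 (by decide)]
      exact e_4_2
    · show T.picMatrix (τ 4) (τ 3) = 1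
      rw [hfix 4 (by decide), hfix 3 (by decide)]
      exact e_4_3
    · show T.picMatrix (τ 4) (τ 5) = 2
      rw [hfix 4 (by decide), hfix 5 (by decide)]
      exact e_4_5
    · show T.picMatrix (τ 5) (τ 0) = 0
      rw [hfix 5 (by decide), hfix 0 (by decide)]
      exact e_5_0
    · show T.picMatrix (τ 5) (τ 1) = 0
      rw [hfix 5 (by decide), hfix 1 (by decide)]
      exact e_5_1
    · show T.picMatrix (τ 5) (τ 2) = 0
      rw [hfix 5 (by decide), hfix 2 (by decide)]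
      exact e_5_2
    · show T.picMatrix (τ 5) (τ 3) = 0
      rw [hfix 5 (by decide), hfix 3 (by decide)]
      exact e_5_3
    · show T.picMatrix (τ 5) (τ 4) = 1
      rw [hfix 5 (by decide), hfix 4 (by decide)]
      exact e_5_4

theorem ex_890 (T : Models.NumericalType 7)
    (hG : NTGood T)
    (hmax : ∀ j, T.m j ≤ T.m 0)
    (e_0_1 : T.picMatrix 0 1 = 2)
    (e_0_2 : T.picMatrix 0 2 = 1)
    (e_0_3 : T.picMatrix 0 3 = 0)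
    (e_0_4 : T.picMatrix 0 4 = 0)
    (e_0_5 : T.picMatrix 0 5 = 0)
    (e_1_0 : T.picMatrix 1 0 = 1)
    (e_1_2 : T.picMatrix 1 2 = 0)
    (e_1_3 : T.picMatrix 1 3 = 0)
    (e_1_4 : T.picMatrix 1 4 = 0)
    (e_1_5 : T.picMatrix 1 5 = 0)
    (e_2_0 : T.picMatrix 2 0 = 1)
    (e_2_1 : T.picMatrix 2 1 = 0)
    (e_2_3 : T.picMatrix 2 3 = 1)
    (e_2_4 : T.picMatrix 2 4 = 0)
    (e_2_5 : T.picMatrix 2 5 = 0)
    (e_3_0 : T.picMatrix 3 0 = 0)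
    (e_3_1 : T.picMatrix 3 1 = 0)
    (e_3_2 : T.picMatrix 3 2 = 1)
    (e_3_4 : T.picMatrix 3 4 = 1)
    (e_3_5 : T.picMatrix 3 5 = 0)
    (e_4_0 : T.picMatrix 4 0 = 0)
    (e_4_1 : T.picMatrix 4 1 = 0)
    (e_4_2 : T.picMatrix 4 2 = 0)
    (e_4_3 : T.picMatrix 4 3 = 1)
    (e_4_5 : T.picMatrix 4 5 = 2)
    (e_5_0 : T.picMatrix 5 0 = 0)
    (e_5_1 : T.picMatrix 5 1 = 0)
    (e_5_2 : T.picMatrix 5 2 = 0)
    (e_5_3 : T.picMatrix 5 3 = 0)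
    (e_5_4 : T.picMatrix 5 4 = 1)
    (cl : ∀ a b : Fin 7, a.val < 4 → 7 ≤ b.val → T.picMatrix a b = 0)
    (z : ∀ a : Fin 7, a.val < 4 → T.picMatrix a 6 = 0)
    (hne : T.picMatrix 4 6 ≠ 0) :
    Goal T := by
  have e_0_6 : T.picMatrix 0 6 = 0 := z 0 (by decide)
  have e_6_0 : T.picMatrix 6 0 = 0 := nt_pic_zero_symm T 0 6 e_0_6
  have e_1_6 : T.picMatrix 1 6 = 0 := z 1 (by decide)
  have e_6_1 : T.picMatrix 6 1 = 0 := nt_pic_zero_symm T 1 6 e_1_6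
  have e_2_6 : T.picMatrix 2 6 = 0 := z 2 (by decide)
  have e_6_2 : T.picMatrix 6 2 = 0 := nt_pic_zero_symm T 2 6 e_2_6
  have e_3_6 : T.picMatrix 3 6 = 0 := z 3 (by decide)
  have e_6_3 : T.picMatrix 6 3 = 0 := nt_pic_zero_symm T 3 6 e_3_6
  obtain ⟨hg0, hdA, hdP, hnn, hrow, hsym, hpair⟩ := ntgood_data T (by norm_num) hG
  have hm_0 := T.m_pos 0
  have hw_0 := T.w_pos 0
  have hm_1 := T.m_pos 1
  have hw_1 := T.w_pos 1
  have hm_2 := T.m_pos 2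
  have hw_2 := T.w_pos 2
  have hm_3 := T.m_pos 3
  have hw_3 := T.w_pos 3
  have hm_4 := T.m_pos 4
  have hw_4 := T.w_pos 4
  have hm_5 := T.m_pos 5
  have hw_5 := T.w_pos 5
  have hm_6 := T.m_pos 6
  have hw_6 := T.w_pos 6
  have hx_1 := hmax 1
  have hx_2 := hmax 2
  have hx_3 := hmax 3
  have hx_4 := hmax 4
  have hx_5 := hmax 5
  have hx_6 := hmax 6
  have N_4_6 := mul_nonneg (hnn 4 6 (by decide)) (T.m_pos 6).le
  have N_6_4 := mul_nonneg (hnn 6 4 (by decide)) (T.m_pos 4).le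
  have N_5_6 := mul_nonneg (hnn 5 6 (by decide)) (T.m_pos 6).le
  have N_6_5 := mul_nonneg (hnn 6 5 (by decide)) (T.m_pos 5).le
  have R_0 := hrow 0
  rw [Fin.sum_univ_seven, hdP 0, e_0_1, e_0_2, e_0_3, e_0_4, e_0_5, e_0_6] at R_0
  have R_1 := hrow 1
  rw [Fin.sum_univ_seven, hdP 1, e_1_0, e_1_2, e_1_3, e_1_4, e_1_5, e_1_6] at R_1
  have R_2 := hrow 2
  rw [Fin.sum_univ_seven, hdP 2, e_2_0, e_2_1, e_2_3, e_2_4, e_2_5, e_2_6] at R_2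
  have R_3 := hrow 3
  rw [Fin.sum_univ_seven, hdP 3, e_3_0, e_3_1, e_3_2, e_3_4, e_3_5, e_3_6] at R_3
  have R_4 := hrow 4
  rw [Fin.sum_univ_seven, hdP 4, e_4_0, e_4_1, e_4_2, e_4_3, e_4_5] at R_4
  have R_5 := hrow 5
  rw [Fin.sum_univ_seven, hdP 5, e_5_0, e_5_1, e_5_2, e_5_3, e_5_4] at R_5
  have R_6 := hrow 6
  rw [Fin.sum_univ_seven, hdP 6, e_6_0, e_6_1, e_6_2, e_6_3] at R_6
  have S_0_1 := hsym 0 1
  rw [e_0_1, e_1_0] at S_0_1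
  have S_0_2 := hsym 0 2
  rw [e_0_2, e_2_0] at S_0_2
  have S_0_3 := hsym 0 3
  rw [e_0_3, e_3_0] at S_0_3
  have S_0_4 := hsym 0 4
  rw [e_0_4, e_4_0] at S_0_4
  have S_0_5 := hsym 0 5
  rw [e_0_5, e_5_0] at S_0_5
  have S_0_6 := hsym 0 6
  rw [e_0_6, e_6_0] at S_0_6
  have S_1_2 := hsym 1 2
  rw [e_1_2, e_2_1] at S_1_2
  have S_1_3 := hsym 1 3
  rw [e_1_3, e_3_1] at S_1_3
  have S_1_4 := hsym 1 4
  rw [e_1_4, e_4_1] at S_1_4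
  have S_1_5 := hsym 1 5
  rw [e_1_5, e_5_1] at S_1_5
  have S_1_6 := hsym 1 6
  rw [e_1_6, e_6_1] at S_1_6
  have S_2_3 := hsym 2 3
  rw [e_2_3, e_3_2] at S_2_3
  have S_2_4 := hsym 2 4
  rw [e_2_4, e_4_2] at S_2_4
  have S_2_5 := hsym 2 5
  rw [e_2_5, e_5_2] at S_2_5
  have S_2_6 := hsym 2 6
  rw [e_2_6, e_6_2] at S_2_6
  have S_3_4 := hsym 3 4
  rw [e_3_4, e_4_3] at S_3_4
  have S_3_5 := hsym 3 5
  rw [e_3_5, e_5_3] at S_3_5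
  have S_3_6 := hsym 3 6
  rw [e_3_6, e_6_3] at S_3_6
  have S_4_5 := hsym 4 5
  rw [e_4_5, e_5_4] at S_4_5
  have S_4_6 := hsym 4 6
  have S_5_6 := hsym 5 6
  have Q_4 := hpair 4 6 (by decide)
  have Q_5 := hpair 5 6 (by decide)
  generalize e_4_6 : T.picMatrix 4 6 = x_4 at *
  generalize e_6_4 : T.picMatrix 6 4 = y_4 at *
  generalize e_5_6 : T.picMatrix 5 6 = x_5 at *
  generalize e_6_5 : T.picMatrix 6 5 = y_5 at *
  rcases Q_4 with ⟨rfl, rfl⟩ | ⟨rfl, rfl⟩ | ⟨rfl, rfl⟩ | ⟨rfl, rfl⟩ | ⟨rfl, rfl⟩ | ⟨rfl, rfl⟩ | ⟨rfl, rfl⟩ | ⟨rfl, rfl⟩ | ⟨rfl, rfl⟩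
  · exact absurd rfl hne
  · omega
  · omega
  · omega
  · omega
  · omega
  · omega
  · omega
  · omega

theorem nd_886 (T : Models.NumericalType 7)
    (hG : NTGood T)
    (hmax : ∀ j, T.m j ≤ T.m 0)
    (e_0_1 : T.picMatrix 0 1 = 2)
    (e_0_2 : T.picMatrix 0 2 = 1)
    (e_0_3 : T.picMatrix 0 3 = 0)
    (e_0_4 : T.picMatrix 0 4 = 0)
    (e_0_5 : T.picMatrix 0 5 = 0)
    (e_1_0 : T.picMatrix 1 0 = 1)
    (e_1_2 : T.picMatrix 1 2 = 0)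
    (e_1_3 : T.picMatrix 1 3 = 0)
    (e_1_4 : T.picMatrix 1 4 = 0)
    (e_1_5 : T.picMatrix 1 5 = 0)
    (e_2_0 : T.picMatrix 2 0 = 1)
    (e_2_1 : T.picMatrix 2 1 = 0)
    (e_2_3 : T.picMatrix 2 3 = 1)
    (e_2_4 : T.picMatrix 2 4 = 0)
    (e_2_5 : T.picMatrix 2 5 = 0)
    (e_3_0 : T.picMatrix 3 0 = 0)
    (e_3_1 : T.picMatrix 3 1 = 0)
    (e_3_2 : T.picMatrix 3 2 = 1)
    (e_3_4 : T.picMatrix 3 4 = 1)
    (e_3_5 : T.picMatrix 3 5 = 0)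
    (e_4_0 : T.picMatrix 4 0 = 0)
    (e_4_1 : T.picMatrix 4 1 = 0)
    (e_4_2 : T.picMatrix 4 2 = 0)
    (e_4_3 : T.picMatrix 4 3 = 1)
    (e_4_5 : T.picMatrix 4 5 = 2)
    (e_5_0 : T.picMatrix 5 0 = 0)
    (e_5_1 : T.picMatrix 5 1 = 0)
    (e_5_2 : T.picMatrix 5 2 = 0)
    (e_5_3 : T.picMatrix 5 3 = 0)
    (e_5_4 : T.picMatrix 5 4 = 1)
    (cl : ∀ a b : Fin 7, a.val < 4 → 6 ≤ b.val → T.picMatrix a b = 0) :
    Goal T := by
  by_cases hc : ∀ b : Fin 7, 6 ≤ b.val → T.picMatrix 4 b = 0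
  · exact nd_887 T hG hmax e_0_1 e_0_2 e_0_3 e_0_4 e_0_5 e_1_0 e_1_2 e_1_3 e_1_4 e_1_5 e_2_0 e_2_1 e_2_3 e_2_4 e_2_5 e_3_0 e_3_1 e_3_2 e_3_4 e_3_5 e_4_0 e_4_1 e_4_2 e_4_3 e_4_5 e_5_0 e_5_1 e_5_2 e_5_3 e_5_4 (nt_cl_succ T 6 4 4 rfl cl hc)
  · obtain ⟨τ, hfix, cl', z, hne⟩ := nt_wlog_step T 6 (by norm_num) 4 (by norm_num) 4 (by decide) cl hc
    apply goal_relabel T τ
    refine ex_890 (ntRelabel T τ) (hG.relabel τ) ?_ ?_ ?_ ?_ ?_ ?_ ?_ ?_ ?_ ?_ ?_ ?_ ?_ ?_ ?_ ?_ ?_ ?_ ?_ ?_ ?_ ?_ ?_ ?_ ?_ ?_ ?_ ?_ ?_ ?_ ?_ cl' z hne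
    · intro j
      show T.m (τ j) ≤ T.m (τ 0)
      rw [hfix 0 (by decide)]
      exact hmax _
    · show T.picMatrix (τ 0) (τ 1) = 2
      rw [hfix 0 (by decide), hfix 1 (by decide)]
      exact e_0_1
    · show T.picMatrix (τ 0) (τ 2) = 1
      rw [hfix 0 (by decide), hfix 2 (by decide)]
      exact e_0_2
    · show T.picMatrix (τ 0) (τ 3) = 0
      rw [hfix 0 (by decide), hfix 3 (by decide)]
      exact e_0_3
    · show T.picMatrix (τ 0) (τ 4) = 0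
      rw [hfix 0 (by decide), hfix 4 (by decide)]
      exact e_0_4
    · show T.picMatrix (τ 0) (τ 5) = 0
      rw [hfix 0 (by decide), hfix 5 (by decide)]
      exact e_0_5
    · show T.picMatrix (τ 1) (τ 0) = 1
      rw [hfix 1 (by decide), hfix 0 (by decide)]
      exact e_1_0
    · show T.picMatrix (τ 1) (τ 2) = 0
      rw [hfix 1 (by decide), hfix 2 (by decide)]
      exact e_1_2
    · show T.picMatrix (τ 1) (τ 3) = 0
      rw [hfix 1 (by decide), hfix 3 (by decide)]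
      exact e_1_3
    · show T.picMatrix (τ 1) (τ 4) = 0
      rw [hfix 1 (by decide), hfix 4 (by decide)]
      exact e_1_4
    · show T.picMatrix (τ 1) (τ 5) = 0
      rw [hfix 1 (by decide), hfix 5 (by decide)]
      exact e_1_5
    · show T.picMatrix (τ 2) (τ 0) = 1
      rw [hfix 2 (by decide), hfix 0 (by decide)]
      exact e_2_0
    · show T.picMatrix (τ 2) (τ 1) = 0
      rw [hfix 2 (by decide), hfix 1 (by decide)]
      exact e_2_1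
    · show T.picMatrix (τ 2) (τ 3) = 1
      rw [hfix 2 (by decide), hfix 3 (by decide)]
      exact e_2_3
    · show T.picMatrix (τ 2) (τ 4) = 0
      rw [hfix 2 (by decide), hfix 4 (by decide)]
      exact e_2_4
    · show T.picMatrix (τ 2) (τ 5) = 0
      rw [hfix 2 (by decide), hfix 5 (by decide)]
      exact e_2_5
    · show T.picMatrix (τ 3) (τ 0) = 0
      rw [hfix 3 (by decide), hfix 0 (by decide)]
      exact e_3_0
    · show T.picMatrix (τ 3) (τ 1) = 0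
      rw [hfix 3 (by decide), hfix 1 (by decide)]
      exact e_3_1
    · show T.picMatrix (τ 3) (τ 2) = 1
      rw [hfix 3 (by decide), hfix 2 (by decide)]
      exact e_3_2
    · show T.picMatrix (τ 3) (τ 4) = 1
      rw [hfix 3 (by decide), hfix 4 (by decide)]
      exact e_3_4
    · show T.picMatrix (τ 3) (τ 5) = 0
      rw [hfix 3 (by decide), hfix 5 (by decide)]
      exact e_3_5
    · show T.picMatrix (τ 4) (τ 0) = 0
      rw [hfix 4 (by decide), hfix 0 (by decide)]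
      exact e_4_0
    · show T.picMatrix (τ 4) (τ 1) = 0
      rw [hfix 4 (by decide), hfix 1 (by decide)]
      exact e_4_1
    · show T.picMatrix (τ 4) (τ 2) = 0
      rw [hfix 4 (by decide), hfix 2 (by decide)]
      exact e_4_2
    · show T.picMatrix (τ 4) (τ 3) = 1
      rw [hfix 4 (by decide), hfix 3 (by decide)]
      exact e_4_3
    · show T.picMatrix (τ 4) (τ 5) = 2
      rw [hfix 4 (by decide), hfix 5 (by decide)]
      exact e_4_5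
    · show T.picMatrix (τ 5) (τ 0) = 0
      rw [hfix 5 (by decide), hfix 0 (by decide)]
      exact e_5_0
    · show T.picMatrix (τ 5) (τ 1) = 0
      rw [hfix 5 (by decide), hfix 1 (by decide)]
      exact e_5_1
    · show T.picMatrix (τ 5) (τ 2) = 0
      rw [hfix 5 (by decide), hfix 2 (by decide)]
      exact e_5_2
    · show T.picMatrix (τ 5) (τ 3) = 0
      rw [hfix 5 (by decide), hfix 3 (by decide)]
      exact e_5_3
    · show T.picMatrix (τ 5) (τ 4) = 1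
      rw [hfix 5 (by decide), hfix 4 (by decide)]
      exact e_5_4

theorem ex_872 (T : Models.NumericalType 7)
    (hG : NTGood T)
    (hmax : ∀ j, T.m j ≤ T.m 0)
    (e_0_1 : T.picMatrix 0 1 = 2)
    (e_0_2 : T.picMatrix 0 2 = 1)
    (e_0_3 : T.picMatrix 0 3 = 0)
    (e_0_4 : T.picMatrix 0 4 = 0)
    (e_1_0 : T.picMatrix 1 0 = 1)
    (e_1_2 : T.picMatrix 1 2 = 0)
    (e_1_3 : T.picMatrix 1 3 = 0)
    (e_1_4 : T.picMatrix 1 4 = 0)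
    (e_2_0 : T.picMatrix 2 0 = 1)
    (e_2_1 : T.picMatrix 2 1 = 0)
    (e_2_3 : T.picMatrix 2 3 = 1)
    (e_2_4 : T.picMatrix 2 4 = 0)
    (e_3_0 : T.picMatrix 3 0 = 0)
    (e_3_1 : T.picMatrix 3 1 = 0)
    (e_3_2 : T.picMatrix 3 2 = 1)
    (e_3_4 : T.picMatrix 3 4 = 1)
    (e_4_0 : T.picMatrix 4 0 = 0)
    (e_4_1 : T.picMatrix 4 1 = 0)
    (e_4_2 : T.picMatrix 4 2 = 0)
    (e_4_3 : T.picMatrix 4 3 = 1)
    (cl : ∀ a b : Fin 7, a.val < 4 → 6 ≤ b.val → T.picMatrix a b = 0)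
    (z : ∀ a : Fin 7, a.val < 4 → T.picMatrix a 5 = 0)
    (hne : T.picMatrix 4 5 ≠ 0) :
    Goal T := by
  have e_0_5 : T.picMatrix 0 5 = 0 := z 0 (by decide)
  have e_5_0 : T.picMatrix 5 0 = 0 := nt_pic_zero_symm T 0 5 e_0_5
  have e_1_5 : T.picMatrix 1 5 = 0 := z 1 (by decide)
  have e_5_1 : T.picMatrix 5 1 = 0 := nt_pic_zero_symm T 1 5 e_1_5
  have e_2_5 : T.picMatrix 2 5 = 0 := z 2 (by decide)
  have e_5_2 : T.picMatrix 5 2 = 0 := nt_pic_zero_symm T 2 5 e_2_5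
  have e_3_5 : T.picMatrix 3 5 = 0 := z 3 (by decide)
  have e_5_3 : T.picMatrix 5 3 = 0 := nt_pic_zero_symm T 3 5 e_3_5
  obtain ⟨hg0, hdA, hdP, hnn, hrow, hsym, hpair⟩ := ntgood_data T (by norm_num) hG
  have hm_0 := T.m_pos 0
  have hw_0 := T.w_pos 0
  have hm_1 := T.m_pos 1
  have hw_1 := T.w_pos 1
  have hm_2 := T.m_pos 2
  have hw_2 := T.w_pos 2
  have hm_3 := T.m_pos 3
  have hw_3 := T.w_pos 3
  have hm_4 := T.m_pos 4
  have hw_4 := T.w_pos 4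
  have hm_5 := T.m_pos 5
  have hw_5 := T.w_pos 5
  have hx_1 := hmax 1
  have hx_2 := hmax 2
  have hx_3 := hmax 3
  have hx_4 := hmax 4
  have hx_5 := hmax 5
  have Z_0_6 := cl 0 6 (by decide) (by decide)
  have Z_1_6 := cl 1 6 (by decide) (by decide)
  have Z_2_6 := cl 2 6 (by decide) (by decide)
  have Z_3_6 := cl 3 6 (by decide) (by decide)
  have N_4_6 := mul_nonneg (hnn 4 6 (by decide)) (T.m_pos 6).le
  have N_5_6 := mul_nonneg (hnn 5 6 (by decide)) (T.m_pos 6).le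
  have N_4_5 := mul_nonneg (hnn 4 5 (by decide)) (T.m_pos 5).le
  have N_5_4 := mul_nonneg (hnn 5 4 (by decide)) (T.m_pos 4).le
  have R_0 := hrow 0
  rw [Fin.sum_univ_seven, hdP 0, e_0_1, e_0_2, e_0_3, e_0_4, e_0_5, Z_0_6] at R_0
  have R_1 := hrow 1
  rw [Fin.sum_univ_seven, hdP 1, e_1_0, e_1_2, e_1_3, e_1_4, e_1_5, Z_1_6] at R_1
  have R_2 := hrow 2
  rw [Fin.sum_univ_seven, hdP 2, e_2_0, e_2_1, e_2_3, e_2_4, e_2_5, Z_2_6] at R_2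
  have R_3 := hrow 3
  rw [Fin.sum_univ_seven, hdP 3, e_3_0, e_3_1, e_3_2, e_3_4, e_3_5, Z_3_6] at R_3
  have R_4 := hrow 4
  rw [Fin.sum_univ_seven, hdP 4, e_4_0, e_4_1, e_4_2, e_4_3] at R_4
  have R_5 := hrow 5
  rw [Fin.sum_univ_seven, hdP 5, e_5_0, e_5_1, e_5_2, e_5_3] at R_5
  have S_0_1 := hsym 0 1
  rw [e_0_1, e_1_0] at S_0_1
  have S_0_2 := hsym 0 2
  rw [e_0_2, e_2_0] at S_0_2
  have S_0_3 := hsym 0 3
  rw [e_0_3, e_3_0] at S_0_3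
  have S_0_4 := hsym 0 4
  rw [e_0_4, e_4_0] at S_0_4
  have S_0_5 := hsym 0 5
  rw [e_0_5, e_5_0] at S_0_5
  have S_1_2 := hsym 1 2
  rw [e_1_2, e_2_1] at S_1_2
  have S_1_3 := hsym 1 3
  rw [e_1_3, e_3_1] at S_1_3
  have S_1_4 := hsym 1 4
  rw [e_1_4, e_4_1] at S_1_4
  have S_1_5 := hsym 1 5
  rw [e_1_5, e_5_1] at S_1_5
  have S_2_3 := hsym 2 3
  rw [e_2_3, e_3_2] at S_2_3
  have S_2_4 := hsym 2 4
  rw [e_2_4, e_4_2] at S_2_4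
  have S_2_5 := hsym 2 5
  rw [e_2_5, e_5_2] at S_2_5
  have S_3_4 := hsym 3 4
  rw [e_3_4, e_4_3] at S_3_4
  have S_3_5 := hsym 3 5
  rw [e_3_5, e_5_3] at S_3_5
  have S_4_5 := hsym 4 5
  have Q_4 := hpair 4 5 (by decide)
  generalize e_4_5 : T.picMatrix 4 5 = x_4 at *
  generalize e_5_4 : T.picMatrix 5 4 = y_4 at *
  rcases Q_4 with ⟨rfl, rfl⟩ | ⟨rfl, rfl⟩ | ⟨rfl, rfl⟩ | ⟨rfl, rfl⟩ | ⟨rfl, rfl⟩ | ⟨rfl, rfl⟩ | ⟨rfl, rfl⟩ | ⟨rfl, rfl⟩ | ⟨rfl, rfl⟩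
  · exact absurd rfl hne
  · -- (4,5) = (1,1)
    exact nd_873 T hG hmax e_0_1 e_0_2 e_0_3 e_0_4 e_0_5 e_1_0 e_1_2 e_1_3 e_1_4 e_1_5 e_2_0 e_2_1 e_2_3 e_2_4 e_2_5 e_3_0 e_3_1 e_3_2 e_3_4 e_3_5 e_4_0 e_4_1 e_4_2 e_4_3 e_4_5 e_5_0 e_5_1 e_5_2 e_5_3 e_5_4 cl
  · -- (4,5) = (1,2)
    exact nd_881 T hG hmax e_0_1 e_0_2 e_0_3 e_0_4 e_0_5 e_1_0 e_1_2 e_1_3 e_1_4 e_1_5 e_2_0 e_2_1 e_2_3 e_2_4 e_2_5 e_3_0 e_3_1 e_3_2 e_3_4 e_3_5 e_4_0 e_4_1 e_4_2 e_4_3 e_4_5 e_5_0 e_5_1 e_5_2 e_5_3 e_5_4 cl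
  · -- (4,5) = (2,1)
    exact nd_886 T hG hmax e_0_1 e_0_2 e_0_3 e_0_4 e_0_5 e_1_0 e_1_2 e_1_3 e_1_4 e_1_5 e_2_0 e_2_1 e_2_3 e_2_4 e_2_5 e_3_0 e_3_1 e_3_2 e_3_4 e_3_5 e_4_0 e_4_1 e_4_2 e_4_3 e_4_5 e_5_0 e_5_1 e_5_2 e_5_3 e_5_4 cl
  · -- (4,5) = (1,3)
    omega
  · -- (4,5) = (3,1)
    omega
  · -- (4,5) = (1,4)
    omega
  · -- (4,5) = (4,1)
    omega
  · -- (4,5) = (2,2)
    omega

theorem nd_870 (T : Models.NumericalType 7)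
    (hG : NTGood T)
    (hmax : ∀ j, T.m j ≤ T.m 0)
    (e_0_1 : T.picMatrix 0 1 = 2)
    (e_0_2 : T.picMatrix 0 2 = 1)
    (e_0_3 : T.picMatrix 0 3 = 0)
    (e_0_4 : T.picMatrix 0 4 = 0)
    (e_1_0 : T.picMatrix 1 0 = 1)
    (e_1_2 : T.picMatrix 1 2 = 0)
    (e_1_3 : T.picMatrix 1 3 = 0)
    (e_1_4 : T.picMatrix 1 4 = 0)
    (e_2_0 : T.picMatrix 2 0 = 1)
    (e_2_1 : T.picMatrix 2 1 = 0)
    (e_2_3 : T.picMatrix 2 3 = 1)
    (e_2_4 : T.picMatrix 2 4 = 0)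
    (e_3_0 : T.picMatrix 3 0 = 0)
    (e_3_1 : T.picMatrix 3 1 = 0)
    (e_3_2 : T.picMatrix 3 2 = 1)
    (e_3_4 : T.picMatrix 3 4 = 1)
    (e_4_0 : T.picMatrix 4 0 = 0)
    (e_4_1 : T.picMatrix 4 1 = 0)
    (e_4_2 : T.picMatrix 4 2 = 0)
    (e_4_3 : T.picMatrix 4 3 = 1)
    (cl : ∀ a b : Fin 7, a.val < 4 → 5 ≤ b.val → T.picMatrix a b = 0) :
    Goal T := by
  by_cases hc : ∀ b : Fin 7, 5 ≤ b.val → T.picMatrix 4 b = 0
  · exact nd_871 T hG hmax e_0_1 e_0_2 e_0_3 e_0_4 e_1_0 e_1_2 e_1_3 e_1_4 e_2_0 e_2_1 e_2_3 e_2_4 e_3_0 e_3_1 e_3_2 e_3_4 e_4_0 e_4_1 e_4_2 e_4_3 (nt_cl_succ T 5 4 4 rfl cl hc)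
  · obtain ⟨τ, hfix, cl', z, hne⟩ := nt_wlog_step T 5 (by norm_num) 4 (by norm_num) 4 (by decide) cl hc
    apply goal_relabel T τ
    refine ex_872 (ntRelabel T τ) (hG.relabel τ) ?_ ?_ ?_ ?_ ?_ ?_ ?_ ?_ ?_ ?_ ?_ ?_ ?_ ?_ ?_ ?_ ?_ ?_ ?_ ?_ ?_ cl' z hne
    · intro j
      show T.m (τ j) ≤ T.m (τ 0)
      rw [hfix 0 (by decide)]
      exact hmax _
    · show T.picMatrix (τ 0) (τ 1) = 2
      rw [hfix 0 (by decide), hfix 1 (by decide)]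
      exact e_0_1
    · show T.picMatrix (τ 0) (τ 2) = 1
      rw [hfix 0 (by decide), hfix 2 (by decide)]
      exact e_0_2
    · show T.picMatrix (τ 0) (τ 3) = 0
      rw [hfix 0 (by decide), hfix 3 (by decide)]
      exact e_0_3
    · show T.picMatrix (τ 0) (τ 4) = 0
      rw [hfix 0 (by decide), hfix 4 (by decide)]
      exact e_0_4
    · show T.picMatrix (τ 1) (τ 0) = 1
      rw [hfix 1 (by decide), hfix 0 (by decide)]
      exact e_1_0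
    · show T.picMatrix (τ 1) (τ 2) = 0
      rw [hfix 1 (by decide), hfix 2 (by decide)]
      exact e_1_2
    · show T.picMatrix (τ 1) (τ 3) = 0
      rw [hfix 1 (by decide), hfix 3 (by decide)]
      exact e_1_3
    · show T.picMatrix (τ 1) (τ 4) = 0
      rw [hfix 1 (by decide), hfix 4 (by decide)]
      exact e_1_4
    · show T.picMatrix (τ 2) (τ 0) = 1
      rw [hfix 2 (by decide), hfix 0 (by decide)]
      exact e_2_0
    · show T.picMatrix (τ 2) (τ 1) = 0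
      rw [hfix 2 (by decide), hfix 1 (by decide)]
      exact e_2_1
    · show T.picMatrix (τ 2) (τ 3) = 1
      rw [hfix 2 (by decide), hfix 3 (by decide)]
      exact e_2_3
    · show T.picMatrix (τ 2) (τ 4) = 0
      rw [hfix 2 (by decide), hfix 4 (by decide)]
      exact e_2_4
    · show T.picMatrix (τ 3) (τ 0) = 0
      rw [hfix 3 (by decide), hfix 0 (by decide)]
      exact e_3_0
    · show T.picMatrix (τ 3) (τ 1) = 0
      rw [hfix 3 (by decide), hfix 1 (by decide)]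
      exact e_3_1
    · show T.picMatrix (τ 3) (τ 2) = 1
      rw [hfix 3 (by decide), hfix 2 (by decide)]
      exact e_3_2
    · show T.picMatrix (τ 3) (τ 4) = 1
      rw [hfix 3 (by decide), hfix 4 (by decide)]
      exact e_3_4
    · show T.picMatrix (τ 4) (τ 0) = 0
      rw [hfix 4 (by decide), hfix 0 (by decide)]
      exact e_4_0
    · show T.picMatrix (τ 4) (τ 1) = 0
      rw [hfix 4 (by decide), hfix 1 (by decide)]
      exact e_4_1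
    · show T.picMatrix (τ 4) (τ 2) = 0
      rw [hfix 4 (by decide), hfix 2 (by decide)]
      exact e_4_2
    · show T.picMatrix (τ 4) (τ 3) = 1
      rw [hfix 4 (by decide), hfix 3 (by decide)]
      exact e_4_3

theorem nd_895 (T : Models.NumericalType 7)
    (hG : NTGood T)
    (hmax : ∀ j, T.m j ≤ T.m 0)
    (e_0_1 : T.picMatrix 0 1 = 2)
    (e_0_2 : T.picMatrix 0 2 = 1)
    (e_0_3 : T.picMatrix 0 3 = 0)
    (e_0_4 : T.picMatrix 0 4 = 0)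
    (e_0_5 : T.picMatrix 0 5 = 0)
    (e_1_0 : T.picMatrix 1 0 = 1)
    (e_1_2 : T.picMatrix 1 2 = 0)
    (e_1_3 : T.picMatrix 1 3 = 0)
    (e_1_4 : T.picMatrix 1 4 = 0)
    (e_1_5 : T.picMatrix 1 5 = 0)
    (e_2_0 : T.picMatrix 2 0 = 1)
    (e_2_1 : T.picMatrix 2 1 = 0)
    (e_2_3 : T.picMatrix 2 3 = 1)
    (e_2_4 : T.picMatrix 2 4 = 0)
    (e_2_5 : T.picMatrix 2 5 = 0)
    (e_3_0 : T.picMatrix 3 0 = 0)
    (e_3_1 : T.picMatrix 3 1 = 0)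
    (e_3_2 : T.picMatrix 3 2 = 1)
    (e_3_4 : T.picMatrix 3 4 = 1)
    (e_3_5 : T.picMatrix 3 5 = 1)
    (e_4_0 : T.picMatrix 4 0 = 0)
    (e_4_1 : T.picMatrix 4 1 = 0)
    (e_4_2 : T.picMatrix 4 2 = 0)
    (e_4_3 : T.picMatrix 4 3 = 1)
    (e_4_5 : T.picMatrix 4 5 = 0)
    (e_5_0 : T.picMatrix 5 0 = 0)
    (e_5_1 : T.picMatrix 5 1 = 0)
    (e_5_2 : T.picMatrix 5 2 = 0)
    (e_5_3 : T.picMatrix 5 3 = 1)
    (e_5_4 : T.picMatrix 5 4 = 0)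
    (cl : ∀ a b : Fin 7, a.val < 6 → 6 ≤ b.val → T.picMatrix a b = 0) :
    Goal T := by
  exact (nt_closed_false T 6 (by norm_num) (by norm_num) cl).elim

theorem ex_896 (T : Models.NumericalType 7)
    (hG : NTGood T)
    (hmax : ∀ j, T.m j ≤ T.m 0)
    (e_0_1 : T.picMatrix 0 1 = 2)
    (e_0_2 : T.picMatrix 0 2 = 1)
    (e_0_3 : T.picMatrix 0 3 = 0)
    (e_0_4 : T.picMatrix 0 4 = 0)
    (e_0_5 : T.picMatrix 0 5 = 0)
    (e_1_0 : T.picMatrix 1 0 = 1)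
    (e_1_2 : T.picMatrix 1 2 = 0)
    (e_1_3 : T.picMatrix 1 3 = 0)
    (e_1_4 : T.picMatrix 1 4 = 0)
    (e_1_5 : T.picMatrix 1 5 = 0)
    (e_2_0 : T.picMatrix 2 0 = 1)
    (e_2_1 : T.picMatrix 2 1 = 0)
    (e_2_3 : T.picMatrix 2 3 = 1)
    (e_2_4 : T.picMatrix 2 4 = 0)
    (e_2_5 : T.picMatrix 2 5 = 0)
    (e_3_0 : T.picMatrix 3 0 = 0)
    (e_3_1 : T.picMatrix 3 1 = 0)
    (e_3_2 : T.picMatrix 3 2 = 1)
    (e_3_4 : T.picMatrix 3 4 = 1)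
    (e_3_5 : T.picMatrix 3 5 = 1)
    (e_4_0 : T.picMatrix 4 0 = 0)
    (e_4_1 : T.picMatrix 4 1 = 0)
    (e_4_2 : T.picMatrix 4 2 = 0)
    (e_4_3 : T.picMatrix 4 3 = 1)
    (e_4_5 : T.picMatrix 4 5 = 0)
    (e_5_0 : T.picMatrix 5 0 = 0)
    (e_5_1 : T.picMatrix 5 1 = 0)
    (e_5_2 : T.picMatrix 5 2 = 0)
    (e_5_3 : T.picMatrix 5 3 = 1)
    (e_5_4 : T.picMatrix 5 4 = 0)
    (cl : ∀ a b : Fin 7, a.val < 5 → 7 ≤ b.val → T.picMatrix a b = 0)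
    (z : ∀ a : Fin 7, a.val < 5 → T.picMatrix a 6 = 0)
    (hne : T.picMatrix 5 6 ≠ 0) :
    Goal T := by
  have e_0_6 : T.picMatrix 0 6 = 0 := z 0 (by decide)
  have e_6_0 : T.picMatrix 6 0 = 0 := nt_pic_zero_symm T 0 6 e_0_6
  have e_1_6 : T.picMatrix 1 6 = 0 := z 1 (by decide)
  have e_6_1 : T.picMatrix 6 1 = 0 := nt_pic_zero_symm T 1 6 e_1_6
  have e_2_6 : T.picMatrix 2 6 = 0 := z 2 (by decide)
  have e_6_2 : T.picMatrix 6 2 = 0 := nt_pic_zero_symm T 2 6 e_2_6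
  have e_3_6 : T.picMatrix 3 6 = 0 := z 3 (by decide)
  have e_6_3 : T.picMatrix 6 3 = 0 := nt_pic_zero_symm T 3 6 e_3_6
  have e_4_6 : T.picMatrix 4 6 = 0 := z 4 (by decide)
  have e_6_4 : T.picMatrix 6 4 = 0 := nt_pic_zero_symm T 4 6 e_4_6
  obtain ⟨hg0, hdA, hdP, hnn, hrow, hsym, hpair⟩ := ntgood_data T (by norm_num) hG
  have hm_0 := T.m_pos 0
  have hw_0 := T.w_pos 0
  have hm_1 := T.m_pos 1
  have hw_1 := T.w_pos 1
  have hm_2 := T.m_pos 2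
  have hw_2 := T.w_pos 2
  have hm_3 := T.m_pos 3
  have hw_3 := T.w_pos 3
  have hm_4 := T.m_pos 4
  have hw_4 := T.w_pos 4
  have hm_5 := T.m_pos 5
  have hw_5 := T.w_pos 5
  have hm_6 := T.m_pos 6
  have hw_6 := T.w_pos 6
  have hx_1 := hmax 1
  have hx_2 := hmax 2
  have hx_3 := hmax 3
  have hx_4 := hmax 4
  have hx_5 := hmax 5
  have hx_6 := hmax 6
  have N_5_6 := mul_nonneg (hnn 5 6 (by decide)) (T.m_pos 6).le
  have N_6_5 := mul_nonneg (hnn 6 5 (by decide)) (T.m_pos 5).le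
  have R_0 := hrow 0
  rw [Fin.sum_univ_seven, hdP 0, e_0_1, e_0_2, e_0_3, e_0_4, e_0_5, e_0_6] at R_0
  have R_1 := hrow 1
  rw [Fin.sum_univ_seven, hdP 1, e_1_0, e_1_2, e_1_3, e_1_4, e_1_5, e_1_6] at R_1
  have R_2 := hrow 2
  rw [Fin.sum_univ_seven, hdP 2, e_2_0, e_2_1, e_2_3, e_2_4, e_2_5, e_2_6] at R_2
  have R_3 := hrow 3
  rw [Fin.sum_univ_seven, hdP 3, e_3_0, e_3_1, e_3_2, e_3_4, e_3_5, e_3_6] at R_3
  have R_4 := hrow 4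
  rw [Fin.sum_univ_seven, hdP 4, e_4_0, e_4_1, e_4_2, e_4_3, e_4_5, e_4_6] at R_4
  have R_5 := hrow 5
  rw [Fin.sum_univ_seven, hdP 5, e_5_0, e_5_1, e_5_2, e_5_3, e_5_4] at R_5
  have R_6 := hrow 6
  rw [Fin.sum_univ_seven, hdP 6, e_6_0, e_6_1, e_6_2, e_6_3, e_6_4] at R_6
  have S_0_1 := hsym 0 1
  rw [e_0_1, e_1_0] at S_0_1
  have S_0_2 := hsym 0 2
  rw [e_0_2, e_2_0] at S_0_2
  have S_0_3 := hsym 0 3
  rw [e_0_3, e_3_0] at S_0_3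
  have S_0_4 := hsym 0 4
  rw [e_0_4, e_4_0] at S_0_4
  have S_0_5 := hsym 0 5
  rw [e_0_5, e_5_0] at S_0_5
  have S_0_6 := hsym 0 6
  rw [e_0_6, e_6_0] at S_0_6
  have S_1_2 := hsym 1 2
  rw [e_1_2, e_2_1] at S_1_2
  have S_1_3 := hsym 1 3
  rw [e_1_3, e_3_1] at S_1_3
  have S_1_4 := hsym 1 4
  rw [e_1_4, e_4_1] at S_1_4
  have S_1_5 := hsym 1 5
  rw [e_1_5, e_5_1] at S_1_5
  have S_1_6 := hsym 1 6
  rw [e_1_6, e_6_1] at S_1_6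
  have S_2_3 := hsym 2 3
  rw [e_2_3, e_3_2] at S_2_3
  have S_2_4 := hsym 2 4
  rw [e_2_4, e_4_2] at S_2_4
  have S_2_5 := hsym 2 5
  rw [e_2_5, e_5_2] at S_2_5
  have S_2_6 := hsym 2 6
  rw [e_2_6, e_6_2] at S_2_6
  have S_3_4 := hsym 3 4
  rw [e_3_4, e_4_3] at S_3_4
  have S_3_5 := hsym 3 5
  rw [e_3_5, e_5_3] at S_3_5
  have S_3_6 := hsym 3 6
  rw [e_3_6, e_6_3] at S_3_6
  have S_4_5 := hsym 4 5
  rw [e_4_5, e_5_4] at S_4_5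
  have S_4_6 := hsym 4 6
  rw [e_4_6, e_6_4] at S_4_6
  have S_5_6 := hsym 5 6
  have Q_5 := hpair 5 6 (by decide)
  generalize e_5_6 : T.picMatrix 5 6 = x_5 at *
  generalize e_6_5 : T.picMatrix 6 5 = y_5 at *
  rcases Q_5 with ⟨rfl, rfl⟩ | ⟨rfl, rfl⟩ | ⟨rfl, rfl⟩ | ⟨rfl, rfl⟩ | ⟨rfl, rfl⟩ | ⟨rfl, rfl⟩ | ⟨rfl, rfl⟩ | ⟨rfl, rfl⟩ | ⟨rfl, rfl⟩
  · exact absurd rfl hne
  · -- (5,6) = (1,1)
    omega
  · -- (5,6) = (1,2)
    omega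
  · -- (5,6) = (2,1)
    omega
  · -- (5,6) = (1,3)
    omega
  · -- (5,6) = (3,1)
    omega
  · -- (5,6) = (1,4)
    omega
  · -- (5,6) = (4,1)
    omega
  · -- (5,6) = (2,2)
    omega

theorem nd_894 (T : Models.NumericalType 7)
    (hG : NTGood T)
    (hmax : ∀ j, T.m j ≤ T.m 0)
    (e_0_1 : T.picMatrix 0 1 = 2)
    (e_0_2 : T.picMatrix 0 2 = 1)
    (e_0_3 : T.picMatrix 0 3 = 0)
    (e_0_4 : T.picMatrix 0 4 = 0)
    (e_0_5 : T.picMatrix 0 5 = 0)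
    (e_1_0 : T.picMatrix 1 0 = 1)
    (e_1_2 : T.picMatrix 1 2 = 0)
    (e_1_3 : T.picMatrix 1 3 = 0)
    (e_1_4 : T.picMatrix 1 4 = 0)
    (e_1_5 : T.picMatrix 1 5 = 0)
    (e_2_0 : T.picMatrix 2 0 = 1)
    (e_2_1 : T.picMatrix 2 1 = 0)
    (e_2_3 : T.picMatrix 2 3 = 1)
    (e_2_4 : T.picMatrix 2 4 = 0)
    (e_2_5 : T.picMatrix 2 5 = 0)
    (e_3_0 : T.picMatrix 3 0 = 0)
    (e_3_1 : T.picMatrix 3 1 = 0)
    (e_3_2 : T.picMatrix 3 2 = 1)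
    (e_3_4 : T.picMatrix 3 4 = 1)
    (e_3_5 : T.picMatrix 3 5 = 1)
    (e_4_0 : T.picMatrix 4 0 = 0)
    (e_4_1 : T.picMatrix 4 1 = 0)
    (e_4_2 : T.picMatrix 4 2 = 0)
    (e_4_3 : T.picMatrix 4 3 = 1)
    (e_4_5 : T.picMatrix 4 5 = 0)
    (e_5_0 : T.picMatrix 5 0 = 0)
    (e_5_1 : T.picMatrix 5 1 = 0)
    (e_5_2 : T.picMatrix 5 2 = 0)
    (e_5_3 : T.picMatrix 5 3 = 1)
    (e_5_4 : T.picMatrix 5 4 = 0)
    (cl : ∀ a b : Fin 7, a.val < 5 → 6 ≤ b.val → T.picMatrix a b = 0) :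
    Goal T := by
  by_cases hc : ∀ b : Fin 7, 6 ≤ b.val → T.picMatrix 5 b = 0
  · exact nd_895 T hG hmax e_0_1 e_0_2 e_0_3 e_0_4 e_0_5 e_1_0 e_1_2 e_1_3 e_1_4 e_1_5 e_2_0 e_2_1 e_2_3 e_2_4 e_2_5 e_3_0 e_3_1 e_3_2 e_3_4 e_3_5 e_4_0 e_4_1 e_4_2 e_4_3 e_4_5 e_5_0 e_5_1 e_5_2 e_5_3 e_5_4 (nt_cl_succ T 6 5 5 rfl cl hc)
  · obtain ⟨τ, hfix, cl', z, hne⟩ := nt_wlog_step T 6 (by norm_num) 5 (by norm_num) 5 (by decide) cl hc
    apply goal_relabel T τ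
    refine ex_896 (ntRelabel T τ) (hG.relabel τ) ?_ ?_ ?_ ?_ ?_ ?_ ?_ ?_ ?_ ?_ ?_ ?_ ?_ ?_ ?_ ?_ ?_ ?_ ?_ ?_ ?_ ?_ ?_ ?_ ?_ ?_ ?_ ?_ ?_ ?_ ?_ cl' z hne
    · intro j
      show T.m (τ j) ≤ T.m (τ 0)
      rw [hfix 0 (by decide)]
      exact hmax _
    · show T.picMatrix (τ 0) (τ 1) = 2
      rw [hfix 0 (by decide), hfix 1 (by decide)]
      exact e_0_1
    · show T.picMatrix (τ 0) (τ 2) = 1
      rw [hfix 0 (by decide), hfix 2 (by decide)]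
      exact e_0_2
    · show T.picMatrix (τ 0) (τ 3) = 0
      rw [hfix 0 (by decide), hfix 3 (by decide)]
      exact e_0_3
    · show T.picMatrix (τ 0) (τ 4) = 0
      rw [hfix 0 (by decide), hfix 4 (by decide)]
      exact e_0_4
    · show T.picMatrix (τ 0) (τ 5) = 0
      rw [hfix 0 (by decide), hfix 5 (by decide)]
      exact e_0_5
    · show T.picMatrix (τ 1) (τ 0) = 1
      rw [hfix 1 (by decide), hfix 0 (by decide)]
      exact e_1_0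
    · show T.picMatrix (τ 1) (τ 2) = 0
      rw [hfix 1 (by decide), hfix 2 (by decide)]
      exact e_1_2
    · show T.picMatrix (τ 1) (τ 3) = 0
      rw [hfix 1 (by decide), hfix 3 (by decide)]
      exact e_1_3
    · show T.picMatrix (τ 1) (τ 4) = 0
      rw [hfix 1 (by decide), hfix 4 (by decide)]
      exact e_1_4
    · show T.picMatrix (τ 1) (τ 5) = 0
      rw [hfix 1 (by decide), hfix 5 (by decide)]
      exact e_1_5
    · show T.picMatrix (τ 2) (τ 0) = 1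
      rw [hfix 2 (by decide), hfix 0 (by decide)]
      exact e_2_0
    · show T.picMatrix (τ 2) (τ 1) = 0
      rw [hfix 2 (by decide), hfix 1 (by decide)]
      exact e_2_1
    · show T.picMatrix (τ 2) (τ 3) = 1
      rw [hfix 2 (by decide), hfix 3 (by decide)]
      exact e_2_3
    · show T.picMatrix (τ 2) (τ 4) = 0
      rw [hfix 2 (by decide), hfix 4 (by decide)]
      exact e_2_4
    · show T.picMatrix (τ 2) (τ 5) = 0
      rw [hfix 2 (by decide), hfix 5 (by decide)]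
      exact e_2_5
    · show T.picMatrix (τ 3) (τ 0) = 0
      rw [hfix 3 (by decide), hfix 0 (by decide)]
      exact e_3_0
    · show T.picMatrix (τ 3) (τ 1) = 0
      rw [hfix 3 (by decide), hfix 1 (by decide)]
      exact e_3_1
    · show T.picMatrix (τ 3) (τ 2) = 1
      rw [hfix 3 (by decide), hfix 2 (by decide)]
      exact e_3_2
    · show T.picMatrix (τ 3) (τ 4) = 1
      rw [hfix 3 (by decide), hfix 4 (by decide)]
      exact e_3_4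
    · show T.picMatrix (τ 3) (τ 5) = 1
      rw [hfix 3 (by decide), hfix 5 (by decide)]
      exact e_3_5
    · show T.picMatrix (τ 4) (τ 0) = 0
      rw [hfix 4 (by decide), hfix 0 (by decide)]
      exact e_4_0
    · show T.picMatrix (τ 4) (τ 1) = 0
      rw [hfix 4 (by decide), hfix 1 (by decide)]
      exact e_4_1
    · show T.picMatrix (τ 4) (τ 2) = 0
      rw [hfix 4 (by decide), hfix 2 (by decide)]
      exact e_4_2
    · show T.picMatrix (τ 4) (τ 3) = 1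
      rw [hfix 4 (by decide), hfix 3 (by decide)]
      exact e_4_3
    · show T.picMatrix (τ 4) (τ 5) = 0
      rw [hfix 4 (by decide), hfix 5 (by decide)]
      exact e_4_5
    · show T.picMatrix (τ 5) (τ 0) = 0
      rw [hfix 5 (by decide), hfix 0 (by decide)]
      exact e_5_0
    · show T.picMatrix (τ 5) (τ 1) = 0
      rw [hfix 5 (by decide), hfix 1 (by decide)]
      exact e_5_1
    · show T.picMatrix (τ 5) (τ 2) = 0
      rw [hfix 5 (by decide), hfix 2 (by decide)]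
      exact e_5_2
    · show T.picMatrix (τ 5) (τ 3) = 1
      rw [hfix 5 (by decide), hfix 3 (by decide)]
      exact e_5_3
    · show T.picMatrix (τ 5) (τ 4) = 0
      rw [hfix 5 (by decide), hfix 4 (by decide)]
      exact e_5_4

theorem ex_897 (T : Models.NumericalType 7)
    (hG : NTGood T)
    (hmax : ∀ j, T.m j ≤ T.m 0)
    (e_0_1 : T.picMatrix 0 1 = 2)
    (e_0_2 : T.picMatrix 0 2 = 1)
    (e_0_3 : T.picMatrix 0 3 = 0)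
    (e_0_4 : T.picMatrix 0 4 = 0)
    (e_0_5 : T.picMatrix 0 5 = 0)
    (e_1_0 : T.picMatrix 1 0 = 1)
    (e_1_2 : T.picMatrix 1 2 = 0)
    (e_1_3 : T.picMatrix 1 3 = 0)
    (e_1_4 : T.picMatrix 1 4 = 0)
    (e_1_5 : T.picMatrix 1 5 = 0)
    (e_2_0 : T.picMatrix 2 0 = 1)
    (e_2_1 : T.picMatrix 2 1 = 0)
    (e_2_3 : T.picMatrix 2 3 = 1)
    (e_2_4 : T.picMatrix 2 4 = 0)
    (e_2_5 : T.picMatrix 2 5 = 0)
    (e_3_0 : T.picMatrix 3 0 = 0)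
    (e_3_1 : T.picMatrix 3 1 = 0)
    (e_3_2 : T.picMatrix 3 2 = 1)
    (e_3_4 : T.picMatrix 3 4 = 1)
    (e_3_5 : T.picMatrix 3 5 = 1)
    (e_4_0 : T.picMatrix 4 0 = 0)
    (e_4_1 : T.picMatrix 4 1 = 0)
    (e_4_2 : T.picMatrix 4 2 = 0)
    (e_4_3 : T.picMatrix 4 3 = 1)
    (e_4_5 : T.picMatrix 4 5 = 0)
    (e_5_0 : T.picMatrix 5 0 = 0)
    (e_5_1 : T.picMatrix 5 1 = 0)
    (e_5_2 : T.picMatrix 5 2 = 0)
    (e_5_3 : T.picMatrix 5 3 = 1)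
    (e_5_4 : T.picMatrix 5 4 = 0)
    (cl : ∀ a b : Fin 7, a.val < 4 → 7 ≤ b.val → T.picMatrix a b = 0)
    (z : ∀ a : Fin 7, a.val < 4 → T.picMatrix a 6 = 0)
    (hne : T.picMatrix 4 6 ≠ 0) :
    Goal T := by
  have e_0_6 : T.picMatrix 0 6 = 0 := z 0 (by decide)
  have e_6_0 : T.picMatrix 6 0 = 0 := nt_pic_zero_symm T 0 6 e_0_6
  have e_1_6 : T.picMatrix 1 6 = 0 := z 1 (by decide)
  have e_6_1 : T.picMatrix 6 1 = 0 := nt_pic_zero_symm T 1 6 e_1_6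
  have e_2_6 : T.picMatrix 2 6 = 0 := z 2 (by decide)
  have e_6_2 : T.picMatrix 6 2 = 0 := nt_pic_zero_symm T 2 6 e_2_6
  have e_3_6 : T.picMatrix 3 6 = 0 := z 3 (by decide)
  have e_6_3 : T.picMatrix 6 3 = 0 := nt_pic_zero_symm T 3 6 e_3_6
  obtain ⟨hg0, hdA, hdP, hnn, hrow, hsym, hpair⟩ := ntgood_data T (by norm_num) hG
  have hm_0 := T.m_pos 0
  have hw_0 := T.w_pos 0
  have hm_1 := T.m_pos 1
  have hw_1 := T.w_pos 1
  have hm_2 := T.m_pos 2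
  have hw_2 := T.w_pos 2
  have hm_3 := T.m_pos 3
  have hw_3 := T.w_pos 3
  have hm_4 := T.m_pos 4
  have hw_4 := T.w_pos 4
  have hm_5 := T.m_pos 5
  have hw_5 := T.w_pos 5
  have hm_6 := T.m_pos 6
  have hw_6 := T.w_pos 6
  have hx_1 := hmax 1
  have hx_2 := hmax 2
  have hx_3 := hmax 3
  have hx_4 := hmax 4
  have hx_5 := hmax 5
  have hx_6 := hmax 6
  have N_4_6 := mul_nonneg (hnn 4 6 (by decide)) (T.m_pos 6).le
  have N_6_4 := mul_nonneg (hnn 6 4 (by decide)) (T.m_pos 4).le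
  have N_5_6 := mul_nonneg (hnn 5 6 (by decide)) (T.m_pos 6).le
  have N_6_5 := mul_nonneg (hnn 6 5 (by decide)) (T.m_pos 5).le
  have R_0 := hrow 0
  rw [Fin.sum_univ_seven, hdP 0, e_0_1, e_0_2, e_0_3, e_0_4, e_0_5, e_0_6] at R_0
  have R_1 := hrow 1
  rw [Fin.sum_univ_seven, hdP 1, e_1_0, e_1_2, e_1_3, e_1_4, e_1_5, e_1_6] at R_1
  have R_2 := hrow 2
  rw [Fin.sum_univ_seven, hdP 2, e_2_0, e_2_1, e_2_3, e_2_4, e_2_5, e_2_6] at R_2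
  have R_3 := hrow 3
  rw [Fin.sum_univ_seven, hdP 3, e_3_0, e_3_1, e_3_2, e_3_4, e_3_5, e_3_6] at R_3
  have R_4 := hrow 4
  rw [Fin.sum_univ_seven, hdP 4, e_4_0, e_4_1, e_4_2, e_4_3, e_4_5] at R_4
  have R_5 := hrow 5
  rw [Fin.sum_univ_seven, hdP 5, e_5_0, e_5_1, e_5_2, e_5_3, e_5_4] at R_5
  have R_6 := hrow 6
  rw [Fin.sum_univ_seven, hdP 6, e_6_0, e_6_1, e_6_2, e_6_3] at R_6
  have S_0_1 := hsym 0 1
  rw [e_0_1, e_1_0] at S_0_1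
  have S_0_2 := hsym 0 2
  rw [e_0_2, e_2_0] at S_0_2
  have S_0_3 := hsym 0 3
  rw [e_0_3, e_3_0] at S_0_3
  have S_0_4 := hsym 0 4
  rw [e_0_4, e_4_0] at S_0_4
  have S_0_5 := hsym 0 5
  rw [e_0_5, e_5_0] at S_0_5
  have S_0_6 := hsym 0 6
  rw [e_0_6, e_6_0] at S_0_6
  have S_1_2 := hsym 1 2
  rw [e_1_2, e_2_1] at S_1_2
  have S_1_3 := hsym 1 3
  rw [e_1_3, e_3_1] at S_1_3
  have S_1_4 := hsym 1 4
  rw [e_1_4, e_4_1] at S_1_4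
  have S_1_5 := hsym 1 5
  rw [e_1_5, e_5_1] at S_1_5
  have S_1_6 := hsym 1 6
  rw [e_1_6, e_6_1] at S_1_6
  have S_2_3 := hsym 2 3
  rw [e_2_3, e_3_2] at S_2_3
  have S_2_4 := hsym 2 4
  rw [e_2_4, e_4_2] at S_2_4
  have S_2_5 := hsym 2 5
  rw [e_2_5, e_5_2] at S_2_5
  have S_2_6 := hsym 2 6
  rw [e_2_6, e_6_2] at S_2_6
  have S_3_4 := hsym 3 4
  rw [e_3_4, e_4_3] at S_3_4
  have S_3_5 := hsym 3 5
  rw [e_3_5, e_5_3] at S_3_5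
  have S_3_6 := hsym 3 6
  rw [e_3_6, e_6_3] at S_3_6
  have S_4_5 := hsym 4 5
  rw [e_4_5, e_5_4] at S_4_5
  have S_4_6 := hsym 4 6
  have S_5_6 := hsym 5 6
  have Q_4 := hpair 4 6 (by decide)
  have Q_5 := hpair 5 6 (by decide)
  generalize e_4_6 : T.picMatrix 4 6 = x_4 at *
  generalize e_6_4 : T.picMatrix 6 4 = y_4 at *
  generalize e_5_6 : T.picMatrix 5 6 = x_5 at *
  generalize e_6_5 : T.picMatrix 6 5 = y_5 at *
  rcases Q_4 with ⟨rfl, rfl⟩ | ⟨rfl, rfl⟩ | ⟨rfl, rfl⟩ | ⟨rfl, rfl⟩ | ⟨rfl, rfl⟩ | ⟨rfl, rfl⟩ | ⟨rfl, rfl⟩ | ⟨rfl, rfl⟩ | ⟨rfl, rfl⟩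
  · exact absurd rfl hne
  · omega
  · omega
  · omega
  · omega
  · omega
  · omega
  · omega
  · omega

theorem nd_893 (T : Models.NumericalType 7)
    (hG : NTGood T)
    (hmax : ∀ j, T.m j ≤ T.m 0)
    (e_0_1 : T.picMatrix 0 1 = 2)
    (e_0_2 : T.picMatrix 0 2 = 1)
    (e_0_3 : T.picMatrix 0 3 = 0)
    (e_0_4 : T.picMatrix 0 4 = 0)
    (e_0_5 : T.picMatrix 0 5 = 0)
    (e_1_0 : T.picMatrix 1 0 = 1)
    (e_1_2 : T.picMatrix 1 2 = 0)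
    (e_1_3 : T.picMatrix 1 3 = 0)
    (e_1_4 : T.picMatrix 1 4 = 0)
    (e_1_5 : T.picMatrix 1 5 = 0)
    (e_2_0 : T.picMatrix 2 0 = 1)
    (e_2_1 : T.picMatrix 2 1 = 0)
    (e_2_3 : T.picMatrix 2 3 = 1)
    (e_2_4 : T.picMatrix 2 4 = 0)
    (e_2_5 : T.picMatrix 2 5 = 0)
    (e_3_0 : T.picMatrix 3 0 = 0)
    (e_3_1 : T.picMatrix 3 1 = 0)
    (e_3_2 : T.picMatrix 3 2 = 1)
    (e_3_4 : T.picMatrix 3 4 = 1)
    (e_3_5 : T.picMatrix 3 5 = 1)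
    (e_4_0 : T.picMatrix 4 0 = 0)
    (e_4_1 : T.picMatrix 4 1 = 0)
    (e_4_2 : T.picMatrix 4 2 = 0)
    (e_4_3 : T.picMatrix 4 3 = 1)
    (e_4_5 : T.picMatrix 4 5 = 0)
    (e_5_0 : T.picMatrix 5 0 = 0)
    (e_5_1 : T.picMatrix 5 1 = 0)
    (e_5_2 : T.picMatrix 5 2 = 0)
    (e_5_3 : T.picMatrix 5 3 = 1)
    (e_5_4 : T.picMatrix 5 4 = 0)
    (cl : ∀ a b : Fin 7, a.val < 4 → 6 ≤ b.val → T.picMatrix a b = 0) :
    Goal T := by
  by_cases hc : ∀ b : Fin 7, 6 ≤ b.val → T.picMatrix 4 b = 0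
  · exact nd_894 T hG hmax e_0_1 e_0_2 e_0_3 e_0_4 e_0_5 e_1_0 e_1_2 e_1_3 e_1_4 e_1_5 e_2_0 e_2_1 e_2_3 e_2_4 e_2_5 e_3_0 e_3_1 e_3_2 e_3_4 e_3_5 e_4_0 e_4_1 e_4_2 e_4_3 e_4_5 e_5_0 e_5_1 e_5_2 e_5_3 e_5_4 (nt_cl_succ T 6 4 4 rfl cl hc)
  · obtain ⟨τ, hfix, cl', z, hne⟩ := nt_wlog_step T 6 (by norm_num) 4 (by norm_num) 4 (by decide) cl hc
    apply goal_relabel T τ
    refine ex_897 (ntRelabel T τ) (hG.relabel τ) ?_ ?_ ?_ ?_ ?_ ?_ ?_ ?_ ?_ ?_ ?_ ?_ ?_ ?_ ?_ ?_ ?_ ?_ ?_ ?_ ?_ ?_ ?_ ?_ ?_ ?_ ?_ ?_ ?_ ?_ ?_ cl' z hne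
    · intro j
      show T.m (τ j) ≤ T.m (τ 0)
      rw [hfix 0 (by decide)]
      exact hmax _
    · show T.picMatrix (τ 0) (τ 1) = 2
      rw [hfix 0 (by decide), hfix 1 (by decide)]
      exact e_0_1
    · show T.picMatrix (τ 0) (τ 2) = 1
      rw [hfix 0 (by decide), hfix 2 (by decide)]
      exact e_0_2
    · show T.picMatrix (τ 0) (τ 3) = 0
      rw [hfix 0 (by decide), hfix 3 (by decide)]
      exact e_0_3
    · show T.picMatrix (τ 0) (τ 4) = 0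
      rw [hfix 0 (by decide), hfix 4 (by decide)]
      exact e_0_4
    · show T.picMatrix (τ 0) (τ 5) = 0
      rw [hfix 0 (by decide), hfix 5 (by decide)]
      exact e_0_5
    · show T.picMatrix (τ 1) (τ 0) = 1
      rw [hfix 1 (by decide), hfix 0 (by decide)]
      exact e_1_0
    · show T.picMatrix (τ 1) (τ 2) = 0
      rw [hfix 1 (by decide), hfix 2 (by decide)]
      exact e_1_2
    · show T.picMatrix (τ 1) (τ 3) = 0
      rw [hfix 1 (by decide), hfix 3 (by decide)]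
      exact e_1_3
    · show T.picMatrix (τ 1) (τ 4) = 0
      rw [hfix 1 (by decide), hfix 4 (by decide)]
      exact e_1_4
    · show T.picMatrix (τ 1) (τ 5) = 0
      rw [hfix 1 (by decide), hfix 5 (by decide)]
      exact e_1_5
    · show T.picMatrix (τ 2) (τ 0) = 1
      rw [hfix 2 (by decide), hfix 0 (by decide)]
      exact e_2_0
    · show T.picMatrix (τ 2) (τ 1) = 0
      rw [hfix 2 (by decide), hfix 1 (by decide)]
      exact e_2_1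
    · show T.picMatrix (τ 2) (τ 3) = 1
      rw [hfix 2 (by decide), hfix 3 (by decide)]
      exact e_2_3
    · show T.picMatrix (τ 2) (τ 4) = 0
      rw [hfix 2 (by decide), hfix 4 (by decide)]
      exact e_2_4
    · show T.picMatrix (τ 2) (τ 5) = 0
      rw [hfix 2 (by decide), hfix 5 (by decide)]
      exact e_2_5
    · show T.picMatrix (τ 3) (τ 0) = 0
      rw [hfix 3 (by decide), hfix 0 (by decide)]
      exact e_3_0
    · show T.picMatrix (τ 3) (τ 1) = 0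
      rw [hfix 3 (by decide), hfix 1 (by decide)]
      exact e_3_1
    · show T.picMatrix (τ 3) (τ 2) = 1
      rw [hfix 3 (by decide), hfix 2 (by decide)]
      exact e_3_2
    · show T.picMatrix (τ 3) (τ 4) = 1
      rw [hfix 3 (by decide), hfix 4 (by decide)]
      exact e_3_4
    · show T.picMatrix (τ 3) (τ 5) = 1
      rw [hfix 3 (by decide), hfix 5 (by decide)]
      exact e_3_5
    · show T.picMatrix (τ 4) (τ 0) = 0
      rw [hfix 4 (by decide), hfix 0 (by decide)]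
      exact e_4_0
    · show T.picMatrix (τ 4) (τ 1) = 0
      rw [hfix 4 (by decide), hfix 1 (by decide)]
      exact e_4_1
    · show T.picMatrix (τ 4) (τ 2) = 0
      rw [hfix 4 (by decide), hfix 2 (by decide)]
      exact e_4_2
    · show T.picMatrix (τ 4) (τ 3) = 1
      rw [hfix 4 (by decide), hfix 3 (by decide)]
      exact e_4_3
    · show T.picMatrix (τ 4) (τ 5) = 0
      rw [hfix 4 (by decide), hfix 5 (by decide)]
      exact e_4_5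
    · show T.picMatrix (τ 5) (τ 0) = 0
      rw [hfix 5 (by decide), hfix 0 (by decide)]
      exact e_5_0
    · show T.picMatrix (τ 5) (τ 1) = 0
      rw [hfix 5 (by decide), hfix 1 (by decide)]
      exact e_5_1
    · show T.picMatrix (τ 5) (τ 2) = 0
      rw [hfix 5 (by decide), hfix 2 (by decide)]
      exact e_5_2
    · show T.picMatrix (τ 5) (τ 3) = 1
      rw [hfix 5 (by decide), hfix 3 (by decide)]
      exact e_5_3
    · show T.picMatrix (τ 5) (τ 4) = 0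
      rw [hfix 5 (by decide), hfix 4 (by decide)]
      exact e_5_4

theorem ex_898 (T : Models.NumericalType 7)
    (hG : NTGood T)
    (hmax : ∀ j, T.m j ≤ T.m 0)
    (e_0_1 : T.picMatrix 0 1 = 2)
    (e_0_2 : T.picMatrix 0 2 = 1)
    (e_0_3 : T.picMatrix 0 3 = 0)
    (e_0_4 : T.picMatrix 0 4 = 0)
    (e_0_5 : T.picMatrix 0 5 = 0)
    (e_1_0 : T.picMatrix 1 0 = 1)
    (e_1_2 : T.picMatrix 1 2 = 0)
    (e_1_3 : T.picMatrix 1 3 = 0)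
    (e_1_4 : T.picMatrix 1 4 = 0)
    (e_1_5 : T.picMatrix 1 5 = 0)
    (e_2_0 : T.picMatrix 2 0 = 1)
    (e_2_1 : T.picMatrix 2 1 = 0)
    (e_2_3 : T.picMatrix 2 3 = 1)
    (e_2_4 : T.picMatrix 2 4 = 0)
    (e_2_5 : T.picMatrix 2 5 = 0)
    (e_3_0 : T.picMatrix 3 0 = 0)
    (e_3_1 : T.picMatrix 3 1 = 0)
    (e_3_2 : T.picMatrix 3 2 = 1)
    (e_3_4 : T.picMatrix 3 4 = 1)
    (e_3_5 : T.picMatrix 3 5 = 1)
    (e_4_0 : T.picMatrix 4 0 = 0)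
    (e_4_1 : T.picMatrix 4 1 = 0)
    (e_4_2 : T.picMatrix 4 2 = 0)
    (e_4_3 : T.picMatrix 4 3 = 1)
    (e_4_5 : T.picMatrix 4 5 = 0)
    (e_5_0 : T.picMatrix 5 0 = 0)
    (e_5_1 : T.picMatrix 5 1 = 0)
    (e_5_2 : T.picMatrix 5 2 = 0)
    (e_5_3 : T.picMatrix 5 3 = 1)
    (e_5_4 : T.picMatrix 5 4 = 0)
    (cl : ∀ a b : Fin 7, a.val < 3 → 7 ≤ b.val → T.picMatrix a b = 0)
    (z : ∀ a : Fin 7, a.val < 3 → T.picMatrix a 6 = 0)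
    (hne : T.picMatrix 3 6 ≠ 0) :
    Goal T := by
  have e_0_6 : T.picMatrix 0 6 = 0 := z 0 (by decide)
  have e_6_0 : T.picMatrix 6 0 = 0 := nt_pic_zero_symm T 0 6 e_0_6
  have e_1_6 : T.picMatrix 1 6 = 0 := z 1 (by decide)
  have e_6_1 : T.picMatrix 6 1 = 0 := nt_pic_zero_symm T 1 6 e_1_6
  have e_2_6 : T.picMatrix 2 6 = 0 := z 2 (by decide)
  have e_6_2 : T.picMatrix 6 2 = 0 := nt_pic_zero_symm T 2 6 e_2_6
  obtain ⟨hg0, hdA, hdP, hnn, hrow, hsym, hpair⟩ := ntgood_data T (by norm_num) hG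
  have hm_0 := T.m_pos 0
  have hw_0 := T.w_pos 0
  have hm_1 := T.m_pos 1
  have hw_1 := T.w_pos 1
  have hm_2 := T.m_pos 2
  have hw_2 := T.w_pos 2
  have hm_3 := T.m_pos 3
  have hw_3 := T.w_pos 3
  have hm_4 := T.m_pos 4
  have hw_4 := T.w_pos 4
  have hm_5 := T.m_pos 5
  have hw_5 := T.w_pos 5
  have hm_6 := T.m_pos 6
  have hw_6 := T.w_pos 6
  have hx_1 := hmax 1
  have hx_2 := hmax 2
  have hx_3 := hmax 3
  have hx_4 := hmax 4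
  have hx_5 := hmax 5
  have hx_6 := hmax 6
  have N_3_6 := mul_nonneg (hnn 3 6 (by decide)) (T.m_pos 6).le
  have N_6_3 := mul_nonneg (hnn 6 3 (by decide)) (T.m_pos 3).le
  have N_4_6 := mul_nonneg (hnn 4 6 (by decide)) (T.m_pos 6).le
  have N_6_4 := mul_nonneg (hnn 6 4 (by decide)) (T.m_pos 4).le
  have N_5_6 := mul_nonneg (hnn 5 6 (by decide)) (T.m_pos 6).le
  have N_6_5 := mul_nonneg (hnn 6 5 (by decide)) (T.m_pos 5).le
  have R_0 := hrow 0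
  rw [Fin.sum_univ_seven, hdP 0, e_0_1, e_0_2, e_0_3, e_0_4, e_0_5, e_0_6] at R_0
  have R_1 := hrow 1
  rw [Fin.sum_univ_seven, hdP 1, e_1_0, e_1_2, e_1_3, e_1_4, e_1_5, e_1_6] at R_1
  have R_2 := hrow 2
  rw [Fin.sum_univ_seven, hdP 2, e_2_0, e_2_1, e_2_3, e_2_4, e_2_5, e_2_6] at R_2
  have R_3 := hrow 3
  rw [Fin.sum_univ_seven, hdP 3, e_3_0, e_3_1, e_3_2, e_3_4, e_3_5] at R_3
  have R_4 := hrow 4
  rw [Fin.sum_univ_seven, hdP 4, e_4_0, e_4_1, e_4_2, e_4_3, e_4_5] at R_4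
  have R_5 := hrow 5
  rw [Fin.sum_univ_seven, hdP 5, e_5_0, e_5_1, e_5_2, e_5_3, e_5_4] at R_5
  have R_6 := hrow 6
  rw [Fin.sum_univ_seven, hdP 6, e_6_0, e_6_1, e_6_2] at R_6
  have S_0_1 := hsym 0 1
  rw [e_0_1, e_1_0] at S_0_1
  have S_0_2 := hsym 0 2
  rw [e_0_2, e_2_0] at S_0_2
  have S_0_3 := hsym 0 3
  rw [e_0_3, e_3_0] at S_0_3
  have S_0_4 := hsym 0 4
  rw [e_0_4, e_4_0] at S_0_4
  have S_0_5 := hsym 0 5
  rw [e_0_5, e_5_0] at S_0_5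
  have S_0_6 := hsym 0 6
  rw [e_0_6, e_6_0] at S_0_6
  have S_1_2 := hsym 1 2
  rw [e_1_2, e_2_1] at S_1_2
  have S_1_3 := hsym 1 3
  rw [e_1_3, e_3_1] at S_1_3
  have S_1_4 := hsym 1 4
  rw [e_1_4, e_4_1] at S_1_4
  have S_1_5 := hsym 1 5
  rw [e_1_5, e_5_1] at S_1_5
  have S_1_6 := hsym 1 6
  rw [e_1_6, e_6_1] at S_1_6
  have S_2_3 := hsym 2 3
  rw [e_2_3, e_3_2] at S_2_3
  have S_2_4 := hsym 2 4
  rw [e_2_4, e_4_2] at S_2_4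
  have S_2_5 := hsym 2 5
  rw [e_2_5, e_5_2] at S_2_5
  have S_2_6 := hsym 2 6
  rw [e_2_6, e_6_2] at S_2_6
  have S_3_4 := hsym 3 4
  rw [e_3_4, e_4_3] at S_3_4
  have S_3_5 := hsym 3 5
  rw [e_3_5, e_5_3] at S_3_5
  have S_3_6 := hsym 3 6
  have S_4_5 := hsym 4 5
  rw [e_4_5, e_5_4] at S_4_5
  have S_4_6 := hsym 4 6
  have S_5_6 := hsym 5 6
  have Q_3 := hpair 3 6 (by decide)
  have Q_4 := hpair 4 6 (by decide)
  have Q_5 := hpair 5 6 (by decide)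
  generalize e_3_6 : T.picMatrix 3 6 = x_3 at *
  generalize e_6_3 : T.picMatrix 6 3 = y_3 at *
  generalize e_4_6 : T.picMatrix 4 6 = x_4 at *
  generalize e_6_4 : T.picMatrix 6 4 = y_4 at *
  generalize e_5_6 : T.picMatrix 5 6 = x_5 at *
  generalize e_6_5 : T.picMatrix 6 5 = y_5 at *
  rcases Q_3 with ⟨rfl, rfl⟩ | ⟨rfl, rfl⟩ | ⟨rfl, rfl⟩ | ⟨rfl, rfl⟩ | ⟨rfl, rfl⟩ | ⟨rfl, rfl⟩ | ⟨rfl, rfl⟩ | ⟨rfl, rfl⟩ | ⟨rfl, rfl⟩
  · exact absurd rfl hne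
  · omega
  · omega
  · omega
  · omega
  · omega
  · omega
  · omega
  · omega

theorem nd_892 (T : Models.NumericalType 7)
    (hG : NTGood T)
    (hmax : ∀ j, T.m j ≤ T.m 0)
    (e_0_1 : T.picMatrix 0 1 = 2)
    (e_0_2 : T.picMatrix 0 2 = 1)
    (e_0_3 : T.picMatrix 0 3 = 0)
    (e_0_4 : T.picMatrix 0 4 = 0)
    (e_0_5 : T.picMatrix 0 5 = 0)
    (e_1_0 : T.picMatrix 1 0 = 1)
    (e_1_2 : T.picMatrix 1 2 = 0)
    (e_1_3 : T.picMatrix 1 3 = 0)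
    (e_1_4 : T.picMatrix 1 4 = 0)
    (e_1_5 : T.picMatrix 1 5 = 0)
    (e_2_0 : T.picMatrix 2 0 = 1)
    (e_2_1 : T.picMatrix 2 1 = 0)
    (e_2_3 : T.picMatrix 2 3 = 1)
    (e_2_4 : T.picMatrix 2 4 = 0)
    (e_2_5 : T.picMatrix 2 5 = 0)
    (e_3_0 : T.picMatrix 3 0 = 0)
    (e_3_1 : T.picMatrix 3 1 = 0)
    (e_3_2 : T.picMatrix 3 2 = 1)
    (e_3_4 : T.picMatrix 3 4 = 1)
    (e_3_5 : T.picMatrix 3 5 = 1)
    (e_4_0 : T.picMatrix 4 0 = 0)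
    (e_4_1 : T.picMatrix 4 1 = 0)
    (e_4_2 : T.picMatrix 4 2 = 0)
    (e_4_3 : T.picMatrix 4 3 = 1)
    (e_4_5 : T.picMatrix 4 5 = 0)
    (e_5_0 : T.picMatrix 5 0 = 0)
    (e_5_1 : T.picMatrix 5 1 = 0)
    (e_5_2 : T.picMatrix 5 2 = 0)
    (e_5_3 : T.picMatrix 5 3 = 1)
    (e_5_4 : T.picMatrix 5 4 = 0)
    (cl : ∀ a b : Fin 7, a.val < 3 → 6 ≤ b.val → T.picMatrix a b = 0) :
    Goal T := by
  by_cases hc : ∀ b : Fin 7, 6 ≤ b.val → T.picMatrix 3 b = 0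
  · exact nd_893 T hG hmax e_0_1 e_0_2 e_0_3 e_0_4 e_0_5 e_1_0 e_1_2 e_1_3 e_1_4 e_1_5 e_2_0 e_2_1 e_2_3 e_2_4 e_2_5 e_3_0 e_3_1 e_3_2 e_3_4 e_3_5 e_4_0 e_4_1 e_4_2 e_4_3 e_4_5 e_5_0 e_5_1 e_5_2 e_5_3 e_5_4 (nt_cl_succ T 6 3 3 rfl cl hc)
  · obtain ⟨τ, hfix, cl', z, hne⟩ := nt_wlog_step T 6 (by norm_num) 3 (by norm_num) 3 (by decide) cl hc
    apply goal_relabel T τ
    refine ex_898 (ntRelabel T τ) (hG.relabel τ) ?_ ?_ ?_ ?_ ?_ ?_ ?_ ?_ ?_ ?_ ?_ ?_ ?_ ?_ ?_ ?_ ?_ ?_ ?_ ?_ ?_ ?_ ?_ ?_ ?_ ?_ ?_ ?_ ?_ ?_ ?_ cl' z hne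
    · intro j
      show T.m (τ j) ≤ T.m (τ 0)
      rw [hfix 0 (by decide)]
      exact hmax _
    · show T.picMatrix (τ 0) (τ 1) = 2
      rw [hfix 0 (by decide), hfix 1 (by decide)]
      exact e_0_1
    · show T.picMatrix (τ 0) (τ 2) = 1
      rw [hfix 0 (by decide), hfix 2 (by decide)]
      exact e_0_2
    · show T.picMatrix (τ 0) (τ 3) = 0
      rw [hfix 0 (by decide), hfix 3 (by decide)]
      exact e_0_3
    · show T.picMatrix (τ 0) (τ 4) = 0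
      rw [hfix 0 (by decide), hfix 4 (by decide)]
      exact e_0_4
    · show T.picMatrix (τ 0) (τ 5) = 0
      rw [hfix 0 (by decide), hfix 5 (by decide)]
      exact e_0_5
    · show T.picMatrix (τ 1) (τ 0) = 1
      rw [hfix 1 (by decide), hfix 0 (by decide)]
      exact e_1_0
    · show T.picMatrix (τ 1) (τ 2) = 0
      rw [hfix 1 (by decide), hfix 2 (by decide)]
      exact e_1_2
    · show T.picMatrix (τ 1) (τ 3) = 0
      rw [hfix 1 (by decide), hfix 3 (by decide)]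
      exact e_1_3
    · show T.picMatrix (τ 1) (τ 4) = 0
      rw [hfix 1 (by decide), hfix 4 (by decide)]
      exact e_1_4
    · show T.picMatrix (τ 1) (τ 5) = 0
      rw [hfix 1 (by decide), hfix 5 (by decide)]
      exact e_1_5
    · show T.picMatrix (τ 2) (τ 0) = 1
      rw [hfix 2 (by decide), hfix 0 (by decide)]
      exact e_2_0
    · show T.picMatrix (τ 2) (τ 1) = 0
      rw [hfix 2 (by decide), hfix 1 (by decide)]
      exact e_2_1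
    · show T.picMatrix (τ 2) (τ 3) = 1
      rw [hfix 2 (by decide), hfix 3 (by decide)]
      exact e_2_3
    · show T.picMatrix (τ 2) (τ 4) = 0
      rw [hfix 2 (by decide), hfix 4 (by decide)]
      exact e_2_4
    · show T.picMatrix (τ 2) (τ 5) = 0
      rw [hfix 2 (by decide), hfix 5 (by decide)]
      exact e_2_5
    · show T.picMatrix (τ 3) (τ 0) = 0
      rw [hfix 3 (by decide), hfix 0 (by decide)]
      exact e_3_0
    · show T.picMatrix (τ 3) (τ 1) = 0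
      rw [hfix 3 (by decide), hfix 1 (by decide)]
      exact e_3_1
    · show T.picMatrix (τ 3) (τ 2) = 1
      rw [hfix 3 (by decide), hfix 2 (by decide)]
      exact e_3_2
    · show T.picMatrix (τ 3) (τ 4) = 1
      rw [hfix 3 (by decide), hfix 4 (by decide)]
      exact e_3_4
    · show T.picMatrix (τ 3) (τ 5) = 1
      rw [hfix 3 (by decide), hfix 5 (by decide)]
      exact e_3_5
    · show T.picMatrix (τ 4) (τ 0) = 0
      rw [hfix 4 (by decide), hfix 0 (by decide)]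
      exact e_4_0
    · show T.picMatrix (τ 4) (τ 1) = 0
      rw [hfix 4 (by decide), hfix 1 (by decide)]
      exact e_4_1
    · show T.picMatrix (τ 4) (τ 2) = 0
      rw [hfix 4 (by decide), hfix 2 (by decide)]
      exact e_4_2
    · show T.picMatrix (τ 4) (τ 3) = 1
      rw [hfix 4 (by decide), hfix 3 (by decide)]
      exact e_4_3
    · show T.picMatrix (τ 4) (τ 5) = 0
      rw [hfix 4 (by decide), hfix 5 (by decide)]
      exact e_4_5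
    · show T.picMatrix (τ 5) (τ 0) = 0
      rw [hfix 5 (by decide), hfix 0 (by decide)]
      exact e_5_0
    · show T.picMatrix (τ 5) (τ 1) = 0
      rw [hfix 5 (by decide), hfix 1 (by decide)]
      exact e_5_1
    · show T.picMatrix (τ 5) (τ 2) = 0
      rw [hfix 5 (by decide), hfix 2 (by decide)]
      exact e_5_2
    · show T.picMatrix (τ 5) (τ 3) = 1
      rw [hfix 5 (by decide), hfix 3 (by decide)]
      exact e_5_3
    · show T.picMatrix (τ 5) (τ 4) = 0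
      rw [hfix 5 (by decide), hfix 4 (by decide)]
      exact e_5_4

theorem ex_891 (T : Models.NumericalType 7)
    (hG : NTGood T)
    (hmax : ∀ j, T.m j ≤ T.m 0)
    (e_0_1 : T.picMatrix 0 1 = 2)
    (e_0_2 : T.picMatrix 0 2 = 1)
    (e_0_3 : T.picMatrix 0 3 = 0)
    (e_0_4 : T.picMatrix 0 4 = 0)
    (e_1_0 : T.picMatrix 1 0 = 1)
    (e_1_2 : T.picMatrix 1 2 = 0)
    (e_1_3 : T.picMatrix 1 3 = 0)
    (e_1_4 : T.picMatrix 1 4 = 0)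
    (e_2_0 : T.picMatrix 2 0 = 1)
    (e_2_1 : T.picMatrix 2 1 = 0)
    (e_2_3 : T.picMatrix 2 3 = 1)
    (e_2_4 : T.picMatrix 2 4 = 0)
    (e_3_0 : T.picMatrix 3 0 = 0)
    (e_3_1 : T.picMatrix 3 1 = 0)
    (e_3_2 : T.picMatrix 3 2 = 1)
    (e_3_4 : T.picMatrix 3 4 = 1)
    (e_4_0 : T.picMatrix 4 0 = 0)
    (e_4_1 : T.picMatrix 4 1 = 0)
    (e_4_2 : T.picMatrix 4 2 = 0)
    (e_4_3 : T.picMatrix 4 3 = 1)
    (cl : ∀ a b : Fin 7, a.val < 3 → 6 ≤ b.val → T.picMatrix a b = 0)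
    (z : ∀ a : Fin 7, a.val < 3 → T.picMatrix a 5 = 0)
    (hne : T.picMatrix 3 5 ≠ 0) :
    Goal T := by
  have e_0_5 : T.picMatrix 0 5 = 0 := z 0 (by decide)
  have e_5_0 : T.picMatrix 5 0 = 0 := nt_pic_zero_symm T 0 5 e_0_5
  have e_1_5 : T.picMatrix 1 5 = 0 := z 1 (by decide)
  have e_5_1 : T.picMatrix 5 1 = 0 := nt_pic_zero_symm T 1 5 e_1_5
  have e_2_5 : T.picMatrix 2 5 = 0 := z 2 (by decide)
  have e_5_2 : T.picMatrix 5 2 = 0 := nt_pic_zero_symm T 2 5 e_2_5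
  obtain ⟨hg0, hdA, hdP, hnn, hrow, hsym, hpair⟩ := ntgood_data T (by norm_num) hG
  have hm_0 := T.m_pos 0
  have hw_0 := T.w_pos 0
  have hm_1 := T.m_pos 1
  have hw_1 := T.w_pos 1
  have hm_2 := T.m_pos 2
  have hw_2 := T.w_pos 2
  have hm_3 := T.m_pos 3
  have hw_3 := T.w_pos 3
  have hm_4 := T.m_pos 4
  have hw_4 := T.w_pos 4
  have hm_5 := T.m_pos 5
  have hw_5 := T.w_pos 5
  have hx_1 := hmax 1
  have hx_2 := hmax 2
  have hx_3 := hmax 3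
  have hx_4 := hmax 4
  have hx_5 := hmax 5
  have Z_0_6 := cl 0 6 (by decide) (by decide)
  have Z_1_6 := cl 1 6 (by decide) (by decide)
  have Z_2_6 := cl 2 6 (by decide) (by decide)
  have N_3_6 := mul_nonneg (hnn 3 6 (by decide)) (T.m_pos 6).le
  have N_4_6 := mul_nonneg (hnn 4 6 (by decide)) (T.m_pos 6).le
  have N_5_6 := mul_nonneg (hnn 5 6 (by decide)) (T.m_pos 6).le
  have N_3_5 := mul_nonneg (hnn 3 5 (by decide)) (T.m_pos 5).le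
  have N_5_3 := mul_nonneg (hnn 5 3 (by decide)) (T.m_pos 3).le
  have N_4_5 := mul_nonneg (hnn 4 5 (by decide)) (T.m_pos 5).le
  have N_5_4 := mul_nonneg (hnn 5 4 (by decide)) (T.m_pos 4).le
  have R_0 := hrow 0
  rw [Fin.sum_univ_seven, hdP 0, e_0_1, e_0_2, e_0_3, e_0_4, e_0_5, Z_0_6] at R_0
  have R_1 := hrow 1
  rw [Fin.sum_univ_seven, hdP 1, e_1_0, e_1_2, e_1_3, e_1_4, e_1_5, Z_1_6] at R_1
  have R_2 := hrow 2
  rw [Fin.sum_univ_seven, hdP 2, e_2_0, e_2_1, e_2_3, e_2_4, e_2_5, Z_2_6] at R_2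
  have R_3 := hrow 3
  rw [Fin.sum_univ_seven, hdP 3, e_3_0, e_3_1, e_3_2, e_3_4] at R_3
  have R_4 := hrow 4
  rw [Fin.sum_univ_seven, hdP 4, e_4_0, e_4_1, e_4_2, e_4_3] at R_4
  have R_5 := hrow 5
  rw [Fin.sum_univ_seven, hdP 5, e_5_0, e_5_1, e_5_2] at R_5
  have S_0_1 := hsym 0 1
  rw [e_0_1, e_1_0] at S_0_1
  have S_0_2 := hsym 0 2
  rw [e_0_2, e_2_0] at S_0_2
  have S_0_3 := hsym 0 3
  rw [e_0_3, e_3_0] at S_0_3
  have S_0_4 := hsym 0 4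
  rw [e_0_4, e_4_0] at S_0_4
  have S_0_5 := hsym 0 5
  rw [e_0_5, e_5_0] at S_0_5
  have S_1_2 := hsym 1 2
  rw [e_1_2, e_2_1] at S_1_2
  have S_1_3 := hsym 1 3
  rw [e_1_3, e_3_1] at S_1_3
  have S_1_4 := hsym 1 4
  rw [e_1_4, e_4_1] at S_1_4
  have S_1_5 := hsym 1 5
  rw [e_1_5, e_5_1] at S_1_5
  have S_2_3 := hsym 2 3
  rw [e_2_3, e_3_2] at S_2_3
  have S_2_4 := hsym 2 4
  rw [e_2_4, e_4_2] at S_2_4
  have S_2_5 := hsym 2 5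
  rw [e_2_5, e_5_2] at S_2_5
  have S_3_4 := hsym 3 4
  rw [e_3_4, e_4_3] at S_3_4
  have S_3_5 := hsym 3 5
  have S_4_5 := hsym 4 5
  have Q_3 := hpair 3 5 (by decide)
  have Q_4 := hpair 4 5 (by decide)
  generalize e_3_5 : T.picMatrix 3 5 = x_3 at *
  generalize e_5_3 : T.picMatrix 5 3 = y_3 at *
  generalize e_4_5 : T.picMatrix 4 5 = x_4 at *
  generalize e_5_4 : T.picMatrix 5 4 = y_4 at *
  rcases Q_3 with ⟨rfl, rfl⟩ | ⟨rfl, rfl⟩ | ⟨rfl, rfl⟩ | ⟨rfl, rfl⟩ | ⟨rfl, rfl⟩ | ⟨rfl, rfl⟩ | ⟨rfl, rfl⟩ | ⟨rfl, rfl⟩ | ⟨rfl, rfl⟩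
  · exact absurd rfl hne
  · -- (3,5) = (1,1)
    rcases Q_4 with ⟨rfl, rfl⟩ | ⟨rfl, rfl⟩ | ⟨rfl, rfl⟩ | ⟨rfl, rfl⟩ | ⟨rfl, rfl⟩ | ⟨rfl, rfl⟩ | ⟨rfl, rfl⟩ | ⟨rfl, rfl⟩ | ⟨rfl, rfl⟩
    · -- (4,5) = (0,0)
      exact nd_892 T hG hmax e_0_1 e_0_2 e_0_3 e_0_4 e_0_5 e_1_0 e_1_2 e_1_3 e_1_4 e_1_5 e_2_0 e_2_1 e_2_3 e_2_4 e_2_5 e_3_0 e_3_1 e_3_2 e_3_4 e_3_5 e_4_0 e_4_1 e_4_2 e_4_3 e_4_5 e_5_0 e_5_1 e_5_2 e_5_3 e_5_4 cl
    · -- (4,5) = (1,1)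
      omega
    · -- (4,5) = (1,2)
      omega
    · -- (4,5) = (2,1)
      omega
    · -- (4,5) = (1,3)
      omega
    · -- (4,5) = (3,1)
      omega
    · -- (4,5) = (1,4)
      omega
    · -- (4,5) = (4,1)
      omega
    · -- (4,5) = (2,2)
      omega
  · omega
  · omega
  · omega
  · omega
  · omega
  · omega
  · omega

theorem nd_869 (T : Models.NumericalType 7)
    (hG : NTGood T)
    (hmax : ∀ j, T.m j ≤ T.m 0)
    (e_0_1 : T.picMatrix 0 1 = 2)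
    (e_0_2 : T.picMatrix 0 2 = 1)
    (e_0_3 : T.picMatrix 0 3 = 0)
    (e_0_4 : T.picMatrix 0 4 = 0)
    (e_1_0 : T.picMatrix 1 0 = 1)
    (e_1_2 : T.picMatrix 1 2 = 0)
    (e_1_3 : T.picMatrix 1 3 = 0)
    (e_1_4 : T.picMatrix 1 4 = 0)
    (e_2_0 : T.picMatrix 2 0 = 1)
    (e_2_1 : T.picMatrix 2 1 = 0)
    (e_2_3 : T.picMatrix 2 3 = 1)
    (e_2_4 : T.picMatrix 2 4 = 0)
    (e_3_0 : T.picMatrix 3 0 = 0)
    (e_3_1 : T.picMatrix 3 1 = 0)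
    (e_3_2 : T.picMatrix 3 2 = 1)
    (e_3_4 : T.picMatrix 3 4 = 1)
    (e_4_0 : T.picMatrix 4 0 = 0)
    (e_4_1 : T.picMatrix 4 1 = 0)
    (e_4_2 : T.picMatrix 4 2 = 0)
    (e_4_3 : T.picMatrix 4 3 = 1)
    (cl : ∀ a b : Fin 7, a.val < 3 → 5 ≤ b.val → T.picMatrix a b = 0) :
    Goal T := by
  by_cases hc : ∀ b : Fin 7, 5 ≤ b.val → T.picMatrix 3 b = 0
  · exact nd_870 T hG hmax e_0_1 e_0_2 e_0_3 e_0_4 e_1_0 e_1_2 e_1_3 e_1_4 e_2_0 e_2_1 e_2_3 e_2_4 e_3_0 e_3_1 e_3_2 e_3_4 e_4_0 e_4_1 e_4_2 e_4_3 (nt_cl_succ T 5 3 3 rfl cl hc)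
  · obtain ⟨τ, hfix, cl', z, hne⟩ := nt_wlog_step T 5 (by norm_num) 3 (by norm_num) 3 (by decide) cl hc
    apply goal_relabel T τ
    refine ex_891 (ntRelabel T τ) (hG.relabel τ) ?_ ?_ ?_ ?_ ?_ ?_ ?_ ?_ ?_ ?_ ?_ ?_ ?_ ?_ ?_ ?_ ?_ ?_ ?_ ?_ ?_ cl' z hne
    · intro j
      show T.m (τ j) ≤ T.m (τ 0)
      rw [hfix 0 (by decide)]
      exact hmax _
    · show T.picMatrix (τ 0) (τ 1) = 2
      rw [hfix 0 (by decide), hfix 1 (by decide)]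
      exact e_0_1
    · show T.picMatrix (τ 0) (τ 2) = 1
      rw [hfix 0 (by decide), hfix 2 (by decide)]
      exact e_0_2
    · show T.picMatrix (τ 0) (τ 3) = 0
      rw [hfix 0 (by decide), hfix 3 (by decide)]
      exact e_0_3
    · show T.picMatrix (τ 0) (τ 4) = 0
      rw [hfix 0 (by decide), hfix 4 (by decide)]
      exact e_0_4
    · show T.picMatrix (τ 1) (τ 0) = 1
      rw [hfix 1 (by decide), hfix 0 (by decide)]
      exact e_1_0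
    · show T.picMatrix (τ 1) (τ 2) = 0
      rw [hfix 1 (by decide), hfix 2 (by decide)]
      exact e_1_2
    · show T.picMatrix (τ 1) (τ 3) = 0
      rw [hfix 1 (by decide), hfix 3 (by decide)]
      exact e_1_3
    · show T.picMatrix (τ 1) (τ 4) = 0
      rw [hfix 1 (by decide), hfix 4 (by decide)]
      exact e_1_4
    · show T.picMatrix (τ 2) (τ 0) = 1
      rw [hfix 2 (by decide), hfix 0 (by decide)]
      exact e_2_0
    · show T.picMatrix (τ 2) (τ 1) = 0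
      rw [hfix 2 (by decide), hfix 1 (by decide)]
      exact e_2_1
    · show T.picMatrix (τ 2) (τ 3) = 1
      rw [hfix 2 (by decide), hfix 3 (by decide)]
      exact e_2_3
    · show T.picMatrix (τ 2) (τ 4) = 0
      rw [hfix 2 (by decide), hfix 4 (by decide)]
      exact e_2_4
    · show T.picMatrix (τ 3) (τ 0) = 0
      rw [hfix 3 (by decide), hfix 0 (by decide)]
      exact e_3_0
    · show T.picMatrix (τ 3) (τ 1) = 0
      rw [hfix 3 (by decide), hfix 1 (by decide)]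
      exact e_3_1
    · show T.picMatrix (τ 3) (τ 2) = 1
      rw [hfix 3 (by decide), hfix 2 (by decide)]
      exact e_3_2
    · show T.picMatrix (τ 3) (τ 4) = 1
      rw [hfix 3 (by decide), hfix 4 (by decide)]
      exact e_3_4
    · show T.picMatrix (τ 4) (τ 0) = 0
      rw [hfix 4 (by decide), hfix 0 (by decide)]
      exact e_4_0
    · show T.picMatrix (τ 4) (τ 1) = 0
      rw [hfix 4 (by decide), hfix 1 (by decide)]
      exact e_4_1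
    · show T.picMatrix (τ 4) (τ 2) = 0
      rw [hfix 4 (by decide), hfix 2 (by decide)]
      exact e_4_2
    · show T.picMatrix (τ 4) (τ 3) = 1
      rw [hfix 4 (by decide), hfix 3 (by decide)]
      exact e_4_3

end Groth.Agent.Lib.helper4.G7
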